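/-
Gram matrices of hermitian forms, adjoints, and the matrices of rank one attached to a vector.
-/
import Cfsg.Agent.Lib.Geo.TensorLinearFinal
import Cfsg.Agent.Lib.Classical.Unitary.Transvection
import Mathlib.LinearAlgebra.Matrix.Charpoly.Coeff

set_option autoImplicit false
set_option linter.unusedSectionVars false

namespace CfsgLib.Geo.UnitWreath

open Matrix CfsgLib.Geo.TensorLinear
open scoped Kronecker

variable {F : Type*} [Field F] {σ : F →+* F}
variable {ι κ μ : Type} [Fintype ι] [DecidableEq ι] [Fintype κ] [DecidableEq κ] [Fintype μ] [DecidableEq μ]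

/-- The Gram matrix of a non-degenerate hermitian form. -/
structure IsGram (σ : F →+* F) (G : Matrix ι ι F) : Prop where
  invol : ∀ a, σ (σ a) = a
  symm : (G.map σ)ᵀ = G
  unit : IsUnit G.det

/-- The adjoint of a matrix for two forms. -/
noncomputable def adj (σ : F →+* F) (G₁ : Matrix ι ι F) (G₂ : Matrix κ κ F) (M : Matrix ι κ F) : Matrix κ ι F :=
  G₂⁻¹ * (M.map σ)ᵀ * G₁

/-- The coefficient vector of the functional of a vector. -/
def phi (σ : F →+* F) (G : Matrix ι ι F) (x : ι → F) : ι → F := (σ ∘ x) ᵥ* G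

/-- The hermitian form, semilinear in the first argument. -/
def ip (σ : F →+* F) (G : Matrix ι ι F) (x y : ι → F) : F := phi σ G x ⬝ᵥ y

/-- The matrix `y ↦ g(x, y) x`. -/
def sqr (σ : F →+* F) (G : Matrix ι ι F) (x : ι → F) : Matrix ι ι F := vecMulVec x (phi σ G x)

/-- The special unitary matrices. -/
def SUnit (σ : F →+* F) (G u : Matrix ι ι F) : Prop := adj σ G G u * u = 1 ∧ u.det = 1

/-! ### The form -/

section
variable {G : Matrix ι ι F}

theorem phi_add (x y : ι → F) : phi σ G (x + y) = phi σ G x + phi σ G y := by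
  rw [phi, phi, phi, ← Matrix.add_vecMul]; congr 1; funext i; simp

theorem phi_smul (c : F) (x : ι → F) : phi σ G (c • x) = σ c • phi σ G x := by
  rw [phi, phi, ← Matrix.smul_vecMul]; congr 1; funext i; simp

theorem phi_zero : phi σ G (0 : ι → F) = 0 := by
  rw [phi, show σ ∘ (0 : ι → F) = 0 by funext i; simp, Matrix.zero_vecMul]

theorem phi_neg (x : ι → F) : phi σ G (-x) = -phi σ G x := by
  rw [← neg_one_smul F x, phi_smul, map_neg, map_one, neg_one_smul]

theorem phi_sub (x y : ι → F) : phi σ G (x - y) = phi σ G x - phi σ G y := by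
  rw [sub_eq_add_neg, phi_add, phi_neg, ← sub_eq_add_neg]

theorem ip_add_left (x x' y : ι → F) : ip σ G (x + x') y = ip σ G x y + ip σ G x' y := by
  rw [ip, phi_add, add_dotProduct]; rfl

theorem ip_add_right (x y y' : ι → F) : ip σ G x (y + y') = ip σ G x y + ip σ G x y' := dotProduct_add _ _ _

theorem ip_smul_left (c : F) (x y : ι → F) : ip σ G (c • x) y = σ c * ip σ G x y := by
  rw [ip, phi_smul, smul_dotProduct]; rfl

theorem ip_smul_right (c : F) (x y : ι → F) : ip σ G x (c • y) = c * ip σ G x y := dotProduct_smul _ _ _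

theorem ip_sub_left (x x' y : ι → F) : ip σ G (x - x') y = ip σ G x y - ip σ G x' y := by
  rw [ip, phi_sub, sub_dotProduct]; rfl

theorem ip_sub_right (x y y' : ι → F) : ip σ G x (y - y') = ip σ G x y - ip σ G x y' := dotProduct_sub _ _ _

theorem ip_zero_left (y : ι → F) : ip σ G 0 y = 0 := by rw [ip, phi_zero, zero_dotProduct]

theorem ip_zero_right (y : ι → F) : ip σ G y 0 = 0 := dotProduct_zero _

theorem sqr_mulVec (x y : ι → F) : sqr σ G x *ᵥ y = ip σ G x y • x := by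
  rw [sqr, Matrix.vecMulVec_mulVec]; funext i; simp [ip, mul_comm]

theorem sqr_smul (c : F) (x : ι → F) : sqr σ G (c • x) = (c * σ c) • sqr σ G x := by
  rw [sqr, sqr, phi_smul, Matrix.smul_vecMulVec, Matrix.vecMulVec_smul, smul_smul]

theorem sqr_mul_self (x : ι → F) : sqr σ G x * sqr σ G x = ip σ G x x • sqr σ G x := by
  rw [sqr, Matrix.vecMulVec_mul_vecMulVec, ← ip, Matrix.vecMulVec_smul]

theorem vecMulVec_phi_mul (a b c d : ι → F) :
    vecMulVec a (phi σ G b) * vecMulVec c (phi σ G d) = ip σ G b c • vecMulVec a (phi σ G d) := by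
  rw [Matrix.vecMulVec_mul_vecMulVec, ← ip, Matrix.vecMulVec_smul]

end

namespace IsGram

variable {G : Matrix ι ι F} (hG : IsGram σ G)
include hG

theorem inv_mul : G⁻¹ * G = 1 := Matrix.nonsing_inv_mul _ hG.unit

theorem mul_inv : G * G⁻¹ = 1 := Matrix.mul_nonsing_inv _ hG.unit

theorem map_map (M : Matrix ι κ F) : (M.map σ).map σ = M := by ext a b; simp [hG.invol]

theorem map_inv : ((G⁻¹).map σ)ᵀ = G⁻¹ := by
  refine (Matrix.inv_eq_right_inv ?_).symm
  have h := congrArg (fun M : Matrix ι ι F => (M.map σ)ᵀ) hG.inv_mul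
  simp only [Matrix.map_mul, Matrix.transpose_mul, hG.symm] at h
  simpa using h

theorem map_eq : G.map σ = Gᵀ := by
  have := congrArg Matrix.transpose hG.symm
  rwa [Matrix.transpose_transpose] at this

theorem comp_phi (x : ι → F) : σ ∘ phi σ G x = G *ᵥ x := by
  rw [← Matrix.vecMul_transpose, ← hG.map_eq]
  funext i
  simp [phi, Matrix.vecMul, dotProduct, map_sum, hG.invol]

theorem ip_symm (x y : ι → F) : σ (ip σ G x y) = ip σ G y x := by
  have h : σ (ip σ G x y) = (σ ∘ phi σ G x) ⬝ᵥ (σ ∘ y) := by simp [ip, dotProduct, map_sum]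
  rw [h, hG.comp_phi, dotProduct_comm, Matrix.dotProduct_mulVec]
  rfl

theorem ip_eq_zero_symm {x y : ι → F} (h : ip σ G x y = 0) : ip σ G y x = 0 := by
  rw [← hG.ip_symm x y, h, map_zero]

theorem phi_injective {x : ι → F} (h : phi σ G x = 0) : x = 0 := by
  have h1 : (σ ∘ x) = 0 := by
    have := congrArg (· ᵥ* G⁻¹) h
    simpa [phi, Matrix.vecMul_vecMul, hG.mul_inv] using this
  funext i
  have := congrFun h1 i
  simpa using this

theorem phi_ne_zero {x : ι → F} (h : x ≠ 0) : phi σ G x ≠ 0 := fun e => h (hG.phi_injective e)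

theorem ip_nondeg {x : ι → F} (h : ∀ y, ip σ G x y = 0) : x = 0 :=
  hG.phi_injective (dotProduct_eq_zero _ h)

theorem ip_ext {y y' : ι → F} (h : ∀ x, ip σ G x y = ip σ G x y') : y = y' := by
  refine sub_eq_zero.1 (hG.ip_nondeg fun x => hG.ip_eq_zero_symm ?_)
  rw [ip_sub_right, h, sub_self]

/-- Every functional is that of a vector. -/
theorem exists_phi (χ : ι → F) : ∃ x, phi σ G x = χ := by
  refine ⟨σ ∘ (χ ᵥ* G⁻¹), ?_⟩
  have : σ ∘ (σ ∘ (χ ᵥ* G⁻¹)) = χ ᵥ* G⁻¹ := by funext i; simp [hG.invol]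
  rw [phi, this, Matrix.vecMul_vecMul, hG.inv_mul, Matrix.vecMul_one]

end IsGram

/-! ### Adjoints -/

section
variable {G₁ : Matrix ι ι F} {G₂ : Matrix κ κ F} {G₃ : Matrix μ μ F}

theorem adj_add (M N : Matrix ι κ F) : adj σ G₁ G₂ (M + N) = adj σ G₁ G₂ M + adj σ G₁ G₂ N := by
  rw [adj, adj, adj, Matrix.map_add σ (map_add σ), Matrix.transpose_add, Matrix.mul_add, Matrix.add_mul]

theorem adj_smul (c : F) (M : Matrix ι κ F) : adj σ G₁ G₂ (c • M) = σ c • adj σ G₁ G₂ M := by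
  rw [adj, adj, show (c • M).map σ = σ c • M.map σ by ext a b; simp, Matrix.transpose_smul, Matrix.mul_smul,
    Matrix.smul_mul]

theorem adj_zero : adj σ G₁ G₂ (0 : Matrix ι κ F) = 0 := by
  rw [← zero_smul F (0 : Matrix ι κ F), adj_smul, map_zero, zero_smul]

theorem adj_neg (M : Matrix ι κ F) : adj σ G₁ G₂ (-M) = -adj σ G₁ G₂ M := by
  rw [← neg_one_smul F M, adj_smul, map_neg, map_one, neg_one_smul]

theorem adj_sub (M N : Matrix ι κ F) : adj σ G₁ G₂ (M - N) = adj σ G₁ G₂ M - adj σ G₁ G₂ N := by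
  rw [sub_eq_add_neg, adj_add, adj_neg, ← sub_eq_add_neg]

theorem adj_mul (h₂ : IsGram σ G₂) (M : Matrix ι κ F) (N : Matrix κ μ F) :
    adj σ G₁ G₃ (M * N) = adj σ G₂ G₃ N * adj σ G₁ G₂ M := by
  rw [adj, adj, adj, Matrix.map_mul, Matrix.transpose_mul]
  simp only [Matrix.mul_assoc]
  rw [← Matrix.mul_assoc G₂ G₂⁻¹, h₂.mul_inv, Matrix.one_mul]

theorem adj_one (h₁ : IsGram σ G₁) : adj σ G₁ G₁ 1 = 1 := by
  rw [adj, Matrix.map_one σ (map_zero σ) (map_one σ), Matrix.transpose_one, Matrix.mul_one, h₁.inv_mul]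

theorem adj_adj (h₁ : IsGram σ G₁) (h₂ : IsGram σ G₂) (M : Matrix ι κ F) :
    adj σ G₂ G₁ (adj σ G₁ G₂ M) = M := by
  rw [adj, adj, Matrix.map_mul, Matrix.map_mul, Matrix.transpose_mul, Matrix.transpose_mul, h₁.symm,
    Matrix.transpose_map, Matrix.transpose_transpose, h₁.map_map, h₂.map_inv]
  simp only [Matrix.mul_assoc]
  rw [h₂.inv_mul, Matrix.mul_one, ← Matrix.mul_assoc, h₁.inv_mul, Matrix.one_mul]

theorem adj_vecMulVec (h₂ : IsGram σ G₂) (a : ι → F) (c : κ → F) :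
    adj σ G₁ G₂ (vecMulVec a (phi σ G₂ c)) = vecMulVec c (phi σ G₁ a) := by
  have h : (vecMulVec a (phi σ G₂ c)).map σ = vecMulVec (σ ∘ a) (σ ∘ phi σ G₂ c) := by
    ext i j; simp [Matrix.vecMulVec_apply]
  rw [adj, h, Matrix.transpose_vecMulVec, Matrix.mul_vecMulVec, Matrix.vecMulVec_mul, h₂.comp_phi,
    Matrix.mulVec_mulVec, h₂.inv_mul, Matrix.one_mulVec]
  rfl

theorem phi_mulVec (h₂ : IsGram σ G₂) (M : Matrix ι κ F) (x : κ → F) :
    phi σ G₁ (M *ᵥ x) = phi σ G₂ x ᵥ* adj σ G₁ G₂ M := by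
  have h : σ ∘ (M *ᵥ x) = (σ ∘ x) ᵥ* (M.map σ)ᵀ := by
    funext i
    simp [Matrix.vecMul, Matrix.mulVec, dotProduct, map_sum, mul_comm]
  rw [phi, phi, adj, h, Matrix.vecMul_vecMul, Matrix.vecMul_vecMul]
  congr 1
  simp only [Matrix.mul_assoc]
  rw [← Matrix.mul_assoc G₂ G₂⁻¹, h₂.mul_inv, Matrix.one_mul]

theorem ip_mulVec_left (h₂ : IsGram σ G₂) (M : Matrix ι κ F) (x : κ → F) (y : ι → F) :
    ip σ G₁ (M *ᵥ x) y = ip σ G₂ x (adj σ G₁ G₂ M *ᵥ y) := by
  rw [ip, ip, phi_mulVec h₂, Matrix.dotProduct_mulVec]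

theorem adj_inv (h₁ : IsGram σ G₁) {u v : Matrix ι ι F} (h : u * v = 1) :
    adj σ G₁ G₁ v * adj σ G₁ G₁ u = 1 := by rw [← adj_mul h₁, h, adj_one h₁]

end

theorem adj_sqr {G : Matrix ι ι F} (hG : IsGram σ G) (x : ι → F) : adj σ G G (sqr σ G x) = sqr σ G x :=
  adj_vecMulVec hG x x

namespace SUnit

variable {G u v : Matrix ι ι F}

theorem mul_adj (hu : SUnit σ G u) : u * adj σ G G u = 1 := mul_eq_one_comm.1 hu.1

theorem one (hG : IsGram σ G) : SUnit σ G (1 : Matrix ι ι F) :=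
  ⟨by rw [adj_one hG, mul_one], Matrix.det_one⟩

theorem mul (hG : IsGram σ G) (hu : SUnit σ G u) (hv : SUnit σ G v) : SUnit σ G (u * v) := by
  refine ⟨?_, by rw [Matrix.det_mul, hu.2, hv.2, mul_one]⟩
  rw [adj_mul hG, mul_assoc, ← mul_assoc (adj σ G G u), hu.1, one_mul, hv.1]

theorem inv (hG : IsGram σ G) (hu : SUnit σ G u) : SUnit σ G (adj σ G G u) := by
  refine ⟨by rw [adj_adj hG hG]; exact hu.mul_adj, ?_⟩
  have := congrArg Matrix.det hu.1
  rwa [Matrix.det_mul, hu.2, mul_one, Matrix.det_one] at this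

theorem ip_mulVec (hG : IsGram σ G) (hu : SUnit σ G u) (x y : ι → F) :
    ip σ G (u *ᵥ x) (u *ᵥ y) = ip σ G x y := by
  rw [ip_mulVec_left hG, Matrix.mulVec_mulVec, hu.1, Matrix.one_mulVec]

theorem phi_eq (hG : IsGram σ G) (hu : SUnit σ G u) (x : ι → F) :
    phi σ G (u *ᵥ x) = phi σ G x ᵥ* adj σ G G u := phi_mulVec hG u x

theorem conj_vecMulVec (hG : IsGram σ G) (hu : SUnit σ G u) (a c : ι → F) :
    u * vecMulVec a (phi σ G c) * adj σ G G u = vecMulVec (u *ᵥ a) (phi σ G (u *ᵥ c)) := by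
  rw [Matrix.mul_vecMulVec, Matrix.vecMulVec_mul, hu.phi_eq hG]

theorem conj_sqr (hG : IsGram σ G) (hu : SUnit σ G u) (x : ι → F) :
    u * sqr σ G x * adj σ G G u = sqr σ G (u *ᵥ x) := hu.conj_vecMulVec hG x x

end SUnit

/-- The determinant of a unipotent matrix. -/
theorem det_one_add_nilpotent {N : Matrix ι ι F} (h : IsNilpotent N) : (1 + N).det = 1 := by
  have h1 : N.charpoly = Polynomial.X ^ Fintype.card ι :=
    sub_eq_zero.1 (Matrix.isNilpotent_charpoly_sub_pow_of_isNilpotent h).eq_zero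
  have h2 := Matrix.eval_charpoly N (-1 : F)
  rw [h1, Polynomial.eval_pow, Polynomial.eval_X] at h2
  rw [show Matrix.scalar ι (-1 : F) - N = (-1 : F) • (1 + N) by
    rw [Matrix.scalar_apply, ← Matrix.smul_one_eq_diagonal]; simp [sub_eq_add_neg, add_comm]] at h2
  rw [Matrix.det_smul] at h2
  exact (mul_eq_left₀ (pow_ne_zero _ (neg_ne_zero.2 one_ne_zero))).1 h2.symm

/-! ### Two factors -/

section
variable {α β : Type} [Fintype α] [DecidableEq α] [Fintype β] [DecidableEq β]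
variable {Gα : Matrix α α F} {G : Matrix β β F}

/-- The contraction with the functional of a vector. -/
def cg (α : Type) [DecidableEq α] (σ : F →+* F) (G : Matrix β β F) (w : β → F) : Matrix α (α × β) F :=
  con α (phi σ G w)

theorem con_add (φ ψ : β → F) : (con α (φ + ψ) : Matrix α (α × β) F) = con α φ + con α ψ := by
  ext i p; simp [con]; split_ifs <;> simp

theorem con_smul (c : F) (φ : β → F) : (con α (c • φ) : Matrix α (α × β) F) = c • con α φ := by
  ext i p; simp [con]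

theorem emb_add (v w : β → F) : (emb α (v + w) : Matrix (α × β) α F) = emb α v + emb α w := by
  ext p i; simp [emb]; split_ifs <;> simp

theorem emb_smul (c : F) (v : β → F) : (emb α (c • v) : Matrix (α × β) α F) = c • emb α v := by
  ext p i; simp [emb]

theorem emb_zero : (emb α (0 : β → F) : Matrix (α × β) α F) = 0 := by
  ext p i; simp [emb]

theorem cg_add (w z : β → F) : cg α σ G (w + z) = cg α σ G w + cg α σ G z := by
  rw [cg, phi_add, con_add]; rfl

theorem cg_smul (c : F) (w : β → F) : cg α σ G (c • w) = σ c • cg α σ G w := by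
  rw [cg, phi_smul, con_smul]; rfl

theorem cg_zero : cg α σ G (0 : β → F) = 0 := by
  rw [← zero_smul F (0 : β → F), cg_smul, map_zero, zero_smul]

theorem cg_mul_emb (w y : β → F) : cg α σ G w * emb α y = ip σ G w y • (1 : Matrix α α F) := by
  rw [cg, con_mul_emb, ip]

theorem cg_emb_zero {w y : β → F} (h : ip σ G w y = 0) : cg α σ G w * emb α y = 0 := by
  rw [cg_mul_emb, h, zero_smul]

theorem cg_emb_one {w y : β → F} (h : ip σ G w y = 1) : cg α σ G w * emb α y = 1 := by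
  rw [cg_mul_emb, h, one_smul]

theorem map_kronecker (A : Matrix ι κ F) (B : Matrix α β F) : (A ⊗ₖ B).map σ = A.map σ ⊗ₖ B.map σ := by
  ext p q; simp

theorem IsGram.kronecker (hα : IsGram σ Gα) (hG : IsGram σ G) : IsGram σ (Gα ⊗ₖ G) where
  invol := hG.invol
  symm := by rw [map_kronecker, ← Matrix.kroneckerMap_transpose, hα.symm, hG.symm]
  unit := by
    rw [Matrix.det_kronecker]
    exact (hα.unit.pow _).mul (hG.unit.pow _)

theorem adj_kronecker (hα : IsGram σ Gα) (hG : IsGram σ G) (A : Matrix α α F) (B : Matrix β β F) :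
    adj σ (Gα ⊗ₖ G) (Gα ⊗ₖ G) (A ⊗ₖ B) = adj σ Gα Gα A ⊗ₖ adj σ G G B := by
  rw [adj, map_kronecker, ← Matrix.kroneckerMap_transpose, Matrix.inv_kronecker, ← Matrix.mul_kronecker_mul,
    ← Matrix.mul_kronecker_mul]
  rfl

theorem adj_emb (hα : IsGram σ Gα) (w : β → F) :
    adj σ (Gα ⊗ₖ G) Gα (emb α w) = cg α σ G w := by
  have h : ((emb α w : Matrix (α × β) α F).map σ)ᵀ = con α (σ ∘ w) := by
    ext i p; simp [emb, con]; split_ifs <;> simp
  rw [adj, h, Matrix.mul_assoc, con_mul_kronecker, ← Matrix.mul_assoc, hα.inv_mul, Matrix.one_mul]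
  rfl

theorem adj_cg (hα : IsGram σ Gα) (hG : IsGram σ G) (w : β → F) :
    adj σ Gα (Gα ⊗ₖ G) (cg α σ G w) = emb α w := by
  rw [← adj_emb hα w, adj_adj (hα.kronecker hG) hα]

theorem kronecker_mul_emb' (A : Matrix α α F) (B : Matrix β β F) (w : β → F) :
    (A ⊗ₖ B) * emb α w = emb α (B *ᵥ w) * A := TensorLinear.kronecker_mul_emb A B w

theorem emb_mul_cg (w z : β → F) (θ : Matrix α α F) :
    emb α w * θ * cg α σ G z = θ ⊗ₖ vecMulVec w (phi σ G z) := TensorLinear.emb_mul_mul_con _ _ _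

end

end CfsgLib.Geo.UnitWreath
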