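/-
The geometry of one factor: isotropic vectors, special unitary moves, transvections and Siegel elements.
-/
import Cfsg.Agent.Lib.Geo.UnitWreath.Form

set_option autoImplicit false
set_option linter.unusedSectionVars false

namespace CfsgLib.Geo.UnitWreath

open Matrix CfsgLib.Classical CfsgLib.Classical.Herm

variable {F : Type*} [Field F] {σ : F →+* F}
variable {β : Type} [Fintype β] [DecidableEq β] {G : Matrix β β F}

/-- The standing hypotheses on one factor. -/
structure Space (σ : F →+* F) (G : Matrix β β F) : Prop where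
  inv : IsInvol σ
  gram : IsGram σ G
  three : 3 ≤ Fintype.card β
  four : Nat.card (fixedSub σ) = 2 → 4 ≤ Fintype.card β

/-- The form as a sesquilinear map. -/
def bil (σ : F →+* F) (G : Matrix β β F) : (β → F) →ₛₗ[σ] (β → F) →ₗ[F] F :=
  LinearMap.mk₂'ₛₗ σ (RingHom.id F) (ip σ G) ip_add_left
    (fun c x y => by rw [ip_smul_left, smul_eq_mul]) ip_add_right
    (fun c x y => by rw [ip_smul_right, RingHom.id_apply, smul_eq_mul])

theorem bil_apply (x y : β → F) : bil σ G x y = ip σ G x y := rfl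

/-- The transvection. -/
def trv (σ : F →+* F) (G : Matrix β β F) (w : β → F) (c : F) : Matrix β β F := 1 + c • sqr σ G w

/-- The nilpotent part of a Siegel element. -/
def sgl (σ : F →+* F) (G : Matrix β β F) (e z : β → F) (d : F) : Matrix β β F :=
  vecMulVec e (phi σ G z) - vecMulVec z (phi σ G e) + d • sqr σ G e

theorem phi_dot (x y : β → F) : phi σ G x ⬝ᵥ y = ip σ G x y := rfl

theorem sgl_mulVec (e z : β → F) (d : F) (x : β → F) :
    sgl σ G e z d *ᵥ x = (ip σ G z x + d * ip σ G e x) • e - ip σ G e x • z := by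
  rw [sgl, Matrix.add_mulVec, Matrix.sub_mulVec, Matrix.smul_mulVec, sqr_mulVec, Matrix.vecMulVec_mulVec,
    Matrix.vecMulVec_mulVec]
  funext i
  simp [ip]
  ring

theorem ext_mulVec {M N : Matrix β β F} (h : ∀ x, M *ᵥ x = N *ᵥ x) : M = N :=
  Matrix.toLin'.injective (LinearMap.ext h)

theorem sgl_sq {e z : β → F} {d : F} (he : ip σ G e e = 0) (hez : ip σ G e z = 0) (hze : ip σ G z e = 0) :
    sgl σ G e z d * sgl σ G e z d = -(ip σ G z z) • sqr σ G e := by
  refine ext_mulVec fun x => ?_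
  rw [← Matrix.mulVec_mulVec, sgl_mulVec, sgl_mulVec, Matrix.smul_mulVec, sqr_mulVec]
  simp only [ip_sub_right, ip_smul_right, he, hez, hze]
  module

theorem sgl_cube {e z : β → F} {d : F} (he : ip σ G e e = 0) (hez : ip σ G e z = 0) (hze : ip σ G z e = 0) :
    sgl σ G e z d * sgl σ G e z d * sgl σ G e z d = 0 := by
  rw [sgl_sq he hez hze, smul_mul_assoc]
  convert smul_zero _
  refine ext_mulVec fun x => ?_
  rw [← Matrix.mulVec_mulVec, sgl_mulVec, sqr_mulVec, Matrix.zero_mulVec, ip_sub_right, ip_smul_right,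
    ip_smul_right, he, hez]
  simp

theorem sqr_add (e x : β → F) :
    sqr σ G (e + x) = sqr σ G e + vecMulVec e (phi σ G x) + vecMulVec x (phi σ G e) + sqr σ G x := by
  rw [sqr, sqr, sqr, phi_add, Matrix.add_vecMulVec, Matrix.vecMulVec_add, Matrix.vecMulVec_add]
  abel

namespace Space

variable (K : Space σ G)
include K

theorem herm : IsHerm (bil σ G) :=
  ⟨K.inv, K.gram.ip_symm, fun _ h => K.gram.ip_nondeg h⟩

theorem finrank_three : 3 ≤ Module.finrank F (β → F) := by rw [Module.finrank_fintype_fun_eq_card]; exact K.three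

theorem exists_su [Finite F] {g : HU (bil σ G)} (hg : g ∈ K.herm.trGroup) :
    ∃ u, SUnit σ G u ∧ ∀ x, u *ᵥ x = (g : (β → F) ≃ₗ[F] (β → F)) x := by
  set u := LinearMap.toMatrix' ((g : (β → F) ≃ₗ[F] (β → F)) : (β → F) →ₗ[F] (β → F))
  have hu : ∀ x, u *ᵥ x = (g : (β → F) ≃ₗ[F] (β → F)) x := LinearMap.toMatrix'_mulVec _
  refine ⟨u, ⟨ext_mulVec fun y => K.gram.ip_ext fun x => ?_, ?_⟩, hu⟩
  · rw [← Matrix.mulVec_mulVec, ← ip_mulVec_left K.gram, hu, hu, Matrix.one_mulVec]
    exact HU.map_eq g x y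
  · have h := congrArg Units.val (MonoidHom.mem_ker.1 (K.herm.trGroup_le hg))
    rw [HU.det, MonoidHom.comp_apply, LinearEquiv.coe_det] at h
    rw [LinearMap.det_toMatrix']
    exact h

theorem exists_isotropic [Finite F] : ∃ e, e ≠ 0 ∧ ip σ G e e = 0 :=
  K.herm.exists_isotropic (by have := K.finrank_three; omega)

theorem exists_partner {e : β → F} (he0 : e ≠ 0) (he : ip σ G e e = 0) :
    ∃ f, ip σ G e f = 1 ∧ ip σ G f e = 1 ∧ ip σ G f f = 0 ∧ f ≠ 0 := by
  obtain ⟨f, h1, h2⟩ := K.herm.exists_isotropic_partner he0 he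
  rw [bil_apply] at h1 h2
  refine ⟨f, h1, by rw [← K.gram.ip_symm, h1, map_one], h2, fun h => ?_⟩
  rw [h, ip_zero_right] at h1
  exact zero_ne_one h1

theorem exists_ip_one {v : β → F} (hv : v ≠ 0) : ∃ y, ip σ G v y = 1 := K.herm.exists_apply_eq_one hv

theorem move_iso [Finite F] {e e' : β → F} (he0 : e ≠ 0) (he0' : e' ≠ 0) (he : ip σ G e e = 0)
    (he' : ip σ G e' e' = 0) : ∃ u, SUnit σ G u ∧ u *ᵥ e = e' := by
  obtain ⟨g, hg, hge⟩ := K.herm.transitive_isotropic K.finrank_three he0 he0' he he'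
  obtain ⟨u, hu, hu'⟩ := K.exists_su hg
  exact ⟨u, hu, (hu' e).trans hge⟩

theorem move_aniso [Finite F] {x y : β → F} (hx : ip σ G x x ≠ 0) (h : ip σ G x x = ip σ G y y) :
    ∃ u, SUnit σ G u ∧ u *ᵥ x = y := by
  obtain ⟨a, ha0, ha⟩ := K.herm.scale_to (x := x) hx (μ := 1) (map_one σ) one_ne_zero
  have ha' : ip σ G (a • y) (a • y) = 1 := by
    rw [ip_smul_left, ip_smul_right, ← h, ← ip_smul_right, ← ip_smul_left]
    exact ha
  have hex : Module.finrank F (β → F) = 3 → Nat.card (fixedSub σ) ≠ 2 := fun h3 h2 => by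
    have := K.four h2
    rw [Module.finrank_fintype_fun_eq_card] at h3
    omega
  obtain ⟨g, hg, hgx⟩ := K.herm.transitive_norm_one K.finrank_three hex ha ha'
  obtain ⟨u, hu, hu'⟩ := K.exists_su hg
  refine ⟨u, hu, smul_right_injective (β → F) ha0 ?_⟩
  show a • (u *ᵥ x) = a • y
  rw [← Matrix.mulVec_smul, hu', hgx]

theorem exists_norm [Finite F] {μ : F} (hμ : σ μ = μ) : ∃ z, ip σ G z z = μ := by
  obtain ⟨z, -, hz⟩ := K.herm.exists_norm_in (U := ⊤)
    (fun x _ h => K.gram.ip_nondeg fun y => h y trivial)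
    (by rw [finrank_top]; have := K.finrank_three; omega) hμ
  exact ⟨z, hz⟩

theorem exists_isotropic_perp [Finite F] {x : β → F} (hx : ip σ G x x ≠ 0) :
    ∃ e, e ≠ 0 ∧ ip σ G e e = 0 ∧ ip σ G x e = 0 := by
  obtain ⟨e, he0, he⟩ := (K.herm.restrict_perp (x := x) hx).exists_isotropic (by
    have := K.herm.finrank_perp (x := x) hx; have := K.finrank_three; omega)
  exact ⟨e, fun h => he0 (Subtype.ext h), he, K.herm.mem_perp.1 e.2⟩

theorem exists_norm_perp [Finite F] {x : β → F} (hx : ip σ G x x ≠ 0) {μ : F} (hμ : σ μ = μ) :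
    ∃ z, ip σ G x z = 0 ∧ ip σ G z z = μ := by
  obtain ⟨z, hz, hzz⟩ := K.herm.exists_norm_in (K.herm.perp_nondeg hx)
    (by have := K.herm.finrank_perp (x := x) hx; have := K.finrank_three; omega) hμ
  exact ⟨z, K.herm.mem_perp.1 hz, hzz⟩

theorem pair_orth [Finite F] {e f : β → F} (he : ip σ G e e = 0) (hef : ip σ G e f = 1) :
    ∃ W : Submodule F (β → F), (∀ x ∈ W, (∀ y ∈ W, ip σ G x y = 0) → x = 0) ∧
      Module.finrank F W + 2 = Fintype.card β ∧ ∀ z ∈ W, ip σ G e z = 0 ∧ ip σ G f z = 0 := by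
  have hd := K.herm.hyperbolic_disc (u := e) (f := f) he hef
  have hW := K.herm.pair_nondeg hd
  refine ⟨K.herm.orth (Submodule.span F {e, f}), K.herm.orth_nondeg hW, ?_, fun z hz =>
    ⟨K.herm.mem_orth.1 hz e (Submodule.subset_span (Set.mem_insert e _)),
      K.herm.mem_orth.1 hz f (Submodule.subset_span (Set.mem_insert_of_mem e rfl))⟩⟩
  have h1 := K.herm.finrank_orth hW
  rw [K.herm.pair_finrank hd, Module.finrank_fintype_fun_eq_card] at h1
  omega

theorem exists_norm_perp_pair [Finite F] {e f : β → F} (he : ip σ G e e = 0) (hef : ip σ G e f = 1) {μ : F}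
    (hμ : σ μ = μ) : ∃ z, ip σ G e z = 0 ∧ ip σ G f z = 0 ∧ ip σ G z z = μ := by
  obtain ⟨W, hW, hd, hperp⟩ := K.pair_orth he hef
  obtain ⟨z, hz, hzz⟩ := K.herm.exists_norm_in hW (by have := K.three; omega) hμ
  exact ⟨z, (hperp z hz).1, (hperp z hz).2, hzz⟩

/-- An anisotropic vector orthogonal to an isotropic one. -/
theorem exists_aniso_perp [Finite F] {e : β → F} (he0 : e ≠ 0) (he : ip σ G e e = 0) :
    ∃ z, ip σ G e z = 0 ∧ ip σ G z e = 0 ∧ ip σ G z z = 1 := by
  obtain ⟨f, hef, -, -, -⟩ := K.exists_partner he0 he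
  obtain ⟨z, h1, -, h3⟩ := K.exists_norm_perp_pair he hef (map_one σ)
  exact ⟨z, h1, K.gram.ip_eq_zero_symm h1, h3⟩

/-- Two orthogonal independent isotropic vectors in large dimension. -/
theorem exists_iso_perp [Finite F] (h4 : 4 ≤ Fintype.card β) {e f : β → F} (he : ip σ G e e = 0)
    (hef : ip σ G e f = 1) :
    ∃ x, x ≠ 0 ∧ ip σ G x x = 0 ∧ ip σ G e x = 0 ∧ ip σ G x e = 0 ∧ ip σ G f x = 0 ∧ ip σ G x f = 0 := by
  obtain ⟨W, hW, hd, hperp⟩ := K.pair_orth he hef
  obtain ⟨x, hx0, hx⟩ := (K.herm.restrict_herm hW).exists_isotropic (by omega)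
  exact ⟨x, fun h => hx0 (Subtype.ext h), hx, (hperp x x.2).1, K.gram.ip_eq_zero_symm (hperp x x.2).1,
    (hperp x x.2).2, K.gram.ip_eq_zero_symm (hperp x x.2).2⟩

theorem fixed_cases [Finite F] (hq : Nat.card (fixedSub σ) = 2) {x : F} (hx : σ x = x) : x = 0 ∨ x = 1 := by
  by_contra h
  push Not at h
  obtain ⟨a, b, hab, huniv⟩ := Nat.card_eq_two_iff.1 hq
  have hmem : ∀ y : fixedSub σ, y = a ∨ y = b := fun y => by
    have : y ∈ ({a, b} : Set (fixedSub σ)) := by rw [huniv]; trivial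
    exact this
  have hx' : (⟨x, mem_fixedSub.2 hx⟩ : fixedSub σ) ≠ 0 ∧ (⟨x, mem_fixedSub.2 hx⟩ : fixedSub σ) ≠ 1 :=
    ⟨fun e => h.1 (congrArg Subtype.val e), fun e => h.2 (congrArg Subtype.val e)⟩
  rcases hmem 0 with h0 | h0 <;> rcases hmem 1 with h1 | h1 <;>
    rcases hmem ⟨x, mem_fixedSub.2 hx⟩ with h2 | h2 <;>
    first
      | exact zero_ne_one (h0.trans h1.symm)
      | exact hx'.1 (h2.trans h0.symm)
      | exact hx'.2 (h2.trans h1.symm)

/-- A non-trivial norm. -/
theorem exists_norm_ne [Finite F] (hq : Nat.card (fixedSub σ) ≠ 2) : ∃ a : F, a ≠ 0 ∧ a * σ a ≠ 1 := by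
  by_contra h
  push Not at h
  refine hq (Nat.card_eq_two_iff.2 ⟨0, 1, zero_ne_one, Set.eq_univ_of_forall fun x => ?_⟩)
  rcases eq_or_ne x 0 with h0 | h0
  · exact Or.inl h0
  · refine Or.inr ?_
    obtain ⟨a, ha⟩ := K.inv.exists_norm_eq (μ := (x : F)) x.2
    have ha0 : a ≠ 0 := fun e => h0 (Subtype.ext (by rw [← ha, e, zero_mul]; rfl))
    exact Subtype.ext (ha.symm.trans (h a ha0))

theorem field_four [Finite F] (hq : Nat.card (fixedSub σ) = 2) :
    ∃ w : F, w * w = w + 1 ∧ σ w = w + 1 ∧ (2 : F) = 0 ∧ w ≠ 0 ∧ w + 1 ≠ 0 := by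
  obtain ⟨a, ha⟩ := K.inv.exists_ne
  have ha0 : a ≠ 0 := fun e => ha (by rw [e, map_zero])
  have hn : a * σ a = 1 := ((K.fixed_cases hq (x := a * σ a) (K.inv.norm_mem a)).resolve_left
    (mul_ne_zero ha0 fun e => ha0 (IsInvol.apply_eq_zero_iff.1 e)))
  have ht : a + σ a = 1 := by
    refine ((K.fixed_cases hq (x := a + σ a) (K.inv.trace_mem a)).resolve_left fun e => ?_)
    have h2 : (2 : F) = 0 := by
      rcases K.fixed_cases hq (x := (2 : F)) (map_ofNat σ 2) with h | h
      · exact h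
      · exact absurd (show (1 : F) = 0 by linear_combination h) one_ne_zero
    exact ha (by linear_combination e - a * h2)
  have h2 : (2 : F) = 0 := by
    rcases K.fixed_cases hq (x := (2 : F)) (map_ofNat σ 2) with h | h
    · exact h
    · exact absurd (show (1 : F) = 0 by linear_combination h) one_ne_zero
  have e1 : σ a = a + 1 := by linear_combination ht - a * h2
  refine ⟨a, ?_, e1, h2, ha0, ?_⟩
  · rw [e1] at hn
    linear_combination hn + (-a) * h2
  · rw [← e1]; exact fun e => ha0 (IsInvol.apply_eq_zero_iff.1 e)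

/-- An additive predicate containing all differences contains a multiple of some square. -/
theorem isolate [Finite F] {P : Matrix β β F → Prop} (hadd : ∀ A B, P A → P B → A * B = 0 → P (A + B))
    {e : β → F} (he0 : e ≠ 0) (he : ip σ G e e = 0)
    (h : ∀ e', e' ≠ 0 → ip σ G e' e' = 0 → ip σ G e e' = 0 → P (sqr σ G e' - sqr σ G e)) :
    ∃ (x : β → F) (c : F), x ≠ 0 ∧ ip σ G x x = 0 ∧ c ≠ 0 ∧ P (c • sqr σ G x) := by
  by_cases hq : Nat.card (fixedSub σ) = 2
  · obtain ⟨w, hw, hσw, h2, hw0, hw1⟩ := K.field_four hq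
    obtain ⟨f, hef, -, -, -⟩ := K.exists_partner he0 he
    obtain ⟨x, hx0, hx, hex, hxe, hfx, -⟩ := K.exists_iso_perp (K.four hq) he hef
    refine ⟨x, 1, hx0, hx, one_ne_zero, ?_⟩
    have hy : ∀ s : F, P (sqr σ G (e + s • x) - sqr σ G e) := fun s => h _
      (fun h0 => by
        have := congrArg (fun y => ip σ G y f) h0
        simp [ip_add_left, ip_smul_left, hef, K.gram.ip_eq_zero_symm hfx, ip_zero_left] at this)
      (by rw [ip_add_left, ip_add_right, ip_add_right, ip_smul_left, ip_smul_left, ip_smul_right, ip_smul_right,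
        he, hex, hxe, hx]; ring)
      (by rw [ip_add_right, ip_smul_right, he, hex, mul_zero, add_zero])
    have hz : ∀ s s' : F, ip σ G (e + s • x) (e + s' • x) = 0 ∧ ip σ G (e + s • x) e = 0 ∧
        ip σ G e (e + s' • x) = 0 := fun s s' => by
      refine ⟨?_, ?_, ?_⟩ <;>
        simp only [ip_add_left, ip_add_right, ip_smul_left, ip_smul_right, he, hex, hxe, hx, mul_zero, add_zero]
    have hprod : ∀ s s' : F,
        (sqr σ G (e + s • x) - sqr σ G e) * (sqr σ G (e + s' • x) - sqr σ G e) = 0 := fun s s' => by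
      simp only [sub_mul, mul_sub, sqr, vecMulVec_phi_mul, he, (hz s s').1, (hz s s').2.1, (hz s s').2.2, zero_smul,
        sub_zero]
    have h3 := hadd _ _ (hadd _ _ (hy 1) (hy w) (hprod 1 w)) (hy (w + 1))
      (by rw [add_mul, hprod, hprod, add_zero])
    convert h3 using 1
    rw [sqr_add, sqr_add, sqr_add, sqr_smul, sqr_smul, sqr_smul, phi_smul, phi_smul, phi_smul, Matrix.vecMulVec_smul,
      Matrix.vecMulVec_smul, Matrix.vecMulVec_smul, Matrix.smul_vecMulVec, Matrix.smul_vecMulVec,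
      Matrix.smul_vecMulVec]
    simp only [map_one, map_add, hσw, one_mul, one_smul]
    have h4 : (4 : F) = 0 := by linear_combination 2 * h2
    match_scalars <;> (rw [← sub_eq_zero]; ring_nf; try simp [h2, h4])
  · obtain ⟨a, ha0, ha⟩ := K.exists_norm_ne hq
    refine ⟨e, a * σ a - 1, he0, he, sub_ne_zero.2 ha, ?_⟩
    have := h (a • e) (smul_ne_zero ha0 he0) (by rw [ip_smul_left, ip_smul_right, he]; ring)
      (by rw [ip_smul_right, he, mul_zero])
    rwa [sqr_smul, ← one_smul F (sqr σ G e), smul_smul, mul_one, ← sub_smul] at this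

theorem trv_su {w : β → F} (hw : ip σ G w w = 0) {c : F} (hc : c + σ c = 0) : SUnit σ G (trv σ G w c) := by
  refine ⟨?_, det_one_add_nilpotent ⟨2, ?_⟩⟩
  · rw [trv, adj_add, adj_one K.gram, adj_smul, adj_sqr K.gram, add_mul, one_mul, mul_add, mul_one,
      smul_mul_assoc, mul_smul_comm, sqr_mul_self, hw, zero_smul, smul_zero, smul_zero, add_zero, add_assoc,
      ← add_smul, hc, zero_smul, add_zero]
  · rw [pow_two, smul_mul_smul_comm, sqr_mul_self, hw, zero_smul, smul_zero]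

theorem adj_sgl {e z : β → F} {d : F} : adj σ G G (sgl σ G e z d) =
    vecMulVec z (phi σ G e) - vecMulVec e (phi σ G z) + σ d • sqr σ G e := by
  rw [sgl, adj_add, adj_sub, adj_smul, adj_sqr K.gram, adj_vecMulVec K.gram, adj_vecMulVec K.gram]

theorem sgl_su {e z : β → F} {d : F} (he : ip σ G e e = 0) (hez : ip σ G e z = 0)
    (hd : d + σ d = -(ip σ G z z)) : SUnit σ G (1 + sgl σ G e z d) := by
  have hze := K.gram.ip_eq_zero_symm hez
  refine ⟨ext_mulVec fun x => ?_, det_one_add_nilpotent ⟨3, by rw [pow_succ, pow_two, sgl_cube he hez hze]⟩⟩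
  rw [← Matrix.mulVec_mulVec, adj_add, adj_one K.gram, K.adj_sgl, Matrix.add_mulVec 1 (sgl σ G e z d),
    Matrix.one_mulVec, sgl_mulVec, Matrix.add_mulVec, Matrix.one_mulVec, Matrix.add_mulVec, Matrix.sub_mulVec,
    Matrix.vecMulVec_mulVec, Matrix.vecMulVec_mulVec, Matrix.smul_mulVec, sqr_mulVec]
  simp only [phi_dot, ip_add_right, ip_sub_right, ip_smul_right, he, hez, hze]
  funext i
  simp
  linear_combination (ip σ G e x * e i) * hd

theorem exists_sgl [Finite F] (z : β → F) : ∃ d : F, d + σ d = -(ip σ G z z) :=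
  K.inv.exists_trace_eq (by rw [map_neg, K.gram.ip_symm])

end Space

end CfsgLib.Geo.UnitWreath
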