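/-
An invariant additive group of matrices which moves one factor contains a square on that factor.
-/
import Cfsg.Agent.Lib.Geo.UnitWreath.Herm
import Mathlib.GroupTheory.PGroup
import Mathlib.Algebra.CharP.Two

set_option autoImplicit false
set_option linter.unusedSectionVars false

namespace CfsgLib.Geo.UnitWreath

open Matrix CfsgLib.Geo.TensorLinear
open scoped Kronecker

variable {F : Type*} [Field F] {σ : F →+* F}
variable {α β : Type} [Fintype α] [DecidableEq α] [Fintype β] [DecidableEq β] {G : Matrix β β F}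
variable {n : Type} [Fintype n] [DecidableEq n]

theorem eq_zero_of_mul_emb {M : Matrix n (α × β) F}
    (h : ∀ y : β → F, M * emb α y = 0) : M = 0 := by
  ext a ⟨i, j⟩
  have := congrFun (congrFun (h (Pi.single j 1)) a) i
  simpa [Matrix.mul_apply, emb, Fintype.sum_prod_type, Pi.single_apply] using this

theorem mul_emb_ext {M N : Matrix n (α × β) F}
    (h : ∀ y : β → F, M * emb α y = N * emb α y) : M = N :=
  sub_eq_zero.1 (eq_zero_of_mul_emb fun y => by rw [Matrix.sub_mul, h, sub_self])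

theorem eq_zero_of_cg_mul (hG : IsGram σ G) {M : Matrix (α × β) n F}
    (h : ∀ w : β → F, cg α σ G w * M = 0) : M = 0 := by
  ext ⟨i, j⟩ a
  obtain ⟨w, hw⟩ := hG.exists_phi (Pi.single j 1)
  have := congrFun (congrFun (h w) i) a
  simpa [Matrix.mul_apply, cg, hw, con, Fintype.sum_prod_type, Pi.single_apply] using this

theorem eq_of_one_emb {A : Matrix β β F} (w : β → F) :
    ((1 : Matrix α α F) ⊗ₖ A) * emb α w = emb α (A *ᵥ w) := by
  rw [TensorLinear.kronecker_mul_emb, Matrix.mul_one]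

theorem cg_mul_one {A : Matrix β β F} (w : β → F) :
    cg α σ G w * ((1 : Matrix α α F) ⊗ₖ A) = con α (phi σ G w ᵥ* A) := by
  rw [cg, con_mul_kronecker, Matrix.one_mul]

/-- An element of the commutant which vanishes at one point is zero. -/
theorem eq_zero_of_comm {W : Matrix (α × β) (α × β) F}
    (hW : ∀ M : Matrix β β F, ((1 : Matrix α α F) ⊗ₖ M) * W = W * ((1 : Matrix α α F) ⊗ₖ M)) {χ z : β → F}
    (hχ : χ ⬝ᵥ z = 1) (h : con α χ * W * emb α z = 0) : W = 0 := by
  refine eq_zero_of_mul_emb fun y => ?_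
  have e : ((1 : Matrix α α F) ⊗ₖ vecMulVec y χ) * emb α z = emb α y := by
    rw [eq_of_one_emb, Matrix.vecMulVec_mulVec, hχ]
    simp
  have := congrArg (fun X => emb α y * X) h
  simp only [Matrix.mul_zero] at this
  rw [← e, ← Matrix.mul_assoc, ← hW, Matrix.mul_assoc, one_kronecker_vecMulVec, Matrix.mul_assoc]
  simpa [Matrix.mul_assoc] using this

/-- The commutator map. -/
def comMap (θ : Matrix (α × β) (α × β) F) : Matrix β β F → Matrix (α × β) (α × β) F :=
  fun M => ((1 : Matrix α α F) ⊗ₖ M) * θ - θ * ((1 : Matrix α α F) ⊗ₖ M)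

namespace Space

variable (K : Space σ G)
include K

/-- The stabiliser of the flag at an isotropic vector. -/
def flagGroup (e : β → F) : Subgroup (GL β F) where
  carrier := {u | SUnit σ G (u : Matrix β β F) ∧ (u : Matrix β β F) *ᵥ e = e ∧
    ∀ x, ip σ G e x = 0 → ∃ a : F, (u : Matrix β β F) *ᵥ x = x + a • e}
  one_mem' := ⟨by rw [Units.val_one]; exact SUnit.one K.gram, by rw [Units.val_one, Matrix.one_mulVec],
    fun x _ => ⟨0, by rw [Units.val_one, Matrix.one_mulVec, zero_smul, add_zero]⟩⟩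
  mul_mem' {u v} hu hv := ⟨by rw [Units.val_mul]; exact hu.1.mul K.gram hv.1,
    by rw [Units.val_mul, ← Matrix.mulVec_mulVec, hv.2.1, hu.2.1],
    fun x hx => by
      obtain ⟨a, ha⟩ := hv.2.2 x hx
      obtain ⟨b, hb⟩ := hu.2.2 x hx
      exact ⟨b + a, by rw [Units.val_mul, ← Matrix.mulVec_mulVec, ha, Matrix.mulVec_add, Matrix.mulVec_smul, hu.2.1,
        hb, add_smul, add_assoc]⟩⟩
  inv_mem' {u} hu := by
    have hi : ((u⁻¹ : GL β F) : Matrix β β F) = adj σ G G (u : Matrix β β F) :=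
      (left_inv_eq_right_inv hu.1.1 u.mul_inv).symm
    have he : ((u⁻¹ : GL β F) : Matrix β β F) *ᵥ e = e := by
      conv_lhs => rw [← hu.2.1, Matrix.mulVec_mulVec, Units.inv_mul, Matrix.one_mulVec]
    refine ⟨by rw [hi]; exact hu.1.inv K.gram, he, fun x hx => ?_⟩
    obtain ⟨a, ha⟩ := hu.2.2 x hx
    refine ⟨-a, ?_⟩
    have h2 := congrArg (((u⁻¹ : GL β F) : Matrix β β F) *ᵥ ·) ha
    simp only [Matrix.mulVec_mulVec, Units.inv_mul, Matrix.one_mulVec, Matrix.mulVec_add, Matrix.mulVec_smul,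
      he] at h2
    rw [eq_comm, ← eq_sub_iff_add_eq] at h2
    rw [h2, neg_smul, sub_eq_add_neg]

theorem flagGroup_pow [Finite F] {e : β → F} {p : ℕ} [Fact p.Prime] [CharP F p] {u : GL β F}
    (hu : u ∈ K.flagGroup e) : u ^ p ^ 2 = 1 := by
  haveI : Nonempty β := Fintype.card_pos_iff.1 (by have := K.three; omega)
  set N : Matrix β β F := (u : Matrix β β F) - 1
  have hN : N ^ 3 = 0 := by
    refine ext_mulVec fun x => ?_
    rw [pow_succ, pow_two, Matrix.zero_mulVec, ← Matrix.mulVec_mulVec, ← Matrix.mulVec_mulVec]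
    have h1 : ip σ G e (N *ᵥ x) = 0 := by
      rw [Matrix.sub_mulVec, Matrix.one_mulVec, ip_sub_right]
      conv_lhs => arg 1; rw [← hu.2.1]
      rw [hu.1.ip_mulVec K.gram, sub_self]
    obtain ⟨a, ha⟩ := hu.2.2 _ h1
    rw [show N *ᵥ (N *ᵥ x) = a • e by
      show ((u : Matrix β β F) - 1) *ᵥ (N *ᵥ x) = _
      rw [Matrix.sub_mulVec, ha, Matrix.one_mulVec, add_sub_cancel_left]]
    rw [Matrix.mulVec_smul, show N *ᵥ e = 0 by rw [Matrix.sub_mulVec, hu.2.1, Matrix.one_mulVec, sub_self],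
      smul_zero]
  haveI : ExpChar (Matrix β β F) p := ExpChar.prime (Fact.out)
  refine Units.ext ?_
  rw [Units.val_pow_eq_pow_val, Units.val_one, show (u : Matrix β β F) = 1 + N by simp [N],
    add_pow_expChar_pow_of_commute _ _ (Commute.one_left N), one_pow]
  have h4 : 3 ≤ p ^ 2 := by
    calc 3 ≤ 2 ^ 2 := by norm_num
      _ ≤ _ := Nat.pow_le_pow_left (Fact.out : p.Prime).two_le 2
  rw [pow_eq_zero_of_le h4 hN, add_zero]

theorem sgl_mem {e z : β → F} {d : F} (he : ip σ G e e = 0) (hez : ip σ G e z = 0)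
    (hd : d + σ d = -(ip σ G z z)) :
    ∃ u : GL β F, u ∈ K.flagGroup e ∧ (u : Matrix β β F) = 1 + sgl σ G e z d := by
  have h := K.sgl_su he hez hd
  refine ⟨⟨_, adj σ G G _, h.mul_adj, h.1⟩, ⟨h, ?_, fun x hx => ⟨ip σ G z x, ?_⟩⟩, rfl⟩
  · rw [Matrix.add_mulVec, Matrix.one_mulVec, sgl_mulVec, he, K.gram.ip_eq_zero_symm hez]
    simp
  · rw [Matrix.add_mulVec, Matrix.one_mulVec, sgl_mulVec, hx]
    simp

/-- The step: a square on the factor. -/
theorem exists_sqr_factor [Finite F] {S : AddSubgroup (Matrix (α × β) (α × β) F)}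
    (hconj : ∀ u, SUnit σ G u → ∀ θ ∈ S,
      ((1 : Matrix α α F) ⊗ₖ u) * θ * ((1 : Matrix α α F) ⊗ₖ adj σ G G u) ∈ S)
    {θ : Matrix (α × β) (α × β) F} (hθ : θ ∈ S)
    (hnc : ∃ M : Matrix β β F, ((1 : Matrix α α F) ⊗ₖ M) * θ ≠ θ * ((1 : Matrix α α F) ⊗ₖ M)) :
    ∃ (e : β → F) (T : Matrix α α F), e ≠ 0 ∧ ip σ G e e = 0 ∧ T ≠ 0 ∧ T ⊗ₖ sqr σ G e ∈ S := by
  classical
  obtain ⟨p, hp⟩ := CharP.exists F
  haveI : Fact p.Prime := ⟨(CharP.char_is_prime_or_zero F p).resolve_right (CharP.char_ne_zero_of_finite F p)⟩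
  obtain ⟨e, he0, he⟩ := K.exists_isotropic
  obtain ⟨f, hef, hfe, hff, -⟩ := K.exists_partner he0 he
  let one := (1 : Matrix α α F)
  let cm : Matrix (α × β) (α × β) F →+ (Matrix β β F → Matrix (α × β) (α × β) F) :=
    { toFun := comMap
      map_zero' := funext fun M => by simp [comMap]
      map_add' := fun a b => funext fun M => by simp [comMap, mul_add, add_mul]; abel }
  let T := S.map cm
  -- the action on the commutator maps
  letI act : MulAction (GL β F) (Matrix β β F → Matrix (α × β) (α × β) F) :=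
    { smul := fun u φ M => (one ⊗ₖ (u : Matrix β β F)) *
        φ (((u⁻¹ : GL β F) : Matrix β β F) * M * (u : Matrix β β F)) * (one ⊗ₖ ((u⁻¹ : GL β F) : Matrix β β F))
      one_smul := fun φ => funext fun M => by
        show (one ⊗ₖ ((1 : GL β F) : Matrix β β F)) * _ * _ = _
        simp [one, Matrix.one_kronecker_one]
      mul_smul := fun u v φ => funext fun M => by
        show (one ⊗ₖ ((u * v : GL β F) : Matrix β β F)) * _ * _ = (one ⊗ₖ (u : Matrix β β F)) *
          ((one ⊗ₖ (v : Matrix β β F)) * _ * (one ⊗ₖ ((v⁻¹ : GL β F) : Matrix β β F))) * _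
        have k : ∀ a b : Matrix β β F, one ⊗ₖ (a * b) = (one ⊗ₖ a) * (one ⊗ₖ b) := fun a b => by
          rw [← Matrix.mul_kronecker_mul, Matrix.one_mul]
        rw [_root_.mul_inv_rev, Units.val_mul, Units.val_mul, k, k]
        simp only [Matrix.mul_assoc] }
  have hcm : ∀ (u : GL β F) (θ' : Matrix (α × β) (α × β) F), u • cm θ' =
      cm ((one ⊗ₖ (u : Matrix β β F)) * θ' * (one ⊗ₖ ((u⁻¹ : GL β F) : Matrix β β F))) := by
    intro u θ'
    funext M
    show (one ⊗ₖ (u : Matrix β β F)) * comMap θ' _ * (one ⊗ₖ _) = comMap _ M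
    have k : ∀ a b : Matrix β β F, (one ⊗ₖ a) * (one ⊗ₖ b) = one ⊗ₖ (a * b) := fun a b => by
      rw [← Matrix.mul_kronecker_mul, Matrix.one_mul]
    have k' : ∀ (a b : Matrix β β F) (X : Matrix (α × β) (α × β) F),
        (one ⊗ₖ a) * ((one ⊗ₖ b) * X) = (one ⊗ₖ (a * b)) * X := fun a b X => by rw [← Matrix.mul_assoc, k]
    simp only [comMap, mul_sub, sub_mul]
    simp only [Matrix.mul_assoc, one, k, k'] at *
    simp only [Units.mul_inv, Units.inv_mul, Matrix.mul_one, ← Matrix.mul_assoc (u : Matrix β β F), Matrix.one_mul]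
  have hQS : ∀ u ∈ K.flagGroup e, ∀ φ ∈ T, u • φ ∈ T := by
    rintro u hu _ ⟨θ', hθ', rfl⟩
    refine ⟨_, ?_, (hcm u θ').symm⟩
    have := hconj _ hu.1 θ' hθ'
    rwa [show adj σ G G (u : Matrix β β F) = ((u⁻¹ : GL β F) : Matrix β β F) from
      left_inv_eq_right_inv hu.1.1 u.mul_inv] at this
  letI : MulAction (K.flagGroup e) T :=
    { smul := fun u φ => ⟨(u : GL β F) • (φ : Matrix β β F → Matrix (α × β) (α × β) F), hQS u u.2 φ φ.2⟩
      one_smul := fun φ => Subtype.ext (one_smul (GL β F) (φ : Matrix β β F → Matrix (α × β) (α × β) F))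
      mul_smul := fun u v φ => Subtype.ext (mul_smul (u : GL β F) (v : GL β F) _) }
  have hpg : IsPGroup p (K.flagGroup e) := fun u =>
    ⟨2, Subtype.ext (K.flagGroup_pow u.2)⟩
  haveI : Finite F := ‹_›
  obtain ⟨M₀, hM₀⟩ := hnc
  have hne : (⟨cm θ, AddSubgroup.mem_map_of_mem cm hθ⟩ : T) ≠ 0 := fun h0 => hM₀
    (sub_eq_zero.1 (congrFun (congrArg Subtype.val h0) M₀))
  have hdvd : p ∣ Nat.card T := by
    have h1 : addOrderOf (⟨cm θ, AddSubgroup.mem_map_of_mem cm hθ⟩ : T) = p := by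
      refine addOrderOf_eq_prime (Subtype.ext ?_) hne
      show p • cm θ = 0
      funext M a b
      simp [CharP.cast_eq_zero]
    exact h1 ▸ addOrderOf_dvd_natCard _
  obtain ⟨⟨φ, θ₀, hθ₀, rfl⟩, hfix, hφ0⟩ := hpg.exists_fixed_point_of_prime_dvd_card_of_fixed_point T hdvd
    (a := (0 : T)) fun u => Subtype.ext (funext fun M => by
      show (one ⊗ₖ _) * (0 : Matrix (α × β) (α × β) F) * _ = 0
      simp)
  have hθ₀0 : cm θ₀ ≠ 0 := fun h0 => hφ0 (Subtype.ext h0.symm)
  -- the commutators lie in the commutant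
  have hW : ∀ (z : β → F) (d : F), ip σ G e z = 0 → d + σ d = -(ip σ G z z) →
      ∃ W, (∀ M : Matrix β β F, (one ⊗ₖ M) * W = W * (one ⊗ₖ M)) ∧
        (one ⊗ₖ sgl σ G e z d) * θ₀ - θ₀ * (one ⊗ₖ sgl σ G e z d) = W * (one ⊗ₖ (1 + sgl σ G e z d)) := by
    intro z d hez hd
    obtain ⟨u, hu, eu⟩ := K.sgl_mem he hez hd
    refine ⟨(one ⊗ₖ (u : Matrix β β F)) * θ₀ * (one ⊗ₖ ((u⁻¹ : GL β F) : Matrix β β F)) - θ₀, fun M => ?_, ?_⟩
    · have h := congrFun (congrArg Subtype.val (hfix ⟨u, hu⟩)) M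
      change (u • cm θ₀) M = cm θ₀ M at h
      rw [hcm] at h
      change comMap _ M = comMap θ₀ M at h
      rw [comMap, comMap] at h
      rw [mul_sub, sub_mul, sub_eq_sub_iff_sub_eq_sub]
      exact h
    · rw [← eu, sub_mul, Matrix.mul_assoc _ (one ⊗ₖ ((u⁻¹ : GL β F) : Matrix β β F)),
        ← Matrix.mul_kronecker_mul, Matrix.one_mul, Units.inv_mul, show one ⊗ₖ (1 : Matrix β β F) = 1 from
        Matrix.one_kronecker_one, Matrix.mul_one, eu, Matrix.kronecker_add,
        show one ⊗ₖ (1 : Matrix β β F) = 1 from Matrix.one_kronecker_one, add_mul, mul_add, one_mul, mul_one]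
      abel
  -- the transvections
  obtain ⟨δ, hδ0, hδ⟩ := K.herm.exists_skew
  obtain ⟨z₁, hez₁, hz₁e, hz₁⟩ := K.exists_aniso_perp he0 he
  have hE : (one ⊗ₖ sqr σ G e) * θ₀ = θ₀ * (one ⊗ₖ sqr σ G e) := by
    obtain ⟨W, hWc, hWe⟩ := hW 0 δ (ip_zero_right e) (by rw [hδ, ip_zero_left, neg_zero])
    have hs : sgl σ G e 0 δ = δ • sqr σ G e := by simp [sgl, phi_zero]
    have hW0 : W = 0 := by
      refine eq_zero_of_comm hWc (χ := phi σ G z₁) (z := z₁) hz₁ ?_
      have h2 := congrArg (fun X => cg α σ G z₁ * X * emb α z₁) hWe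
      simp only [Matrix.mul_sub, Matrix.sub_mul] at h2
      rw [Matrix.mul_assoc (cg α σ G z₁) (θ₀ * _), Matrix.mul_assoc θ₀, ← Matrix.mul_assoc (cg α σ G z₁),
        ← Matrix.mul_assoc (cg α σ G z₁) W, Matrix.mul_assoc (_ * W), cg_mul_one, eq_of_one_emb, eq_of_one_emb,
        hs] at h2
      rw [show phi σ G z₁ ᵥ* (δ • sqr σ G e) = 0 by
          rw [Matrix.vecMul_smul, sqr, Matrix.vecMul_vecMulVec, phi_dot, hz₁e, zero_smul, smul_zero],
        show (δ • sqr σ G e) *ᵥ z₁ = 0 by rw [Matrix.smul_mulVec, sqr_mulVec, hez₁, zero_smul, smul_zero],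
        show (1 + δ • sqr σ G e) *ᵥ z₁ = z₁ by
          rw [Matrix.add_mulVec, Matrix.one_mulVec, Matrix.smul_mulVec, sqr_mulVec, hez₁, zero_smul, smul_zero,
            add_zero]] at h2
      rw [show (con α (0 : β → F) : Matrix α (α × β) F) = 0 by ext i q; simp [con], emb_zero] at h2
      simp only [Matrix.zero_mul, Matrix.mul_zero, sub_zero] at h2
      exact h2.symm
    rw [hW0, Matrix.zero_mul, hs, Matrix.kronecker_smul, smul_mul_assoc, mul_smul_comm, ← smul_sub, smul_eq_zero,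
      sub_eq_zero] at hWe
    exact hWe.resolve_left hδ0
  set T₀ : Matrix α α F := cg α σ G e * θ₀ * emb α f
  have hEe : (one ⊗ₖ sqr σ G e) * emb α f = emb α e := by
    rw [eq_of_one_emb, sqr_mulVec, hef, one_smul]
  have hEemb : one ⊗ₖ sqr σ G e = emb α e * cg α σ G e := one_kronecker_vecMulVec e _
  have hθe : θ₀ * emb α e = emb α e * T₀ := by
    conv_lhs => rw [← hEe, ← Matrix.mul_assoc, ← hE, hEemb]
    simp only [T₀, Matrix.mul_assoc]
  -- all Siegel elements
  have hN : ∀ (z : β → F) (d : F), ip σ G e z = 0 → d + σ d = -(ip σ G z z) →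
      (one ⊗ₖ sgl σ G e z d) * θ₀ = θ₀ * (one ⊗ₖ sgl σ G e z d) := by
    intro z d hez hd
    obtain ⟨W, hWc, hWe⟩ := hW z d hez hd
    have hse : sgl σ G e z d *ᵥ e = 0 := by
      rw [sgl_mulVec, he, K.gram.ip_eq_zero_symm hez]; simp
    have hW0 : W = 0 := by
      refine eq_zero_of_comm hWc (χ := phi σ G f) (z := e) hfe ?_
      have h2 := congrArg (fun X => X * emb α e) hWe
      simp only [Matrix.sub_mul] at h2
      rw [Matrix.mul_assoc, hθe, ← Matrix.mul_assoc, eq_of_one_emb, Matrix.mul_assoc θ₀, eq_of_one_emb, hse,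
        emb_zero, Matrix.zero_mul, Matrix.mul_zero, sub_zero, Matrix.mul_assoc W, eq_of_one_emb, Matrix.add_mulVec,
        Matrix.one_mulVec, hse, add_zero] at h2
      rw [Matrix.mul_assoc, ← h2, Matrix.mul_zero]
    rw [hW0, Matrix.zero_mul, sub_eq_zero] at hWe
    exact hWe
  have hcgθf : cg α σ G e * (θ₀ * emb α f) = T₀ := (Matrix.mul_assoc _ _ _).symm
  set K' : (β → F) → Matrix α α F := fun z => ip σ G z f • T₀ - cg α σ G z * (θ₀ * emb α f)
  have hK' : ∀ z, ip σ G e z = 0 → θ₀ * emb α z = emb α z * T₀ + emb α e * K' z := by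
    intro z hez
    obtain ⟨d, hd⟩ := K.exists_sgl z
    have h2 := congrArg (fun X => X * emb α f) (hN z d hez hd)
    simp only [] at h2
    rw [Matrix.mul_assoc, Matrix.mul_assoc θ₀, eq_of_one_emb, sgl_mulVec, hef, mul_one, one_smul] at h2
    rw [show one ⊗ₖ sgl σ G e z d =
        emb α e * cg α σ G z - emb α z * cg α σ G e + d • (emb α e * cg α σ G e) by
      rw [← hEemb, show emb α e * cg α σ G z = one ⊗ₖ vecMulVec e (phi σ G z) from (one_kronecker_vecMulVec e _).symm,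
        show emb α z * cg α σ G e = one ⊗ₖ vecMulVec z (phi σ G e) from (one_kronecker_vecMulVec z _).symm]
      ext a b
      simp [sgl, one]
      ring] at h2
    rw [show ((ip σ G z f + d) • e - z) = (ip σ G z f + d) • e + (-1 : F) • z by module, emb_add, emb_smul,
      emb_smul, Matrix.mul_add, Matrix.mul_smul, Matrix.mul_smul, hθe, Matrix.add_mul, Matrix.sub_mul,
      Matrix.mul_assoc, Matrix.mul_assoc (emb α z), Matrix.smul_mul, Matrix.mul_assoc (emb α e) (cg α σ G e),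
      hcgθf] at h2
    simp only [K', Matrix.mul_sub, Matrix.mul_smul]
    generalize θ₀ * emb α z = L at h2 ⊢
    generalize emb α e * (cg α σ G z * (θ₀ * emb α f)) = A at h2 ⊢
    generalize emb α e * T₀ = B at h2 ⊢
    generalize emb α z * T₀ = C at h2 ⊢
    ext a b
    have := congrFun (congrFun h2 a) b
    simp at this ⊢
    linear_combination this
  have hθz : ∀ z, ip σ G e z = 0 → θ₀ * emb α z = emb α z * T₀ := by
    intro z hez
    obtain ⟨a, ha⟩ := K.inv.exists_ne
    have h1 := hK' (a • z) (by rw [ip_smul_right, hez, mul_zero])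
    have h2 := hK' z hez
    have hKs : K' (a • z) = σ a • K' z := by
      simp only [K', ip_smul_left, cg_smul, Matrix.smul_mul, smul_sub, smul_smul]
    rw [emb_smul, Matrix.mul_smul, h2, hKs, Matrix.smul_mul, smul_add, Matrix.mul_smul, add_right_inj] at h1
    have h3 : (a - σ a) • (emb α e * K' z) = 0 := by rw [sub_smul, h1, sub_self]
    rw [h2, (smul_eq_zero.1 h3).resolve_left (sub_ne_zero.2 (Ne.symm ha)), add_zero]
  set R := θ₀ - T₀ ⊗ₖ (1 : Matrix β β F)
  have hTemb : ∀ z : β → F, (T₀ ⊗ₖ (1 : Matrix β β F)) * emb α z = emb α z * T₀ := fun z => by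
    rw [TensorLinear.kronecker_mul_emb, Matrix.one_mulVec]
  set T₁ : Matrix α α F := cg α σ G f * (R * emb α f)
  have hR : R = T₁ ⊗ₖ sqr σ G e := by
    have h1 : R = (R * emb α f) * cg α σ G e := by
      refine mul_emb_ext fun y => ?_
      have hy : ip σ G e (y - ip σ G e y • f) = 0 := by rw [ip_sub_right, ip_smul_right, hef, mul_one, sub_self]
      have hz : R * emb α (y - ip σ G e y • f) = 0 := by
        rw [Matrix.sub_mul, hθz _ hy, hTemb, sub_self]
      rw [Matrix.mul_assoc _ (cg α σ G e), cg_mul_emb, Matrix.mul_smul, Matrix.mul_one]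
      conv_lhs => rw [show y = (y - ip σ G e y • f) + ip σ G e y • f by abel]
      rw [emb_add, emb_smul, Matrix.mul_add, hz, zero_add, Matrix.mul_smul]
    have h2 : R * emb α f = emb α e * T₁ := by
      refine sub_eq_zero.1 (eq_zero_of_cg_mul K.gram fun w => ?_)
      have hperp : ∀ z, ip σ G e z = 0 → cg α σ G z * (R * emb α f) = 0 := fun z hz => by
        have h3 := hθz z hz
        rw [hK' z hz, add_eq_left] at h3
        have h4 := congrArg (cg α σ G f * ·) h3
        simp only [← Matrix.mul_assoc, cg_emb_one hfe, Matrix.one_mul, Matrix.mul_zero] at h4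
        rw [Matrix.sub_mul, hTemb, Matrix.mul_sub, ← Matrix.mul_assoc (cg α σ G z) (emb α f), cg_mul_emb,
          Matrix.smul_mul, Matrix.one_mul, ← neg_eq_zero, neg_sub]
        exact h4
      set z := w - ip σ G e w • f
      have hz : ip σ G e z = 0 := by rw [ip_sub_right, ip_smul_right, hef, mul_one, sub_self]
      rw [show w = z + ip σ G e w • f by simp [z], cg_add, cg_smul, Matrix.add_mul, Matrix.smul_mul, Matrix.mul_sub,
        Matrix.mul_sub, hperp z hz, ← Matrix.mul_assoc (cg α σ G z), cg_emb_zero (K.gram.ip_eq_zero_symm hz),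
        ← Matrix.mul_assoc (cg α σ G f) (emb α e), cg_emb_one hfe]
      simp [T₁, Matrix.mul_assoc]
    rw [h1, h2]
    exact emb_mul_cg e e T₁
  have hT₁ : T₁ ≠ 0 := fun h0 => hθ₀0 (funext fun M => by
    show comMap θ₀ M = 0
    rw [comMap, show θ₀ = T₀ ⊗ₖ (1 : Matrix β β F) by
      rw [h0, Matrix.zero_kronecker, sub_eq_zero] at hR; exact hR, ← Matrix.mul_kronecker_mul,
      ← Matrix.mul_kronecker_mul]
    simp)
  -- moving the square
  obtain ⟨x, c, hx0, hx, hc, hmem⟩ := K.isolate (P := fun A => T₁ ⊗ₖ A ∈ S)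
    (fun A B hA hB _ => by rw [Matrix.kronecker_add]; exact S.add_mem hA hB) he0 he fun e' he0' he' _ => by
      obtain ⟨u, hu, hue⟩ := K.move_iso he0 he0' he he'
      have h1 := S.sub_mem (hconj u hu θ₀ hθ₀) hθ₀
      rw [show θ₀ = T₀ ⊗ₖ (1 : Matrix β β F) + T₁ ⊗ₖ sqr σ G e by rw [← hR]; simp [R], Matrix.mul_add, Matrix.add_mul,
        ← Matrix.mul_kronecker_mul, ← Matrix.mul_kronecker_mul, ← Matrix.mul_kronecker_mul,
        ← Matrix.mul_kronecker_mul, Matrix.one_mul, Matrix.mul_one, Matrix.one_mul, Matrix.mul_one, Matrix.mul_one,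
        hu.mul_adj, hu.conj_sqr K.gram, hue, add_sub_add_left_eq_sub] at h1
      convert h1 using 1
      ext a b; simp [mul_sub]
  exact ⟨x, c • T₁, hx0, hx, smul_ne_zero hc hT₁, by rwa [Matrix.kronecker_smul, ← Matrix.smul_kronecker] at hmem⟩

end Space

end CfsgLib.Geo.UnitWreath
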