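/-
The tensor power of a hermitian form: adjoints, similitudes, and isometric roots.
-/
import Cfsg.Agent.Lib.Geo.UnitWreath.Herm
import Cfsg.Agent.Lib.Geo.TensorWreath.Fac

set_option autoImplicit false
set_option linter.unusedSectionVars false

namespace CfsgLib.Geo.UnitWreath

open Matrix CfsgLib.Geo.SpinTensor CfsgLib.Geo.TensorWreath
open scoped Kronecker

variable {F : Type*} [Field F] {σ : F →+* F}

section Sim

variable {ι : Type} [Fintype ι] [DecidableEq ι] {Γ : Matrix ι ι F}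

/-- A similitude. -/
def Sim (σ : F →+* F) (Γ M : Matrix ι ι F) : Prop := ∃ μ : F, μ ≠ 0 ∧ adj σ Γ Γ M * M = μ • 1

/-- An isometry. -/
def IsIso (σ : F →+* F) (Γ M : Matrix ι ι F) : Prop := adj σ Γ Γ M * M = 1

theorem IsIso.sim {M : Matrix ι ι F} (h : IsIso σ Γ M) : Sim σ Γ M := ⟨1, one_ne_zero, by rw [one_smul]; exact h⟩

variable (hΓ : IsGram σ Γ)
include hΓ

theorem IsIso.mul {M N : Matrix ι ι F} (hM : IsIso σ Γ M) (hN : IsIso σ Γ N) : IsIso σ Γ (M * N) := by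
  rw [IsIso, adj_mul hΓ, mul_assoc, ← mul_assoc (adj σ Γ Γ M), hM, one_mul, hN]

theorem IsIso.one : IsIso σ Γ (1 : Matrix ι ι F) := by rw [IsIso, adj_one hΓ, one_mul]

theorem IsIso.inv {g : GL ι F} (hg : IsIso σ Γ (g : Matrix ι ι F)) :
    IsIso σ Γ ((g⁻¹ : GL ι F) : Matrix ι ι F) := by
  have h : adj σ Γ Γ (g : Matrix ι ι F) = ((g⁻¹ : GL ι F) : Matrix ι ι F) := left_inv_eq_right_inv hg g.mul_inv
  rw [IsIso, ← h, adj_adj hΓ hΓ, h, Units.mul_inv]

theorem Sim.mul {M N : Matrix ι ι F} (hM : Sim σ Γ M) (hN : Sim σ Γ N) : Sim σ Γ (M * N) := by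
  obtain ⟨a, ha, hM⟩ := hM
  obtain ⟨b, hb, hN⟩ := hN
  refine ⟨a * b, mul_ne_zero ha hb, ?_⟩
  rw [adj_mul hΓ, mul_assoc, ← mul_assoc (adj σ Γ Γ M), hM, smul_mul_assoc, one_mul, mul_smul_comm, hN, smul_smul]

theorem Sim.mul_adj {M : Matrix ι ι F} {μ : F} (hμ : μ ≠ 0) (h : adj σ Γ Γ M * M = μ • 1) :
    M * adj σ Γ Γ M = μ • 1 := by
  have h1 : (μ⁻¹ • adj σ Γ Γ M) * M = 1 := by rw [smul_mul_assoc, h, smul_smul, inv_mul_cancel₀ hμ, one_smul]
  have h2 := mul_eq_one_comm.1 h1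
  rw [mul_smul_comm] at h2
  rw [← h2, smul_smul, mul_inv_cancel₀ hμ, one_smul]

theorem Sim.fixed [Nonempty ι] {M : Matrix ι ι F} {μ : F} (h : adj σ Γ Γ M * M = μ • 1) : σ μ = μ := by
  have h1 := congrArg (adj σ Γ Γ) h
  rw [adj_mul hΓ, adj_adj hΓ hΓ, adj_smul, adj_one hΓ, h] at h1
  have := congrFun (congrFun h1 (Classical.arbitrary ι)) (Classical.arbitrary ι)
  simpa using this.symm

theorem Sim.inv {g : GL ι F} (hg : Sim σ Γ (g : Matrix ι ι F)) :
    Sim σ Γ ((g⁻¹ : GL ι F) : Matrix ι ι F) := by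
  obtain ⟨μ, hμ, h⟩ := hg
  rcases isEmpty_or_nonempty ι with hι | hι
  · exact ⟨1, one_ne_zero, Subsingleton.elim _ _⟩
  refine ⟨μ⁻¹, inv_ne_zero hμ, ?_⟩
  have hgi : ((g⁻¹ : GL ι F) : Matrix ι ι F) = μ⁻¹ • adj σ Γ Γ (g : Matrix ι ι F) :=
    left_inv_eq_right_inv g.inv_mul (by
      rw [mul_smul_comm, Sim.mul_adj hΓ hμ h, smul_smul, inv_mul_cancel₀ hμ, one_smul])
  rw [hgi, adj_smul, adj_adj hΓ hΓ, smul_mul_smul_comm, Sim.mul_adj hΓ hμ h, smul_smul, map_inv₀, Sim.fixed hΓ h]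
  congr 1
  field_simp

theorem IsIso.conj {g : GL ι F} {M : Matrix ι ι F} (hg : Sim σ Γ (g : Matrix ι ι F)) (hM : IsIso σ Γ M) :
    IsIso σ Γ ((g : Matrix ι ι F) * M * ((g⁻¹ : GL ι F) : Matrix ι ι F)) := by
  obtain ⟨a, ha, h⟩ := hg
  obtain ⟨b, hb, h'⟩ := Sim.inv hΓ ⟨a, ha, h⟩
  have hab : a * b = 1 ∨ IsEmpty ι := by
    rcases isEmpty_or_nonempty ι with hι | hι
    · exact Or.inr hι
    left
    have h3 : adj σ Γ Γ ((g : Matrix ι ι F) * ((g⁻¹ : GL ι F) : Matrix ι ι F)) *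
        ((g : Matrix ι ι F) * ((g⁻¹ : GL ι F) : Matrix ι ι F)) = (a * b) • 1 := by
      rw [adj_mul hΓ, mul_assoc, ← mul_assoc (adj σ Γ Γ (g : Matrix ι ι F)), h, smul_mul_assoc, one_mul,
        mul_smul_comm, h', smul_smul]
    rw [Units.mul_inv, adj_one hΓ, one_mul] at h3
    have := congrFun (congrFun h3 (Classical.arbitrary ι)) (Classical.arbitrary ι)
    simpa using this.symm
  rcases hab with hab | hab
  swap
  · exact Subsingleton.elim _ _
  rw [IsIso, adj_mul hΓ, adj_mul hΓ]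
  calc adj σ Γ Γ ((g⁻¹ : GL ι F) : Matrix ι ι F) * (adj σ Γ Γ M * adj σ Γ Γ (g : Matrix ι ι F)) *
        ((g : Matrix ι ι F) * M * ((g⁻¹ : GL ι F) : Matrix ι ι F))
      = adj σ Γ Γ ((g⁻¹ : GL ι F) : Matrix ι ι F) * (adj σ Γ Γ M * ((adj σ Γ Γ (g : Matrix ι ι F) *
        (g : Matrix ι ι F)) * M)) * ((g⁻¹ : GL ι F) : Matrix ι ι F) := by simp only [mul_assoc]
    _ = 1 := by
      rw [h, smul_mul_assoc, one_mul, mul_smul_comm, hM, mul_smul_comm, mul_one, smul_mul_assoc, h', smul_smul,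
        hab, one_smul]

end Sim

/-! ### The tensor power -/

variable {t m : ℕ} {G : Matrix (Fin m) (Fin m) F}

/-- The Gram matrix of the tensor power. -/
def gramT (G : Matrix (Fin m) (Fin m) F) (t : ℕ) : Matrix (Fin t → Fin m) (Fin t → Fin m) F :=
  SpinTensor.pure fun _ => G

/-- The adjoint on the tensor power. -/
noncomputable def adT (σ : F →+* F) (G : Matrix (Fin m) (Fin m) F)
    (M : Matrix (Fin t → Fin m) (Fin t → Fin m) F) : Matrix (Fin t → Fin m) (Fin t → Fin m) F :=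
  adj σ (gramT G t) (gramT G t) M

theorem pure_map (gs : Fin t → Matrix (Fin m) (Fin m) F) :
    (SpinTensor.pure gs).map σ = SpinTensor.pure fun i => (gs i).map σ := by
  ext a b; simp [pure_apply, map_prod]

theorem gramT_inv_mul (hG : IsGram σ G) (t : ℕ) :
    SpinTensor.pure (fun _ : Fin t => G⁻¹) * gramT G t = 1 := by
  rw [gramT, pure_mul]; simp only [hG.inv_mul]; exact pure_one

theorem isGram_gramT (hG : IsGram σ G) (t : ℕ) : IsGram σ (gramT G t) where
  invol := hG.invol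
  symm := by rw [gramT, pure_map, pure_transpose]; simp only [hG.symm]
  unit := (Matrix.isUnit_iff_isUnit_det _).1 (IsUnit.of_mul_eq_one _ (mul_eq_one_comm.1 (gramT_inv_mul hG t)))

theorem gramT_inv (hG : IsGram σ G) (t : ℕ) : (gramT G t)⁻¹ = SpinTensor.pure fun _ => G⁻¹ :=
  Matrix.inv_eq_left_inv (gramT_inv_mul hG t)

theorem adT_pure (hG : IsGram σ G) (gs : Fin t → Matrix (Fin m) (Fin m) F) :
    adT σ G (SpinTensor.pure gs) = SpinTensor.pure fun i => adj σ G G (gs i) := by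
  rw [adT, adj, pure_map, pure_transpose, gramT_inv hG, gramT, pure_mul, pure_mul]
  rfl

theorem adT_emb (hG : IsGram σ G) (i : Fin t) (X : Matrix (Fin m) (Fin m) F) :
    adT σ G (SpinTensor.emb i X) = SpinTensor.emb i (adj σ G G X) := by
  show adT σ G (SpinTensor.pure _) = SpinTensor.pure _
  rw [adT_pure hG]
  congr 1
  funext j
  by_cases hj : j = i
  · subst hj; simp
  · simp [Function.update_of_ne hj, adj_one hG]

theorem perm_transpose (π : Equiv.Perm (Fin t)) :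
    (perm (F := F) (J := Fin m) π)ᵀ = perm π⁻¹ := by
  ext c c'
  simp only [Matrix.transpose_apply, perm]
  refine if_congr ⟨fun h => ?_, fun h => ?_⟩ rfl rfl
  · rw [h]; funext i; simp
  · rw [h]; funext i; simp

theorem adT_perm (hG : IsGram σ G) (π : Equiv.Perm (Fin t)) :
    adT σ G (perm (F := F) (J := Fin m) π) = perm π⁻¹ := by
  have h : (perm (F := F) (J := Fin m) π).map σ = perm π := by
    ext a b; simp [perm, apply_ite σ]
  have h2 : perm π⁻¹ * gramT G t = gramT G t * perm π⁻¹ := perm_mul_pure π⁻¹ _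
  rw [adT, adj, h, perm_transpose, mul_assoc, h2, ← mul_assoc, (isGram_gramT hG t).inv_mul, one_mul]

theorem adT_mul (hG : IsGram σ G) (M N : Matrix (Fin t → Fin m) (Fin t → Fin m) F) :
    adT σ G (M * N) = adT σ G N * adT σ G M := adj_mul (isGram_gramT hG t) M N

theorem sim_perm (hG : IsGram σ G) (π : Equiv.Perm (Fin t)) : IsIso σ (gramT G t) (perm (J := Fin m) π) := by
  show adT σ G _ * _ = _
  rw [adT_perm hG, perm_mul, inv_mul_cancel, perm_one]

theorem sim_pure (hG : IsGram σ G) {gs : Fin t → Matrix (Fin m) (Fin m) F} (h : ∀ i, Sim σ G (gs i)) :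
    Sim σ (gramT G t) (SpinTensor.pure gs) := by
  choose μ hμ hgs using h
  refine ⟨∏ i, μ i, Finset.prod_ne_zero_iff.2 fun i _ => hμ i, ?_⟩
  show adT σ G _ * _ = _
  rw [adT_pure hG, pure_mul]
  simp only [hgs]
  ext a b
  rw [pure_apply, Matrix.smul_apply, ← pure_one, pure_apply, smul_eq_mul, ← Finset.prod_mul_distrib]
  simp

theorem sub_adT (i : Fin (t + 1)) (M : Matrix (Fin (t + 1) → Fin m) (Fin (t + 1) → Fin m) F) :
    (adT σ G M).submatrix (sp i) (sp i) =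
      adj σ (gramT G t ⊗ₖ G) (gramT G t ⊗ₖ G) (M.submatrix (sp i) (sp i)) := by
  have h : (gramT G (t + 1)).submatrix (sp i) (sp i) = gramT G t ⊗ₖ G := sub_pure i _
  rw [adT, adj, adj, ← h, Matrix.inv_submatrix_equiv, ← Matrix.submatrix_map, Matrix.transpose_submatrix,
    Matrix.submatrix_mul_equiv, Matrix.submatrix_mul_equiv]

theorem sim_spGL {i : Fin (t + 1)} {g : GL (Fin (t + 1) → Fin m) F}
    (h : Sim σ (gramT G (t + 1)) (g : Matrix (Fin (t + 1) → Fin m) (Fin (t + 1) → Fin m) F)) :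
    Sim σ (gramT G t ⊗ₖ G) (spGL i g : Matrix ((Fin t → Fin m) × Fin m) ((Fin t → Fin m) × Fin m) F) := by
  obtain ⟨μ, hμ, e⟩ := h
  refine ⟨μ, hμ, ?_⟩
  rw [spGL_val, ← sub_adT, Matrix.submatrix_mul_equiv, show adT σ G _ * _ = _ from e]
  ext a b
  simp [Matrix.one_apply, (sp i).injective.eq_iff]

theorem isIso_spGL {i : Fin (t + 1)} {g : GL (Fin (t + 1) → Fin m) F}
    (h : IsIso σ (gramT G (t + 1)) (g : Matrix (Fin (t + 1) → Fin m) (Fin (t + 1) → Fin m) F)) :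
    IsIso σ (gramT G t ⊗ₖ G) (spGL i g : Matrix ((Fin t → Fin m) × Fin m) ((Fin t → Fin m) × Fin m) F) := by
  rw [IsIso, spGL_val, ← sub_adT, Matrix.submatrix_mul_equiv, show adT σ G _ * _ = _ from h,
    Matrix.submatrix_one_equiv]

section Kron

variable {α β : Type} [Fintype α] [DecidableEq α] [Fintype β] [DecidableEq β]

theorem kron_eq_smul_one {A : Matrix α α F} {B : Matrix β β F} {μ : F} (hμ : μ ≠ 0) [Nonempty α] [Nonempty β]
    (h : A ⊗ₖ B = μ • 1) : ∃ a b : F, a ≠ 0 ∧ b ≠ 0 ∧ A = a • 1 ∧ B = b • 1 := by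
  obtain ⟨i⟩ := ‹Nonempty α›
  obtain ⟨j⟩ := ‹Nonempty β›
  have hh : ∀ x y z w, A x y * B z w = if x = y ∧ z = w then μ else 0 := fun x y z w => by
    have := congrFun (congrFun h (x, z)) (y, w)
    simpa [Matrix.one_apply] using this
  have hA : A i i ≠ 0 := fun e => hμ (by have := hh i i j j; simpa [e] using this.symm)
  have hB : B j j ≠ 0 := fun e => hμ (by have := hh i i j j; simpa [e] using this.symm)
  refine ⟨μ / B j j, μ / A i i, div_ne_zero hμ hB, div_ne_zero hμ hA, ?_, ?_⟩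
  · ext x y
    rw [Matrix.smul_apply, Matrix.one_apply, smul_eq_mul, mul_ite, mul_one, mul_zero]
    have := hh x y j j
    split_ifs with hxy
    · subst hxy; rw [eq_div_iff hB]; simpa using this
    · simpa [hxy, hB] using this
  · ext x y
    rw [Matrix.smul_apply, Matrix.one_apply, smul_eq_mul, mul_ite, mul_one, mul_zero]
    have := hh i i x y
    split_ifs with hxy
    · subst hxy; rw [eq_div_iff hA, mul_comm]; simpa using this
    · simpa [hxy, hA] using this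

theorem Sim.factors {Gα : Matrix α α F} {Gβ : Matrix β β F} (hα : IsGram σ Gα) (hβ : IsGram σ Gβ)
    [Nonempty α] [Nonempty β] {A : Matrix α α F} {B : Matrix β β F}
    (h : Sim σ (Gα ⊗ₖ Gβ) (A ⊗ₖ B)) : Sim σ Gα A ∧ Sim σ Gβ B := by
  obtain ⟨μ, hμ, e⟩ := h
  rw [adj_kronecker hα hβ, ← Matrix.mul_kronecker_mul] at e
  obtain ⟨a, b, ha, hb, eA, eB⟩ := kron_eq_smul_one hμ e
  exact ⟨⟨a, ha, eA⟩, ⟨b, hb, eB⟩⟩

end Kron

/-! ### Roots -/

/-- The special unitary matrix, as a unit. -/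
noncomputable def SUnit.gl {u : Matrix (Fin m) (Fin m) F} (hu : SUnit σ G u) : GL (Fin m) F :=
  ⟨u, adj σ G G u, hu.mul_adj, hu.1⟩

theorem SUnit.val_gl {u : Matrix (Fin m) (Fin m) F} (hu : SUnit σ G u) :
    (hu.gl : Matrix (Fin m) (Fin m) F) = u := rfl

theorem SUnit.val_gl_inv {u : Matrix (Fin m) (Fin m) F} (hu : SUnit σ G u) :
    ((hu.gl⁻¹ : GL (Fin m) F) : Matrix (Fin m) (Fin m) F) = adj σ G G u := rfl

theorem isIso_fac (hG : IsGram σ G) {u : Matrix (Fin m) (Fin m) F} (hu : SUnit σ G u) (i : Fin t) :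
    IsIso σ (gramT G t) (fac i hu.gl : Matrix (Fin t → Fin m) (Fin t → Fin m) F) := by
  show adT σ G _ * _ = _
  rw [val_fac, adT_emb hG, emb_mul_emb, hu.val_gl, hu.1, emb_one]

/-- An isometric root. -/
def IsURoot (σ : F →+* F) (G : Matrix (Fin m) (Fin m) F) (x : GL (Fin t → Fin m) F) : Prop :=
  IsRoot x ∧ IsIso σ (gramT G t) (x : Matrix (Fin t → Fin m) (Fin t → Fin m) F)

theorem IsURoot.isStd {x : GL (Fin t → Fin m) F} (hx : IsURoot σ G x) : IsStd x := hx.1.isStd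

theorem IsURoot.conj (hG : IsGram σ G) {x g : GL (Fin t → Fin m) F} (hx : IsURoot σ G x) (hg : IsStd g)
    (hs : Sim σ (gramT G t) (g : Matrix (Fin t → Fin m) (Fin t → Fin m) F)) : IsURoot σ G (g * x * g⁻¹) := by
  refine ⟨hx.1.conj hg, ?_⟩
  rw [Units.val_mul, Units.val_mul]
  exact IsIso.conj (isGram_gramT hG t) hs hx.2

/-- The shape of an isometric root. -/
theorem IsURoot.shape (K : Space σ G) {x : GL (Fin t → Fin m) F} (hx : IsURoot σ G x) :
    ∃ (i : Fin t) (v : Fin m → F) (c : F), v ≠ 0 ∧ ip σ G v v = 0 ∧ c ≠ 0 ∧ c + σ c = 0 ∧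
      (x : Matrix (Fin t → Fin m) (Fin t → Fin m) F) = SpinTensor.emb i (trv σ G v c) := by
  obtain ⟨⟨i, v, φ, h, hv, hφ, e⟩, hiso⟩ := hx
  have hm : 3 ≤ m := by simpa using K.three
  rw [rootMat_eq_emb] at e
  rw [IsIso, show adj σ (gramT G t) (gramT G t) _ = adT σ G _ from rfl, e, adT_emb K.gram, emb_mul_emb,
    ← emb_one i] at hiso
  have h1 := emb_injective hm i hiso
  have h2 : adj σ G G (vecMulVec v φ) = -vecMulVec v φ := by
    have h3 := congrArg (· * (1 - vecMulVec v φ)) h1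
    simp only [one_mul, adj_add, adj_one K.gram, mul_assoc] at h3
    rw [show (1 + vecMulVec v φ) * (1 - vecMulVec v φ) = (1 : Matrix (Fin m) (Fin m) F) by
      rw [mul_sub, mul_one, add_mul, one_mul, vecMulVec_sq h]; abel, mul_one, sub_eq_add_neg] at h3
    exact add_left_cancel h3
  obtain ⟨u, rfl⟩ := K.gram.exists_phi φ
  rw [adj_vecMulVec K.gram] at h2
  obtain ⟨y, hy⟩ := K.exists_ip_one hv
  have h4 := congrArg (· *ᵥ y) h2
  simp only [Matrix.vecMulVec_mulVec, Matrix.neg_mulVec, phi_dot] at h4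
  rw [phi_dot] at h
  have hu : u = (-ip σ G u y) • v := by
    funext j
    have := congrFun h4 j
    simp [phi_dot, hy] at this
    simp [this, mul_comm]
  set c' := -ip σ G u y
  have hc' : c' ≠ 0 := fun h0 => hφ (by rw [hu, h0, zero_smul, phi_zero])
  have hvv : ip σ G v v = 0 := by
    rw [hu, ip_smul_left] at h
    exact (mul_eq_zero.1 h).resolve_left fun h0 => hc' (by rw [← K.gram.invol c', h0, map_zero])
  have he : vecMulVec v (phi σ G u) = σ c' • sqr σ G v := by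
    rw [hu, phi_smul, Matrix.vecMulVec_smul]; rfl
  refine ⟨i, v, σ c', hv, hvv, fun h0 => hc' (by rw [← K.gram.invol c', h0, map_zero]), ?_, by rw [e, he]; rfl⟩
  rw [hu, Matrix.smul_vecMulVec, phi_smul, Matrix.vecMulVec_smul, ← neg_smul, ← sub_eq_zero, ← sub_smul,
    smul_eq_zero] at h2
  rcases h2 with h2 | h2
  · rw [K.gram.invol]; linear_combination h2
  · exfalso
    obtain ⟨a, ha⟩ := Function.ne_iff.1 hv
    obtain ⟨b, hb⟩ := Function.ne_iff.1 (K.gram.phi_ne_zero hv)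
    exact mul_ne_zero ha hb (congrFun (congrFun h2 a) b)

/-- The isometric root at a factor. -/
theorem exists_uroot (K : Space σ G) {v : Fin m → F} (hv : v ≠ 0) (hvv : ip σ G v v = 0) {c : F} (hc : c ≠ 0)
    (hcs : c + σ c = 0) (i : Fin t) : IsURoot σ G (fac i (K.trv_su hvv hcs).gl) := by
  have h : (c • phi σ G v) ⬝ᵥ v = 0 := by rw [smul_dotProduct, phi_dot, hvv, smul_zero]
  have e : (K.trv_su hvv hcs).gl = TensorWreath.trv v (c • phi σ G v) h := Units.ext (by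
    show 1 + c • sqr σ G v = 1 + vecMulVec v (c • phi σ G v)
    rw [Matrix.vecMulVec_smul]; rfl)
  refine ⟨?_, isIso_fac K.gram _ i⟩
  rw [e]
  exact isRoot_fac_trv i h hv fun h0 => K.gram.phi_ne_zero hv ((smul_eq_zero.1 h0).resolve_left hc)

end CfsgLib.Geo.UnitWreath
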