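/-
Two factors without non-scalar root coefficients: conjugators which keep a line are Kronecker products.
-/
import Cfsg.Agent.Lib.Geo.UnitWreath.Step
import Cfsg.Agent.Lib.Geo.UnitWreath.Tensor

set_option autoImplicit false
set_option linter.unusedSectionVars false

namespace CfsgLib.Geo.UnitWreath

open Matrix CfsgLib.Geo.TensorLinear
open scoped Kronecker

variable {F : Type*} [Field F] {σ : F →+* F}
variable {α β : Type} [Fintype α] [DecidableEq α] [Fintype β] [DecidableEq β]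
variable {Gα : Matrix α α F} {G : Matrix β β F}

/-- A Kronecker product. -/
def Kr (y : GL (α × β) F) : Prop :=
  ∃ (A : GL α F) (B : GL β F), (y : Matrix (α × β) (α × β) F) = (A : Matrix α α F) ⊗ₖ (B : Matrix β β F)

/-- What is used about a group on two factors. -/
structure PairHyp (σ : F →+* F) (Gα : Matrix α α F) (G : Matrix β β F) (X : Subgroup (GL (α × β) F)) : Prop where
  space : Space σ G
  gramA : IsGram σ Gα
  base : ∀ u : Matrix β β F, SUnit σ G u →
    ∃ x ∈ X, ((x : GL (α × β) F) : Matrix (α × β) (α × β) F) = (1 : Matrix α α F) ⊗ₖ u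
  scalar : ∀ x ∈ X, ∀ (w : β → F) (θ : Matrix α α F), w ≠ 0 → ip σ G w w = 0 →
    ((x : GL (α × β) F) : Matrix (α × β) (α × β) F) = 1 + θ ⊗ₖ sqr σ G w → ∃ c : F, θ = c • 1

/-- A similitude which conjugates the second factor into the group. -/
def Conj (σ : F →+* F) (Gα : Matrix α α F) (G : Matrix β β F) (X : Subgroup (GL (α × β) F)) (y : GL (α × β) F) :
    Prop :=
  Sim σ (Gα ⊗ₖ G) (y : Matrix (α × β) (α × β) F) ∧ ∀ (x : GL (α × β) F) (u : Matrix β β F), SUnit σ G u →
    (x : Matrix (α × β) (α × β) F) = (1 : Matrix α α F) ⊗ₖ u → y * x * y⁻¹ ∈ X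

theorem emb_inj {w : β → F} (hw : w ≠ 0) {n : Type} [Fintype n] {M N : Matrix α n F}
    (h : (emb α w : Matrix (α × β) α F) * M = emb α w * N) : M = N := by
  obtain ⟨χ, hχ⟩ := exists_dual hw
  have h1 := congrArg ((con α χ : Matrix α (α × β) F) * ·) h
  simpa only [← Matrix.mul_assoc, con_mul_emb, hχ, one_smul, Matrix.one_mul] using h1

theorem emb_vec_inj {w w' : β → F} [Nonempty α] {A : Matrix α α F} (hA : IsUnit A.det)
    (h : (emb α w : Matrix (α × β) α F) * A = emb α w' * A) : w = w' := by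
  have h1 := congrArg (· * A⁻¹) h
  simp only [Matrix.mul_assoc, Matrix.mul_nonsing_inv _ hA, Matrix.mul_one] at h1
  funext j
  have := congrFun (congrFun h1 (Classical.arbitrary α, j)) (Classical.arbitrary α)
  simpa [emb] using this

theorem one_kron_mul_emb (A : Matrix β β F) (w : β → F) :
    ((1 : Matrix α α F) ⊗ₖ A) * emb α w = emb α (A *ᵥ w) := eq_of_one_emb w

theorem one_kron_sgl (e z : β → F) (d : F) :
    (1 : Matrix α α F) ⊗ₖ sgl σ G e z d =
      emb α e * cg α σ G z - emb α z * cg α σ G e + d • (emb α e * cg α σ G e) := by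
  rw [show emb α e * cg α σ G z = (1 : Matrix α α F) ⊗ₖ vecMulVec e (phi σ G z) from
      (one_kronecker_vecMulVec e _).symm,
    show emb α z * cg α σ G e = (1 : Matrix α α F) ⊗ₖ vecMulVec z (phi σ G e) from
      (one_kronecker_vecMulVec z _).symm,
    show emb α e * cg α σ G e = (1 : Matrix α α F) ⊗ₖ sqr σ G e from (one_kronecker_vecMulVec e _).symm]
  ext a b
  simp [sgl]
  ring

theorem kron_sqr (θ : Matrix α α F) (w : β → F) :
    θ ⊗ₖ sqr σ G w = emb α w * θ * cg α σ G w := (emb_mul_cg w w θ).symm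

/-- The decomposition of a vector against a hyperbolic pair. -/
theorem Space.decomp {w f : β → F} (hwf : ip σ G w f = 1) (v : β → F) :
    ∃ z, ip σ G w z = 0 ∧ v = z + ip σ G w v • f :=
  ⟨v - ip σ G w v • f, by rw [ip_sub_right, ip_smul_right, hwf, mul_one, sub_self], by simp⟩

/-- A matrix with scalar contractions. -/
theorem exists_emb_of_scalar (hG : IsGram σ G) [Nonempty α] {M : Matrix (α × β) α F}
    (h : ∀ v, ∃ s : F, cg α σ G v * M = s • 1) : ∃ r, M = emb α r := by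
  obtain ⟨a₀⟩ := ‹Nonempty α›
  refine ⟨fun j => M (a₀, j) a₀, ?_⟩
  ext ⟨a, j⟩ a'
  obtain ⟨v, hv⟩ := hG.exists_phi (Pi.single j 1)
  obtain ⟨s, hs⟩ := h v
  have e : ∀ x y, M (x, j) y = if x = y then s else 0 := fun x y => by
    have := congrFun (congrFun hs x) y
    simpa [Matrix.mul_apply, cg, hv, con, Fintype.sum_prod_type, Pi.single_apply, Matrix.one_apply] using this
  rw [e]
  simp only [emb, e, if_true]

/-- A matrix whose contractions with the vectors orthogonal to a point are scalars. -/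
theorem exists_emb_add (hG : IsGram σ G) [Nonempty α] {w f : β → F} (hwf : ip σ G w f = 1)
    (hww : ip σ G w w = 0) {M : Matrix (α × β) α F}
    (h : ∀ z, ip σ G w z = 0 → ∃ s : F, cg α σ G z * M = s • 1) :
    ∃ (r : β → F) (θ : Matrix α α F), M = emb α r + emb α w * θ ∧ ip σ G f r = 0 := by
  have hfw : ip σ G f w = 1 := by rw [← hG.ip_symm, hwf, map_one]
  set θ := cg α σ G f * M
  obtain ⟨r, hr⟩ := exists_emb_of_scalar hG (M := M - emb α w * θ) fun v => by
    obtain ⟨z, hz, hv⟩ := Space.decomp hwf v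
    obtain ⟨s, hs⟩ := h z hz
    refine ⟨s, ?_⟩
    rw [hv, cg_add, cg_smul, Matrix.add_mul, Matrix.mul_sub, Matrix.smul_mul, Matrix.mul_sub, hs,
      ← Matrix.mul_assoc, cg_emb_zero (hG.ip_eq_zero_symm hz), Matrix.zero_mul, ← Matrix.mul_assoc (cg α σ G f),
      cg_emb_one hfw, Matrix.one_mul, sub_self, smul_zero, sub_zero, add_zero]
  refine ⟨r, θ, by rw [← hr, sub_add_cancel], ?_⟩
  have h0 : cg α σ G f * emb α r = 0 := by
    rw [← hr, Matrix.mul_sub, ← Matrix.mul_assoc, cg_emb_one hfw, Matrix.one_mul, sub_self]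
  rw [cg_mul_emb] at h0
  exact (smul_eq_zero.1 h0).resolve_right one_ne_zero

/-- The scalar trick. -/
theorem scalar_of_twisted (hσ : CfsgLib.Classical.Herm.IsInvol σ) {P Q : Matrix α α F}
    (h : ∀ c : F, ∃ s : F, c • P - σ c • Q = s • 1) : ∃ s : F, P = s • 1 := by
  obtain ⟨a, ha⟩ := hσ.exists_ne
  obtain ⟨s₁, h1⟩ := h 1
  obtain ⟨s₂, h2⟩ := h a
  refine ⟨(a - σ a)⁻¹ * (s₂ - σ a * s₁), ?_⟩
  have h3 : (a - σ a) • P = (s₂ - σ a * s₁) • (1 : Matrix α α F) := by
    rw [sub_smul, sub_smul, ← h2, mul_smul, ← h1, map_one, one_smul, one_smul, smul_sub]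
    abel
  rw [← smul_smul, ← h3, inv_smul_smul₀ (sub_ne_zero.2 (Ne.symm ha))]

namespace PairHyp

variable {X : Subgroup (GL (α × β) F)} (H : PairHyp σ Gα G X)
include H

theorem adj_emb_mul {n : Type} [Fintype n] [DecidableEq n] {Gn : Matrix n n F} (w : β → F) (M : Matrix α n F) :
    adj σ (Gα ⊗ₖ G) Gn (emb α w * M) = adj σ Gα Gn M * cg α σ G w := by
  rw [adj_mul H.gramA, adj_emb H.gramA]

theorem adj_cg_mul {w : β → F} {M : Matrix (α × β) α F} :
    adj σ Gα Gα (cg α σ G w * M) = adj σ (Gα ⊗ₖ G) Gα M * emb α w := by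
  rw [adj_mul (H.gramA.kronecker H.space.gram), adj_cg H.gramA H.space.gram]

/-- The element and its inverse on the second factor. -/
theorem exists_base {u : Matrix β β F} (hu : SUnit σ G u) :
    ∃ x ∈ X, ((x : GL (α × β) F) : Matrix (α × β) (α × β) F) = (1 : Matrix α α F) ⊗ₖ u ∧
      ((x⁻¹ : GL (α × β) F) : Matrix (α × β) (α × β) F) = (1 : Matrix α α F) ⊗ₖ adj σ G G u := by
  obtain ⟨x, hx, e⟩ := H.base u hu
  refine ⟨x, hx, e, Units.inv_eq_of_mul_eq_one_right ?_⟩
  rw [e, ← Matrix.mul_kronecker_mul, Matrix.one_mul, hu.mul_adj, Matrix.one_kronecker_one]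

/-- The hypothesis of the short lemmas. -/
def Short (σ : F →+* F) (Gα : Matrix α α F) (G : Matrix β β F) (X : Subgroup (GL (α × β) F)) (w : β → F)
    (Λ : Matrix (α × β) α F) (D : F → Matrix α α F) : Prop :=
  ∀ c : F, ∃ x ∈ X, ((x : GL (α × β) F) : Matrix (α × β) (α × β) F) =
    1 + emb α w * (σ c • adj σ (Gα ⊗ₖ G) Gα Λ) - c • (Λ * cg α σ G w) + emb α w * D c * cg α σ G w

variable [Finite F] [Nonempty α]
variable {w : β → F} (hw0 : w ≠ 0) (hw : ip σ G w w = 0) {Λ : Matrix (α × β) α F} (hΛ : cg α σ G w * Λ = 0)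
  {D : F → Matrix α α F} (hS : Short σ Gα G X w Λ D)
include hw0 hw hΛ hS

theorem short_struct : ∃ (r : β → F) (θ : Matrix α α F), Λ = emb α r + emb α w * θ ∧ ip σ G w r = 0 := by
  obtain ⟨f, hwf, -, -, -⟩ := H.space.exists_partner hw0 hw
  have hΛ' : adj σ (Gα ⊗ₖ G) Gα Λ * emb α w = 0 := by rw [← H.adj_cg_mul, hΛ, adj_zero]
  obtain ⟨r, θ, e, -⟩ := exists_emb_add H.space.gram hwf hw (M := Λ) fun z hwz => by
    obtain ⟨d, hd⟩ := H.space.exists_sgl z
    have hu := H.space.sgl_su hw hwz hd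
    obtain ⟨y, hy, ey, -⟩ := H.exists_base hu
    refine scalar_of_twisted H.space.inv (Q := adj σ (Gα ⊗ₖ G) Gα Λ * emb α z) fun c => ?_
    obtain ⟨x, hx, ex⟩ := hS c
    refine H.scalar (x * y * x⁻¹ * y⁻¹) (X.mul_mem (X.mul_mem (X.mul_mem hx hy) (X.inv_mem hx)) (X.inv_mem hy))
      w _ hw0 hw ?_
    rw [kron_sqr]
    set W := (emb α w : Matrix (α × β) α F)
    set W' := cg α σ G w
    set Z := (emb α z : Matrix (α × β) α F)
    set Z' := cg α σ G z
    set L' := adj σ (Gα ⊗ₖ G) Gα Λ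
    set A := W * (σ c • L') - c • (Λ * W') + W * D c * W'
    set B := W * Z' - Z * W' + d • (W * W')
    set Θ := c • (Z' * Λ) - σ c • (L' * Z)
    have eA : (x : Matrix (α × β) (α × β) F) = 1 + A := by rw [ex]; simp only [A]; abel
    have eB : (y : Matrix (α × β) (α × β) F) = 1 + B := by
      rw [ey, Matrix.kronecker_add, Matrix.one_kronecker_one, one_kron_sgl]
    have k1 : ∀ M : Matrix α (α × β) F, W' * (W * M) = 0 := fun M => by
      rw [← Matrix.mul_assoc, cg_emb_zero hw, Matrix.zero_mul]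
    have k2 : ∀ M : Matrix α (α × β) F, W' * (Λ * M) = 0 := fun M => by
      rw [← Matrix.mul_assoc, hΛ, Matrix.zero_mul]
    have k3 : ∀ M : Matrix α (α × β) F, W' * (Z * M) = 0 := fun M => by
      rw [← Matrix.mul_assoc, cg_emb_zero hwz, Matrix.zero_mul]
    have k4 : ∀ M : Matrix α (α × β) F, L' * (W * M) = 0 := fun M => by
      rw [← Matrix.mul_assoc, hΛ', Matrix.zero_mul]
    have k5 : ∀ M : Matrix α (α × β) F, Z' * (W * M) = 0 := fun M => by
      rw [← Matrix.mul_assoc, cg_emb_zero (H.space.gram.ip_eq_zero_symm hwz), Matrix.zero_mul]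
    have h1 : A * B = -(σ c • (W * (L' * (Z * W')))) := by
      simp only [A, B, Matrix.mul_add, Matrix.mul_sub, Matrix.add_mul, Matrix.sub_mul, Matrix.smul_mul,
        Matrix.mul_smul, Matrix.mul_assoc, k1, k2, k3, k4, k5, Matrix.mul_zero, smul_zero, sub_zero, zero_sub,
        add_zero, zero_add, sub_self, smul_neg]
    have h2 : B * A = -(c • (W * (Z' * (Λ * W')))) := by
      simp only [A, B, Matrix.mul_add, Matrix.mul_sub, Matrix.add_mul, Matrix.sub_mul, Matrix.smul_mul,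
        Matrix.mul_smul, Matrix.mul_assoc, k1, k2, k3, k4, k5, Matrix.mul_zero, smul_zero, sub_zero, zero_sub,
        add_zero, zero_add, sub_self, smul_neg]
    have key : W * Θ * W' = A * B - B * A := by
      rw [h1, h2]
      simp only [Θ, Matrix.mul_sub, Matrix.sub_mul, Matrix.mul_smul, Matrix.smul_mul, Matrix.mul_assoc]
      abel
    have hCB : W * Θ * W' * B = 0 := by
      simp only [B, Matrix.mul_add, Matrix.mul_sub, Matrix.mul_smul, Matrix.mul_assoc, k1, k3, Matrix.mul_zero,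
        smul_zero, sub_zero, add_zero]
    have hCA : W * Θ * W' * A = 0 := by
      simp only [A, Matrix.mul_add, Matrix.mul_sub, Matrix.mul_smul, Matrix.mul_assoc, k1, k2, Matrix.mul_zero,
        smul_zero, sub_zero, add_zero]
    rw [Units.val_mul, Units.val_mul, Units.val_mul, Matrix.mul_assoc ((x : Matrix (α × β) (α × β) F) * _),
      ← Units.val_mul x⁻¹, ← _root_.mul_inv_rev, ← Units.val_mul, Units.mul_inv_eq_iff_eq_mul, Units.val_mul,
      Units.val_mul, eA, eB]
    rw [← sub_eq_zero, show (1 + A) * (1 + B) - (1 + W * Θ * W') * ((1 + B) * (1 + A)) =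
      (A * B - B * A) - W * Θ * W' - W * Θ * W' * B - W * Θ * W' * A - W * Θ * W' * B * A by noncomm_ring,
      hCB, hCA, Matrix.zero_mul, key, sub_self, sub_zero, sub_zero, sub_zero]
  refine ⟨r, θ, e, ?_⟩
  have h0 := hΛ
  rw [e, Matrix.mul_add, ← Matrix.mul_assoc, cg_emb_zero hw, Matrix.zero_mul, add_zero, cg_mul_emb] at h0
  exact (smul_eq_zero.1 h0).resolve_right one_ne_zero

theorem short_scalar (hD : ∀ c, ∃ s : F, D c = s • 1) : ∃ r : β → F, Λ = emb α r ∧ ip σ G w r = 0 := by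
  obtain ⟨r, θ, e, hwr⟩ := H.short_struct hw0 hw hΛ hS
  obtain ⟨s, hs⟩ := scalar_of_twisted H.space.inv (P := θ) (Q := adj σ Gα Gα θ) fun c => by
    obtain ⟨x, hx, ex⟩ := hS c
    obtain ⟨d, hd⟩ := H.space.exists_sgl (c • r)
    have hu := H.space.sgl_su hw (show ip σ G w (c • r) = 0 by rw [ip_smul_right, hwr, mul_zero]) hd
    obtain ⟨n, hn, en, -⟩ := H.exists_base hu
    obtain ⟨s₁, hs₁⟩ := H.scalar (n⁻¹ * x) (X.mul_mem (X.inv_mem hn) hx) w
      (σ c • adj σ Gα Gα θ - c • θ + D c - d • 1) hw0 hw (by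
      rw [Units.val_mul, Units.inv_mul_eq_iff_eq_mul, ex, en, kron_sqr, Matrix.kronecker_add,
        Matrix.one_kronecker_one, one_kron_sgl, cg_smul, emb_smul, e, adj_add, adj_emb H.gramA, H.adj_emb_mul]
      have k1 : ∀ M : Matrix α (α × β) F, cg α σ G w * (emb α w * M) = 0 := fun M => by
        rw [← Matrix.mul_assoc, cg_emb_zero hw, Matrix.zero_mul]
      have k3 : ∀ M : Matrix α (α × β) F, cg α σ G r * (emb α w * M) = 0 := fun M => by
        rw [← Matrix.mul_assoc, cg_emb_zero (H.space.gram.ip_eq_zero_symm hwr), Matrix.zero_mul]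
      simp only [Matrix.mul_add, Matrix.add_mul, Matrix.mul_sub, Matrix.sub_mul, Matrix.smul_mul, Matrix.mul_smul,
        Matrix.mul_assoc, Matrix.one_mul, Matrix.mul_one, k1, k3, Matrix.mul_zero, smul_zero, smul_add, smul_sub,
        sub_zero, add_zero, sub_self]
      abel)
    obtain ⟨s₂, hs₂⟩ := hD c
    refine ⟨s₂ - d - s₁, ?_⟩
    rw [sub_smul, sub_smul, ← hs₁, ← hs₂]
    abel
  refine ⟨r + s • w, ?_, by rw [ip_add_right, ip_smul_right, hwr, hw, mul_zero, add_zero]⟩
  rw [e, hs, Matrix.mul_smul, Matrix.mul_one, emb_add, emb_smul]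

end PairHyp

end CfsgLib.Geo.UnitWreath
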