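/-
A conjugator which keeps one isotropic line, or one contraction, is a Kronecker product.
-/
import Cfsg.Agent.Lib.Geo.UnitWreath.Pair

set_option autoImplicit false
set_option linter.unusedSectionVars false

namespace CfsgLib.Geo.UnitWreath

open Matrix CfsgLib.Geo.TensorLinear
open scoped Kronecker

variable {F : Type*} [Field F] {σ : F →+* F}
variable {α β : Type} [Fintype α] [DecidableEq α] [Fintype β] [DecidableEq β]
variable {Gα : Matrix α α F} {G : Matrix β β F} {X : Subgroup (GL (α × β) F)}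

namespace PairHyp

variable (H : PairHyp σ Gα G X) [Finite F] [Nonempty α] {y : GL (α × β) F} (hy : Conj σ Gα G X y)
include H hy

/-- A conjugator keeping an isotropic line is a Kronecker product. -/
theorem kr_of_line {v w : β → F} (hv0 : v ≠ 0) (hv : ip σ G v v = 0) (hw0 : w ≠ 0) {A₀ : Matrix α α F}
    (e : (y : Matrix (α × β) (α × β) F) * emb α v = emb α w * A₀) : Kr y := by
  classical
  haveI : Nonempty β := Fintype.card_pos_iff.1 (by have := H.space.three; omega)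
  have hG := H.space.gram
  have hΓ := H.gramA.kronecker hG
  obtain ⟨⟨μ, hμ, hYY⟩, hconj⟩ := hy
  have hμσ : σ μ = μ := Sim.fixed hΓ hYY
  set Y := (y : Matrix (α × β) (α × β) F) with hY
  set Y' := adj σ (Gα ⊗ₖ G) (Gα ⊗ₖ G) Y with hY'
  have hYi : ((y⁻¹ : GL (α × β) F) : Matrix (α × β) (α × β) F) = μ⁻¹ • Y' :=
    left_inv_eq_right_inv y.inv_mul (by
      rw [mul_smul_comm, Sim.mul_adj hΓ hμ hYY, smul_smul, inv_mul_cancel₀ hμ, one_smul])
  have hsc : ∀ {a b : F}, a • (1 : Matrix α α F) = b • 1 → a = b := fun h => by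
    have := congrFun (congrFun h (Classical.arbitrary α)) (Classical.arbitrary α)
    simpa using this
  set A₀' := adj σ Gα Gα A₀ with hA₀'
  -- the coefficient is invertible
  have hA₀ : IsUnit A₀.det := by
    obtain ⟨χ, hχ⟩ := exists_dual hv0
    have h1 : (con α χ * ((y⁻¹ : GL (α × β) F) : Matrix (α × β) (α × β) F) * emb α w) * A₀ = 1 := by
      rw [Matrix.mul_assoc _ (emb α w), ← e, Matrix.mul_assoc, ← Matrix.mul_assoc _ Y, Units.inv_mul,
        Matrix.one_mul, con_mul_emb, hχ, one_smul]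
    exact (Matrix.isUnit_iff_isUnit_det _).1 (IsUnit.of_mul_eq_one _ (mul_eq_one_comm.1 h1))
  have hA₀0 : A₀ ≠ 0 := fun h => by
    rw [h, Matrix.det_zero] at hA₀
    exact not_isUnit_zero hA₀
  have hadjY : ∀ z, adj σ (Gα ⊗ₖ G) Gα (Y * emb α z) = cg α σ G z * Y' := fun z => by
    rw [adj_mul hΓ, adj_emb H.gramA]
  have hVY : cg α σ G v * Y' = A₀' * cg α σ G w := by rw [← hadjY, e, H.adj_emb_mul]
  have hgram : ∀ z z' : β → F, cg α σ G z * Y' * (Y * emb α z') = (μ * ip σ G z z') • (1 : Matrix α α F) :=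
    fun z z' => by
      rw [Matrix.mul_assoc, ← Matrix.mul_assoc Y', hYY, Matrix.smul_mul, Matrix.one_mul, Matrix.mul_smul,
        cg_mul_emb, smul_smul]
  have hA'0 : A₀' ≠ 0 := fun h => hA₀0 (by rw [← adj_adj H.gramA H.gramA A₀, ← hA₀', h, adj_zero])
  have hAA'0 : A₀ * A₀' ≠ 0 := fun h => hA'0 (by
    have := congrArg (A₀⁻¹ * ·) h
    simpa [← Matrix.mul_assoc, Matrix.nonsing_inv_mul _ hA₀] using this)
  have hw : ip σ G w w = 0 := by
    have h1 := hgram v v
    rw [hVY, e, hv, mul_zero, zero_smul, Matrix.mul_assoc, ← Matrix.mul_assoc (cg α σ G w), cg_mul_emb,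
      Matrix.smul_mul, Matrix.one_mul, Matrix.mul_smul] at h1
    refine (smul_eq_zero.1 h1).resolve_right fun h0 => hA'0 ?_
    have := congrArg (· * A₀⁻¹) h0
    simpa [Matrix.mul_assoc, Matrix.mul_nonsing_inv _ hA₀] using this
  -- the short elements
  have hWYZ : ∀ z, ip σ G v z = 0 → cg α σ G w * (Y * emb α z) = 0 := fun z hz => by
    have h1 := hgram v z
    rw [hVY, hz, mul_zero, zero_smul, Matrix.mul_assoc] at h1
    have h2 : IsUnit A₀'.det := by
      rw [hA₀', adj, Matrix.det_mul, Matrix.det_mul, Matrix.det_transpose, Matrix.det_nonsing_inv]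
      refine ((H.gramA.unit.ringInverse).mul ?_).mul H.gramA.unit
      rw [show A₀.map σ = σ.mapMatrix A₀ from rfl, ← RingHom.map_det]
      exact hA₀.map σ
    have h3 := congrArg (A₀'⁻¹ * ·) h1
    simpa [← Matrix.mul_assoc, Matrix.nonsing_inv_mul _ h2] using h3
  have hshort : ∀ z, ip σ G v z = 0 → ∃ D : F → Matrix α α F,
      (∀ c, ∃ s : F, D c = s • (A₀ * A₀')) ∧ Short σ Gα G X w (μ⁻¹ • (Y * emb α z * A₀')) D := by
    intro z hz
    choose d hd using fun c : F => H.space.exists_sgl (σ := σ) (G := G) (c • z)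
    refine ⟨fun c => (μ⁻¹ * d c) • (A₀ * A₀'), fun c => ⟨_, rfl⟩, fun c => ?_⟩
    have hu := H.space.sgl_su hv (show ip σ G v (c • z) = 0 by rw [ip_smul_right, hz, mul_zero]) (hd c)
    obtain ⟨x, -, ex, -⟩ := H.exists_base hu
    refine ⟨_, hconj x _ hu ex, ?_⟩
    rw [Units.val_mul, Units.val_mul, ex, Matrix.kronecker_add, Matrix.one_kronecker_one, Matrix.mul_add,
      Matrix.mul_one, Matrix.add_mul, Units.mul_inv, hYi, one_kron_sgl, cg_smul, emb_smul, adj_smul, map_inv₀, hμσ,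
      adj_mul H.gramA, adj_adj H.gramA H.gramA, hadjY, ← hY]
    simp only [Matrix.mul_add, Matrix.add_mul, Matrix.mul_sub, Matrix.sub_mul, Matrix.mul_smul, Matrix.smul_mul,
      Matrix.mul_assoc, smul_smul, smul_add, smul_sub, hVY]
    simp only [← Matrix.mul_assoc Y (emb α v), e, Matrix.mul_assoc]
    match_scalars <;> ring
  have hΛ : ∀ z, ip σ G v z = 0 → cg α σ G w * (μ⁻¹ • (Y * emb α z * A₀')) = 0 := fun z hz => by
    rw [Matrix.mul_smul, ← Matrix.mul_assoc, hWYZ z hz, Matrix.zero_mul, smul_zero]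
  obtain ⟨κ, hκ0, hκσ, hAA'⟩ : ∃ κ : F, κ ≠ 0 ∧ σ κ = κ ∧ A₀ * A₀' = κ • 1 := by
    obtain ⟨z₀, hvz, -, hz₀⟩ := H.space.exists_aniso_perp hv0 hv
    obtain ⟨D, -, hS⟩ := hshort z₀ hvz
    obtain ⟨r, θ, er, hwr⟩ := H.short_struct hw0 hw (hΛ z₀ hvz) hS
    have h1 : adj σ (Gα ⊗ₖ G) Gα (μ⁻¹ • (Y * emb α z₀ * A₀')) * (μ⁻¹ • (Y * emb α z₀ * A₀')) =
        ip σ G r r • (1 : Matrix α α F) := by
      rw [er, adj_add, adj_emb H.gramA, H.adj_emb_mul, Matrix.add_mul, Matrix.mul_add, Matrix.mul_add,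
        cg_mul_emb, ← Matrix.mul_assoc (cg α σ G r), cg_emb_zero (hG.ip_eq_zero_symm hwr), Matrix.zero_mul,
        Matrix.mul_assoc, cg_emb_zero hwr, Matrix.mul_zero, Matrix.mul_assoc, ← Matrix.mul_assoc (cg α σ G w),
        cg_emb_zero hw, Matrix.zero_mul, Matrix.mul_zero, add_zero, add_zero, add_zero]
    rw [adj_smul, map_inv₀, hμσ, adj_mul H.gramA, adj_adj H.gramA H.gramA, hadjY, Matrix.smul_mul, Matrix.mul_smul,
      smul_smul, Matrix.mul_assoc A₀, ← Matrix.mul_assoc _ (Y * emb α z₀), hgram, hz₀, mul_one, Matrix.smul_mul,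
      Matrix.one_mul, Matrix.mul_smul, smul_smul, inv_mul_cancel_right₀ hμ, inv_smul_eq_iff₀ hμ, smul_smul] at h1
    exact ⟨μ * ip σ G r r, fun h => hAA'0 (by rw [h1, h, zero_smul]), by rw [map_mul, hμσ, hG.ip_symm], h1⟩
  have hA'A : A₀' * A₀ = κ • 1 := by
    have h1 : (κ⁻¹ • A₀') * A₀ = 1 := mul_eq_one_comm.1 (by
      rw [mul_smul_comm, hAA', smul_smul, inv_mul_cancel₀ hκ0, one_smul])
    rw [smul_mul_assoc] at h1
    rw [← h1, smul_smul, mul_inv_cancel₀ hκ0, one_smul]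
  set ν := μ / κ with hν
  have hν0 : ν ≠ 0 := div_ne_zero hμ hκ0
  have hνσ : σ ν = ν := by rw [hν, map_div₀, hμσ, hκσ]
  have hex : ∀ z : β → F, ∃ b : β → F, ip σ G v z = 0 → Y * emb α z = emb α b * A₀ := by
    intro z
    by_cases hz : ip σ G v z = 0
    · obtain ⟨D, hD, hS⟩ := hshort z hz
      obtain ⟨r, hr, -⟩ := H.short_scalar hw0 hw (hΛ z hz) hS fun c => by
        obtain ⟨s, hs⟩ := hD c; exact ⟨s * κ, by rw [hs, hAA', smul_smul]⟩
      refine ⟨ν • r, fun _ => ?_⟩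
      rw [inv_smul_eq_iff₀ hμ] at hr
      have h1 := congrArg (· * A₀) hr
      simp only [Matrix.mul_assoc, hA'A, Matrix.smul_mul, Matrix.mul_smul, Matrix.mul_one] at h1
      rw [emb_smul, Matrix.smul_mul, hν, div_eq_inv_mul, ← smul_smul, ← h1, inv_smul_smul₀ hκ0]
    · exact ⟨0, fun h => absurd h hz⟩
  choose b hb using hex
  have hbv : b v = w := emb_vec_inj hA₀ ((hb v hv).symm.trans e)
  have hbip : ∀ z z', ip σ G v z = 0 → ip σ G v z' = 0 → ip σ G (b z) (b z') = ν * ip σ G z z' := by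
    intro z z' hz hz'
    have h1 := hgram z z'
    rw [← hadjY, hb z hz, hb z' hz', H.adj_emb_mul, Matrix.mul_assoc, ← Matrix.mul_assoc (cg α σ G _), cg_mul_emb,
      Matrix.smul_mul, Matrix.one_mul, Matrix.mul_smul, ← hA₀', hA'A, smul_smul] at h1
    have h2 := hsc h1
    rw [hν, div_mul_eq_mul_div, eq_div_iff hκ0, h2]
  have hwb : ∀ z, ip σ G v z = 0 → ip σ G w (b z) = 0 := fun z hz => by
    rw [← hbv, hbip v z hv hz, hz, mul_zero]
  obtain ⟨f, hvf, hfv, hff, -⟩ := H.space.exists_partner hv0 hv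
  obtain ⟨f₂, hwf₂, -, -, -⟩ := H.space.exists_partner hw0 hw
  have hadd : ∀ x x', ip σ G v x = 0 → ip σ G v x' = 0 → b (x + x') = b x + b x' := fun x x' hx hx' => by
    refine emb_vec_inj hA₀ ?_
    rw [← hb _ (by rw [ip_add_right, hx, hx', add_zero]), emb_add, emb_add, Matrix.mul_add, Matrix.add_mul,
      hb x hx, hb x' hx']
  have hsmul : ∀ (a : F) x, ip σ G v x = 0 → b (a • x) = a • b x := fun a x hx => by
    refine emb_vec_inj hA₀ ?_
    rw [← hb _ (by rw [ip_smul_right, hx, mul_zero]), emb_smul, emb_smul, Matrix.mul_smul, Matrix.smul_mul, hb x hx]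
  have hperp : ∀ x, ip σ G v (x - ip σ G v x • f) = 0 := fun x => by
    rw [ip_sub_right, ip_smul_right, hvf, mul_one, sub_self]
  let L : (β → F) → (β → F) →ₗ[F] (β → F) := fun r =>
    { toFun := fun x => b (x - ip σ G v x • f) + ip σ G v x • r
      map_add' := fun x x' => by
        rw [show x + x' - ip σ G v (x + x') • f = (x - ip σ G v x • f) + (x' - ip σ G v x' • f) by
          rw [ip_add_right, add_smul]; abel, hadd _ _ (hperp x) (hperp x'), ip_add_right, add_smul]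
        abel
      map_smul' := fun a x => by
        rw [show a • x - ip σ G v (a • x) • f = a • (x - ip σ G v x • f) by
          rw [ip_smul_right, smul_sub, smul_smul], hsmul _ _ (hperp x), ip_smul_right, RingHom.id_apply, smul_add,
          smul_smul] }
  have hL : ∀ r x, L r x = b (x - ip σ G v x • f) + ip σ G v x • r := fun _ _ => rfl
  have hsurj : ∀ u, ip σ G w u = 0 → ∃ z, ip σ G v z = 0 ∧ b z = u := by
    intro u hu
    have hinj : Function.Injective (L f₂) := by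
      rw [injective_iff_map_eq_zero]
      intro x hx
      have h1 := congrArg (ip σ G w) hx
      rw [hL, ip_add_right, hwb _ (hperp x), ip_smul_right, hwf₂, ip_zero_right, zero_add, mul_one] at h1
      rw [hL, h1, zero_smul, zero_smul, sub_zero, add_zero] at hx
      have h2 := hb x h1
      rw [hx, emb_zero, Matrix.zero_mul] at h2
      have h3 := congrArg (((y⁻¹ : GL (α × β) F) : Matrix (α × β) (α × β) F) * ·) h2
      simp only [← Matrix.mul_assoc, hY, Units.inv_mul, Matrix.one_mul, Matrix.mul_zero] at h3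
      funext j
      have := congrFun (congrFun h3 (Classical.arbitrary α, j)) (Classical.arbitrary α)
      simpa [emb] using this
    obtain ⟨x, hx⟩ := LinearMap.injective_iff_surjective.1 hinj u
    have h1 := congrArg (ip σ G w) hx
    rw [hL, ip_add_right, hwb _ (hperp x), ip_smul_right, hwf₂, hu, zero_add, mul_one] at h1
    rw [hL, h1, zero_smul, zero_smul, sub_zero, add_zero] at hx
    exact ⟨x, h1, hx⟩
  -- the image of the partner
  set G' : Matrix (α × β) α F := κ⁻¹ • (Y * emb α f * A₀') with hG'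
  have hbG : ∀ z, ip σ G v z = 0 → cg α σ G (b z) * G' = (ν * ip σ G z f) • (1 : Matrix α α F) := by
    intro z hz
    have h1 := hgram z f
    rw [← hadjY, hb z hz, H.adj_emb_mul, Matrix.mul_assoc, ← hA₀'] at h1
    have h2 := congrArg (fun M => A₀ * M * A₀') h1
    simp only [← Matrix.mul_assoc, hAA', Matrix.smul_mul, Matrix.one_mul, Matrix.mul_smul, Matrix.mul_one, hAA',
      smul_smul] at h2
    rw [Matrix.mul_assoc (cg α σ G (b z)) Y, Matrix.mul_assoc (cg α σ G (b z)) (Y * _)] at h2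
    rw [hG', Matrix.mul_smul, inv_smul_eq_iff₀ hκ0, smul_smul]
    have h3 := congrArg (κ⁻¹ • ·) h2
    simp only [smul_smul, inv_mul_cancel₀ hκ0, one_smul] at h3
    rw [h3]
    congr 1
    rw [hν]
    field_simp
  obtain ⟨r₀, θ, er₀, -⟩ := exists_emb_add hG hwf₂ hw (M := G') fun u hu => by
    obtain ⟨z, hz, rfl⟩ := hsurj u hu
    exact ⟨_, hbG z hz⟩
  have hbr : ∀ z, ip σ G v z = 0 → ip σ G (b z) r₀ = ν * ip σ G z f := fun z hz => by
    have h1 := hbG z hz
    rw [er₀, Matrix.mul_add, cg_mul_emb, ← Matrix.mul_assoc, cg_emb_zero (hG.ip_eq_zero_symm (hwb z hz)),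
      Matrix.zero_mul, add_zero] at h1
    exact hsc h1
  have hwr₀ : ip σ G w r₀ = ν := by rw [← hbv, hbr v hv, hvf, mul_one]
  have hr₀w : ip σ G r₀ w = ν := by rw [← hG.ip_symm, hwr₀, hνσ]
  obtain ⟨a, ha⟩ := H.space.inv.exists_trace_eq (μ := -(ip σ G r₀ r₀) / ν) (by
    rw [map_div₀, map_neg, hG.ip_symm, hνσ])
  set r₁ := r₀ + a • w with hr₁
  set T := θ - a • (1 : Matrix α α F) with hT
  have hr₁r₁ : ip σ G r₁ r₁ = 0 := by
    simp only [hr₁, ip_add_left, ip_add_right, ip_smul_left, ip_smul_right, hw, hwr₀, hr₀w]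
    rw [eq_div_iff hν0] at ha
    linear_combination ha
  have hYf : Y * emb α f = emb α r₁ * A₀ + emb α w * (T * A₀) := by
    have h1 : G' * A₀ = Y * emb α f := by
      rw [hG', Matrix.smul_mul, Matrix.mul_assoc, hA'A, Matrix.mul_smul, Matrix.mul_one, smul_smul,
        inv_mul_cancel₀ hκ0, one_smul]
    rw [← h1, er₀, hr₁, hT, emb_add, emb_smul]
    simp only [Matrix.add_mul, Matrix.sub_mul, Matrix.mul_sub, Matrix.smul_mul, Matrix.mul_smul, Matrix.one_mul,
      Matrix.mul_assoc]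
    abel
  set B := LinearMap.toMatrix' (L r₁) with hB
  have hBx : ∀ x, B *ᵥ x = b (x - ip σ G v x • f) + ip σ G v x • r₁ := fun x => LinearMap.toMatrix'_mulVec _ x
  have hBip : ∀ x x', ip σ G (B *ᵥ x) (B *ᵥ x') = ν * ip σ G x x' := by
    intro x x'
    rw [hBx, hBx]
    obtain ⟨z, hz, a₁, rfl⟩ : ∃ z, ip σ G v z = 0 ∧ ∃ a₁ : F, x = z + a₁ • f := ⟨_, hperp x, _, by rw [sub_add_cancel]⟩
    obtain ⟨z', hz', a₂, rfl⟩ : ∃ z, ip σ G v z = 0 ∧ ∃ a₂ : F, x' = z + a₂ • f :=
      ⟨_, hperp x', _, by rw [sub_add_cancel]⟩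
    have hzz : ∀ z, ip σ G v z = 0 → ip σ G (b z) r₁ = ν * ip σ G z f ∧ ip σ G r₁ (b z) = ν * ip σ G f z := by
      intro z hz
      have h1 : ip σ G (b z) r₁ = ν * ip σ G z f := by
        rw [hr₁, ip_add_right, ip_smul_right, hbr z hz, hG.ip_eq_zero_symm (hwb z hz), mul_zero, add_zero]
      exact ⟨h1, by rw [← hG.ip_symm, h1, map_mul, hνσ, hG.ip_symm]⟩
    have e1 : ∀ (z : β → F) (a : F), ip σ G v z = 0 → ip σ G v (z + a • f) = a ∧ z + a • f - a • f = z :=
      fun z a hz => ⟨by rw [ip_add_right, ip_smul_right, hz, hvf, zero_add, mul_one], add_sub_cancel_right _ _⟩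
    rw [(e1 z a₁ hz).1, (e1 z a₁ hz).2, (e1 z' a₂ hz').1, (e1 z' a₂ hz').2]
    simp only [ip_add_left, ip_add_right, ip_smul_left, ip_smul_right, hbip z z' hz hz', (hzz z hz).1,
      (hzz z' hz').2, hr₁r₁, hff]
    ring
  set B' := adj σ G G B with hB'
  have hBB : B' * B = ν • 1 := ext_mulVec fun x => hG.ip_ext fun x' => by
    rw [← Matrix.mulVec_mulVec, ← ip_mulVec_left hG, hBip, Matrix.smul_mulVec, Matrix.one_mulVec, ip_smul_right]
  have hBB' : B * B' = ν • 1 := Sim.mul_adj hG hν0 hBB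
  have hBv : B *ᵥ v = w := by
    rw [hBx, hv, zero_smul, zero_smul, sub_zero, add_zero, hbv]
  set S := (ν⁻¹ • T) ⊗ₖ sqr σ G w with hS
  have hfact : Y = (1 + S) * (A₀ ⊗ₖ B) := by
    refine mul_emb_ext fun x => ?_
    rw [Matrix.mul_assoc, TensorLinear.kronecker_mul_emb, hS, Matrix.smul_kronecker, kron_sqr, Matrix.add_mul,
      Matrix.one_mul, Matrix.smul_mul, Matrix.mul_assoc (emb α w * T), ← Matrix.mul_assoc (cg α σ G w),
      cg_mul_emb, ← hBv, hBip, hBv, Matrix.smul_mul, Matrix.one_mul, Matrix.mul_smul, smul_smul,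
      ← mul_assoc ν⁻¹, inv_mul_cancel₀ hν0, one_mul, hBx]
    conv_lhs => rw [show x = (x - ip σ G v x • f) + ip σ G v x • f by simp]
    rw [emb_add, emb_smul, Matrix.mul_add, Matrix.mul_smul, hb _ (hperp x), hYf]
    simp only [hr₁, emb_add, emb_smul, Matrix.add_mul, Matrix.smul_mul, Matrix.mul_assoc, smul_add]
    abel
  have hSS : S * S = 0 := by
    rw [hS, ← Matrix.mul_kronecker_mul, sqr_mul_self, hw, zero_smul, Matrix.kronecker_zero]
  obtain ⟨s, hs⟩ : ∃ s : F, ν⁻¹ • T = s • 1 := by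
    have hM : IsUnit (A₀ ⊗ₖ B).det := by
      rw [Matrix.det_kronecker]
      refine (hA₀.pow _).mul (IsUnit.pow _ ?_)
      refine (Matrix.isUnit_iff_isUnit_det _).1 (IsUnit.of_mul_eq_one (ν⁻¹ • B') ?_)
      rw [Matrix.mul_smul, hBB', smul_smul, inv_mul_cancel₀ hν0, one_smul]
    obtain ⟨x, c, hx0, hx, hc, g, hg, eg⟩ := H.space.isolate
      (P := fun A => ∃ x ∈ X, ((x : GL (α × β) F) : Matrix (α × β) (α × β) F) = 1 + (-(ν⁻¹ • T)) ⊗ₖ A)
      (fun A A' ⟨x, hx, ex⟩ ⟨x', hx', ex'⟩ hAA => ⟨x * x', X.mul_mem hx hx', by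
        rw [Units.val_mul, ex, ex', Matrix.add_mul, Matrix.mul_add, Matrix.mul_add, ← Matrix.mul_kronecker_mul,
          hAA, Matrix.kronecker_zero, Matrix.kronecker_add]
        simp only [Matrix.mul_one, Matrix.one_mul]
        abel⟩) hw0 hw fun e' he0' he' hwe' => by
      obtain ⟨u, hu, hue⟩ := H.space.move_iso hw0 he0' hw he'
      have hu' : SUnit σ G (ν⁻¹ • (B' * u * B)) := by
        refine ⟨?_, ?_⟩
        · rw [adj_smul, map_inv₀, hνσ, adj_mul hG, adj_mul hG, hB', adj_adj hG hG, ← hB', smul_mul_smul_comm]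
          rw [show B' * (adj σ G G u * B) * (B' * u * B) = B' * (adj σ G G u * ((B * B') * (u * B))) by
            simp only [Matrix.mul_assoc], hBB', Matrix.smul_mul, Matrix.one_mul, Matrix.mul_smul, Matrix.mul_smul,
            ← Matrix.mul_assoc (adj σ G G u), hu.1, Matrix.one_mul, hBB, smul_smul, smul_smul]
          convert one_smul F (1 : Matrix β β F) using 2
          field_simp
        · rw [Matrix.det_smul, Matrix.det_mul, Matrix.det_mul, hu.2, mul_one]
          have h1 := congrArg Matrix.det hBB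
          rw [Matrix.det_mul, Matrix.det_smul, Matrix.det_one, mul_one] at h1
          rw [h1, ← mul_pow, inv_mul_cancel₀ hν0, one_pow]
      obtain ⟨x, -, ex, -⟩ := H.exists_base hu'
      obtain ⟨xu, hxu, exu, exui⟩ := H.exists_base hu
      refine ⟨y * x * y⁻¹ * xu⁻¹, X.mul_mem (hconj x _ hu' ex) (X.inv_mem hxu), ?_⟩
      have hS' : ((y * x * y⁻¹ : GL (α × β) F) : Matrix (α × β) (α × β) F) * (1 + S) =
          (1 + S) * ((1 : Matrix α α F) ⊗ₖ u) := by
        have h1 : ((y * x * y⁻¹ : GL (α × β) F) : Matrix (α × β) (α × β) F) * Y = Y * (x : Matrix (α × β) (α × β) F) := by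
          rw [hY, ← Units.val_mul, ← Units.val_mul, inv_mul_cancel_right]
        rw [hfact, ex, ← Matrix.mul_assoc, Matrix.mul_assoc (1 + S), ← Matrix.mul_kronecker_mul, Matrix.mul_one,
          Matrix.mul_smul, ← Matrix.mul_assoc B, ← Matrix.mul_assoc B, hBB', Matrix.smul_mul, Matrix.smul_mul,
          Matrix.one_mul, smul_smul, inv_mul_cancel₀ hν0, one_smul,
          show A₀ ⊗ₖ (u * B) = ((1 : Matrix α α F) ⊗ₖ u) * (A₀ ⊗ₖ B) by
            rw [← Matrix.mul_kronecker_mul, Matrix.one_mul], ← Matrix.mul_assoc (1 + S)] at h1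
        have h2 := congrArg (· * (A₀ ⊗ₖ B)⁻¹) h1
        simpa only [Matrix.mul_assoc, Matrix.mul_nonsing_inv _ hM, Matrix.mul_one] using h2
      have hX' : ((y * x * y⁻¹ : GL (α × β) F) : Matrix (α × β) (α × β) F) =
          (1 + S) * ((1 : Matrix α α F) ⊗ₖ u) * (1 - S) := by
        rw [← hS', Matrix.mul_assoc, show (1 + S) * (1 - S) = 1 by
          rw [mul_sub, mul_one, add_mul, one_mul, hSS]; abel, Matrix.mul_one]
      rw [Units.val_mul, hX', exui, hS]
      set T' := ν⁻¹ • T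
      have k : ∀ (A B : Matrix α α F) (C D : Matrix β β F), (A ⊗ₖ C) * (B ⊗ₖ D) = (A * B) ⊗ₖ (C * D) :=
        fun A B C D => (Matrix.mul_kronecker_mul A B C D).symm
      calc (1 + T' ⊗ₖ sqr σ G w) * ((1 : Matrix α α F) ⊗ₖ u) * (1 - T' ⊗ₖ sqr σ G w) *
            ((1 : Matrix α α F) ⊗ₖ adj σ G G u)
          = (1 + T' ⊗ₖ sqr σ G w) * (((1 : Matrix α α F) ⊗ₖ u) * ((1 : Matrix α α F) ⊗ₖ adj σ G G u) -
              ((1 : Matrix α α F) ⊗ₖ u) * (T' ⊗ₖ sqr σ G w) * ((1 : Matrix α α F) ⊗ₖ adj σ G G u)) := by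
            noncomm_ring
        _ = _ := by
            rw [k, k, k, Matrix.one_mul, Matrix.one_mul, Matrix.mul_one, hu.mul_adj, Matrix.one_kronecker_one,
              hu.conj_sqr hG, hue, Matrix.mul_sub, Matrix.mul_one, Matrix.add_mul, Matrix.one_mul, k,
              show sqr σ G w * sqr σ G e' = 0 by rw [sqr, sqr, vecMulVec_phi_mul, hwe', zero_smul],
              Matrix.kronecker_zero, add_zero]
            ext p q
            simp
            ring
    obtain ⟨s₁, hs₁⟩ := H.scalar g hg x (c • -(ν⁻¹ • T)) hx0 hx (by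
      rw [eg, Matrix.smul_kronecker, Matrix.kronecker_smul])
    refine ⟨-(c⁻¹ * s₁), ?_⟩
    rw [neg_smul, ← smul_smul, ← hs₁, inv_smul_smul₀ hc, neg_neg]
  have hkr : Y = A₀ ⊗ₖ ((1 + s • sqr σ G w) * B) := by
    rw [hfact, hS, hs, Matrix.smul_kronecker, ← Matrix.kronecker_smul]
    conv_lhs => arg 1; rw [← Matrix.one_kronecker_one, ← Matrix.kronecker_add]
    rw [← Matrix.mul_kronecker_mul, Matrix.one_mul]
  have hdet : ((1 + s • sqr σ G w) * B).det ≠ 0 := by
    rw [Matrix.det_mul, det_one_add_nilpotent ⟨2, by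
      rw [pow_two, smul_mul_smul_comm, sqr_mul_self, hw, zero_smul, smul_zero]⟩, one_mul]
    intro h0
    have h1 := congrArg Matrix.det hBB
    rw [Matrix.det_mul, h0, mul_zero, Matrix.det_smul, Matrix.det_one, mul_one] at h1
    exact pow_ne_zero _ hν0 h1.symm
  exact ⟨Matrix.GeneralLinearGroup.mkOfDetNeZero A₀ hA₀.ne_zero,
    Matrix.GeneralLinearGroup.mkOfDetNeZero _ hdet, hkr⟩

end PairHyp

end CfsgLib.Geo.UnitWreath
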