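/-
A conjugator with a narrow image of an isotropic point is a Kronecker product.
-/
import Cfsg.Agent.Lib.Geo.UnitWreath.Line

set_option autoImplicit false
set_option linter.unusedSectionVars false

namespace CfsgLib.Geo.UnitWreath

open Matrix CfsgLib.Geo.TensorLinear
open scoped Kronecker

variable {F : Type*} [Field F] {σ : F →+* F}
variable {α β : Type} [Fintype α] [DecidableEq α] [Fintype β] [DecidableEq β]
variable {Gα : Matrix α α F} {G : Matrix β β F} {X : Subgroup (GL (α × β) F)}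

namespace PairHyp

variable (H : PairHyp σ Gα G X) [Finite F] [Nonempty α] {y : GL (α × β) F} (hy : Conj σ Gα G X y)
include H hy

/-- A conjugator with a narrow image of an isotropic point is a Kronecker product. -/
theorem kr_of_narrow {v w : β → F} (hv0 : v ≠ 0) (hv : ip σ G v v = 0) (hw0 : w ≠ 0) (hw : ip σ G w w = 0)
    (h : cg α σ G w * ((y : Matrix (α × β) (α × β) F) * emb α v) = 0) : Kr y := by
  classical
  haveI : Nonempty β := Fintype.card_pos_iff.1 (by have := H.space.three; omega)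
  have hG := H.space.gram
  have hΓ := H.gramA.kronecker hG
  obtain ⟨⟨μ, hμ, hYY⟩, hconj⟩ := hy
  have hμσ : σ μ = μ := Sim.fixed hΓ hYY
  set Y := (y : Matrix (α × β) (α × β) F) with hY
  set Y' := adj σ (Gα ⊗ₖ G) (Gα ⊗ₖ G) Y with hY'
  have hYi : ((y⁻¹ : GL (α × β) F) : Matrix (α × β) (α × β) F) = μ⁻¹ • Y' :=
    left_inv_eq_right_inv y.inv_mul (by
      rw [mul_smul_comm, Sim.mul_adj hΓ hμ hYY, smul_smul, inv_mul_cancel₀ hμ, one_smul])
  set Gm : Matrix (α × β) α F := Y * emb α v with hGm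
  set Gm' := adj σ (Gα ⊗ₖ G) Gα Gm with hGm'
  have hGY : Gm' = cg α σ G v * Y' := by rw [hGm', hGm, adj_mul hΓ, adj_emb H.gramA]
  have hGG : Gm' * Gm = 0 := by
    rw [hGY, hGm, Matrix.mul_assoc, ← Matrix.mul_assoc Y', hYY, Matrix.smul_mul, Matrix.one_mul, Matrix.mul_smul,
      cg_emb_zero hv, smul_zero]
  have hWG : cg α σ G w * Gm = 0 := h
  have hG'W : Gm' * emb α w = 0 := by rw [← H.adj_cg_mul, hWG, adj_zero]
  obtain ⟨δ, hδ0, hδ⟩ := H.space.herm.exists_skew
  obtain ⟨x₀, -, ex₀, -⟩ := H.exists_base (H.space.trv_su hv hδ)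
  set x := y * x₀ * y⁻¹
  have hx : x ∈ X := hconj x₀ _ (H.space.trv_su hv hδ) ex₀
  set c' := δ * μ⁻¹ with hc'
  have hc'0 : c' ≠ 0 := mul_ne_zero hδ0 (inv_ne_zero hμ)
  have hc'σ : σ c' = -c' := by
    rw [hc', map_mul, map_inv₀, hμσ, eq_neg_of_add_eq_zero_right hδ, neg_mul]
  have ex : (x : Matrix (α × β) (α × β) F) = 1 + c' • (Gm * Gm') := by
    simp only [x, Units.val_mul]
    rw [ex₀, trv, Matrix.kronecker_add, Matrix.one_kronecker_one, Matrix.kronecker_smul,
      show (1 : Matrix α α F) ⊗ₖ sqr σ G v = emb α v * cg α σ G v from one_kronecker_vecMulVec v _, Matrix.mul_add,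
      Matrix.mul_one, Matrix.add_mul, Units.mul_inv, hYi, hGY, hGm, hc']
    simp only [Matrix.mul_smul, Matrix.smul_mul, Matrix.mul_assoc, smul_smul, hY]
    rw [mul_comm δ]
  -- the short elements
  have hshort : ∀ z, ip σ G w z = 0 →
      ∃ D : F → Matrix α α F, (∀ c, ∃ s : F, D c = s • (cg α σ G z * Gm * adj σ Gα Gα (cg α σ G z * Gm))) ∧
        Short σ Gα G X w (Gm * adj σ Gα Gα (cg α σ G z * Gm)) D := by
    intro z hwz
    set M := cg α σ G z * Gm with hM
    set M' := adj σ Gα Gα M with hM'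
    have hM'e : M' = Gm' * emb α z := by rw [hM', hM, H.adj_cg_mul]
    refine ⟨fun c => (-c' * (c * c'⁻¹) * σ (c * c'⁻¹)) • (M * M'), fun c => ⟨_, rfl⟩, fun c => ?_⟩
    set s := c * c'⁻¹ with hs
    obtain ⟨d, hd⟩ := H.space.exists_sgl (σ := σ) (G := G) (s • z)
    have hwsz : ip σ G w (s • z) = 0 := by rw [ip_smul_right, hwz, mul_zero]
    obtain ⟨n, hn, en, -⟩ := H.exists_base (H.space.sgl_su hw hwsz hd)
    refine ⟨x * n * x⁻¹ * n⁻¹, X.mul_mem (X.mul_mem (X.mul_mem hx hn) (X.inv_mem hx)) (X.inv_mem hn), ?_⟩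
    set W := (emb α w : Matrix (α × β) α F)
    set W' := cg α σ G w
    set Z := (emb α z : Matrix (α × β) α F)
    set Z' := cg α σ G z
    set A := c' • (Gm * Gm')
    set B := σ s • (W * Z') - s • (Z * W') + d • (W * W')
    set C := W * (σ c • (M * Gm')) - c • (Gm * M' * W') + W * ((-c' * s * σ s) • (M * M')) * W'
    have eB : (n : Matrix (α × β) (α × β) F) = 1 + B := by
      rw [en, Matrix.kronecker_add, Matrix.one_kronecker_one, one_kron_sgl, cg_smul, emb_smul, Matrix.mul_smul,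
        Matrix.smul_mul]
    have k1 : ∀ M : Matrix α (α × β) F, W' * (W * M) = 0 := fun M => by
      rw [← Matrix.mul_assoc, cg_emb_zero hw, Matrix.zero_mul]
    have k2 : ∀ M : Matrix α (α × β) F, W' * (Gm * M) = 0 := fun M => by
      rw [← Matrix.mul_assoc, hWG, Matrix.zero_mul]
    have k3 : ∀ M : Matrix α (α × β) F, W' * (Z * M) = 0 := fun M => by
      rw [← Matrix.mul_assoc, cg_emb_zero hwz, Matrix.zero_mul]
    have k4 : ∀ M : Matrix α (α × β) F, Gm' * (W * M) = 0 := fun M => by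
      rw [← Matrix.mul_assoc, hG'W, Matrix.zero_mul]
    have k5 : ∀ M : Matrix α (α × β) F, Gm' * (Gm * M) = 0 := fun M => by
      rw [← Matrix.mul_assoc, hGG, Matrix.zero_mul]
    have k6 : ∀ N : Matrix α (α × β) F, Z' * (Gm * N) = M * N := fun N => (Matrix.mul_assoc Z' Gm N).symm
    have k7 : ∀ N : Matrix α (α × β) F, Gm' * (Z * N) = M' * N := fun N => by rw [hM'e, Matrix.mul_assoc]
    have hAA : A * A = 0 := by
      simp only [A, Matrix.smul_mul, Matrix.mul_smul, Matrix.mul_assoc, k5, Matrix.mul_zero, smul_zero]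
    have eAi : ((x⁻¹ : GL (α × β) F) : Matrix (α × β) (α × β) F) = 1 - A := Units.inv_eq_of_mul_eq_one_right (by
      rw [ex, mul_sub, mul_one, add_mul, one_mul, hAA]; abel)
    have hsc : σ s * c' = -σ c := by
      rw [hs, map_mul, map_inv₀, hc'σ]; field_simp
    have hsc' : s * c' = c := by rw [hs, inv_mul_cancel_right₀ hc'0]
    have hmain : (1 + A) * (1 + B) * (1 - A) = (1 + C) * (1 + B) := by
      have h0 : ∀ U V : Matrix (α × β) (α × β) F,
          (1 + U) * (1 + V) * (1 - U) = 1 + V + U * V - V * U - U * V * U - U * U := fun U V => by noncomm_ring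
      rw [h0, hAA, sub_zero, show (1 + C) * (1 + B) = 1 + B + C + C * B by noncomm_ring]
      simp only [A, B, C, Matrix.mul_add, Matrix.mul_sub, Matrix.add_mul, Matrix.sub_mul, Matrix.smul_mul,
        Matrix.mul_smul, Matrix.mul_assoc, k1, k2, k3, k4, k5, k6, k7, Matrix.mul_zero, smul_zero, sub_zero,
        zero_sub, add_zero, zero_add, sub_self, smul_neg, Matrix.neg_mul, Matrix.mul_neg, neg_zero, smul_smul,
        smul_add, smul_sub]
      match_scalars <;> first
        | ring1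
        | linear_combination hsc
        | linear_combination -hsc
        | linear_combination s * hsc
        | linear_combination -s * hsc
        | linear_combination hsc'
        | linear_combination -hsc'
        | linear_combination σ s * hsc'
        | linear_combination -σ s * hsc'
        | linear_combination c' * s * σ s * hsc'
    have hgoal : ((x * n * x⁻¹ * n⁻¹ : GL (α × β) F) : Matrix (α × β) (α × β) F) = 1 + C := by
      rw [Units.val_mul, Units.val_mul, Units.val_mul, eAi, ex, Units.mul_inv_eq_iff_eq_mul, eB, hmain]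
    rw [hgoal]
    simp only [C]
    rw [show adj σ (Gα ⊗ₖ G) Gα (Gm * M') = M * Gm' by rw [adj_mul H.gramA, hM', adj_adj H.gramA H.gramA]]
    abel
  have hker : ∀ z, ip σ G w z = 0 → cg α σ G w * (Gm * adj σ Gα Gα (cg α σ G z * Gm)) = 0 := fun z _ => by
    rw [← Matrix.mul_assoc, hWG, Matrix.zero_mul]
  have hr : ∀ z, ∃ r : β → F, ip σ G w z = 0 → Gm * adj σ Gα Gα (cg α σ G z * Gm) = emb α r := by
    intro z
    by_cases hz : ip σ G w z = 0
    · obtain ⟨D, hD, hS⟩ := hshort z hz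
      obtain ⟨r, θ, e, hwr⟩ := H.short_struct hw0 hw (hker z hz) hS
      obtain ⟨r', er', -⟩ := H.short_scalar hw0 hw (hker z hz) hS fun c => by
        obtain ⟨s, hs⟩ := hD c
        have h1 : cg α σ G z * Gm * adj σ Gα Gα (cg α σ G z * Gm) = ip σ G z r • (1 : Matrix α α F) := by
          rw [Matrix.mul_assoc, e, Matrix.mul_add, cg_mul_emb, ← Matrix.mul_assoc,
            cg_emb_zero (hG.ip_eq_zero_symm hz), Matrix.zero_mul, add_zero]
        exact ⟨s * ip σ G z r, by rw [hs, h1, smul_smul]⟩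
      exact ⟨r', fun _ => er'⟩
    · exact ⟨0, fun h => absurd h hz⟩
  choose r hr using hr
  by_cases hcase : ∃ z, ip σ G w z = 0 ∧ r z ≠ 0
  · obtain ⟨z, hz, hr0⟩ := hcase
    set M' := adj σ Gα Gα (cg α σ G z * Gm)
    obtain ⟨χ, hχ⟩ := exists_dual hr0
    have h1 : con α χ * Gm * M' = 1 := by rw [Matrix.mul_assoc, hr z hz, con_mul_emb, hχ, one_smul]
    refine H.kr_of_line ⟨⟨μ, hμ, hYY⟩, hconj⟩ hv0 hv hr0 (A₀ := con α χ * Gm) ?_
    rw [← hr z hz, Matrix.mul_assoc, mul_eq_one_comm.1 h1, Matrix.mul_one]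
  · push Not at hcase
    obtain ⟨f, hwf, hfw, -, -⟩ := H.space.exists_partner hw0 hw
    have hzero : ∀ z, ip σ G w z = 0 → cg α σ G z * Gm = 0 := fun z hz => by
      have h1 := hr z hz
      rw [hcase z hz, emb_zero] at h1
      obtain ⟨χ, hχ⟩ := exists_dual hv0
      have h2 := congrArg (con α χ * ((y⁻¹ : GL (α × β) F) : Matrix (α × β) (α × β) F) * ·) h1
      simp only [hGm, Matrix.mul_zero] at h2
      rw [← Matrix.mul_assoc, Matrix.mul_assoc (con α χ), ← Matrix.mul_assoc _ Y, hY, Units.inv_mul, Matrix.one_mul,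
        con_mul_emb, hχ, one_smul, Matrix.one_mul] at h2
      rw [← adj_adj H.gramA H.gramA (cg α σ G z * (Y * emb α v)), h2, adj_zero]
    refine H.kr_of_line ⟨⟨μ, hμ, hYY⟩, hconj⟩ hv0 hv hw0 (A₀ := cg α σ G f * Gm) ?_
    refine sub_eq_zero.1 (eq_zero_of_cg_mul hG fun u => ?_)
    obtain ⟨z, hz, hu⟩ := Space.decomp hwf u
    rw [hu, cg_add, cg_smul, Matrix.add_mul, Matrix.smul_mul, Matrix.mul_sub, Matrix.mul_sub, hzero z hz,
      ← Matrix.mul_assoc (cg α σ G z), cg_emb_zero (hG.ip_eq_zero_symm hz), Matrix.zero_mul,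
      ← Matrix.mul_assoc (cg α σ G f) (emb α w), cg_emb_one hfw, Matrix.one_mul, sub_self, sub_self, smul_zero,
      add_zero]

end PairHyp

end CfsgLib.Geo.UnitWreath
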