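/-
Invariant additive groups of matrices on a tensor power contain monomials of squares.
-/
import Cfsg.Agent.Lib.Geo.UnitWreath.Step
import Cfsg.Agent.Lib.Geo.UnitWreath.Tensor

set_option autoImplicit false
set_option linter.unusedSectionVars false

namespace CfsgLib.Geo.UnitWreath

open Matrix CfsgLib.Geo.SpinTensor CfsgLib.Geo.TensorWreath
open scoped Kronecker

variable {F : Type*} [Field F] {σ : F →+* F} {t m : ℕ} {G : Matrix (Fin m) (Fin m) F}

/-- The monomial of squares on a set of factors. -/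
def mono (σ : F →+* F) (G : Matrix (Fin m) (Fin m) F) (e : Fin t → Fin m → F) (J : Finset (Fin t)) :
    Matrix (Fin t → Fin m) (Fin t → Fin m) F :=
  SpinTensor.pure fun l => if l ∈ J then sqr σ G (e l) else 1

theorem mono_empty (e : Fin t → Fin m → F) : mono σ G e ∅ = 1 := by
  rw [mono, ← SpinTensor.pure_one]; simp

theorem mono_congr {e e' : Fin t → Fin m → F} {J : Finset (Fin t)} (h : ∀ l ∈ J, e l = e' l) :
    mono σ G e J = mono σ G e' J := by
  rw [mono, mono]
  congr 1
  funext l
  split_ifs with hl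
  · rw [h l hl]
  · rfl

theorem emb_eq_pure (l : Fin t) (A : Matrix (Fin m) (Fin m) F) :
    SpinTensor.emb l A = SpinTensor.pure (Function.update (fun _ => 1) l A) := rfl

theorem mono_mul_emb (e : Fin t → Fin m → F) {J : Finset (Fin t)} {l : Fin t} (hl : l ∉ J)
    (A : Matrix (Fin m) (Fin m) F) :
    mono σ G e J * SpinTensor.emb l A = SpinTensor.emb l A * mono σ G e J := by
  rw [emb_eq_pure, mono, pure_mul, pure_mul]
  congr 1
  funext k
  by_cases hk : k = l
  · subst hk; simp [hl]
  · simp [Function.update_of_ne hk]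

theorem mono_insert (e : Fin t → Fin m → F) {J : Finset (Fin t)} {l : Fin t} (hl : l ∉ J) :
    mono σ G e (insert l J) = mono σ G e J * SpinTensor.emb l (sqr σ G (e l)) := by
  rw [emb_eq_pure, mono, mono, pure_mul]
  congr 1
  funext k
  by_cases hk : k = l
  · subst hk; simp [hl]
  · simp [Function.update_of_ne hk, hk]

theorem mono_singleton (e : Fin t → Fin m → F) (l : Fin t) :
    mono σ G e {l} = SpinTensor.emb l (sqr σ G (e l)) := by
  rw [← insert_empty_eq, mono_insert e (Finset.notMem_empty l), mono_empty, one_mul]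

theorem emb_comm_ne {i j : Fin t} (h : i ≠ j) (A B : Matrix (Fin m) (Fin m) F) :
    SpinTensor.emb i A * SpinTensor.emb j B = SpinTensor.emb j B * SpinTensor.emb i A := by
  rw [emb_eq_pure, emb_eq_pure, pure_mul, pure_mul]
  congr 1
  funext k
  by_cases hk : k = i
  · subst hk; simp [Function.update_of_ne h]
  · simp [Function.update_of_ne hk]

/-- A matrix commuting with every factor is a scalar. -/
theorem scalar_of_comm_all [NeZero m] {θ : Matrix (Fin t → Fin m) (Fin t → Fin m) F}
    (h : ∀ (l : Fin t) (A : Matrix (Fin m) (Fin m) F), SpinTensor.emb l A * θ = θ * SpinTensor.emb l A) :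
    ∃ c : F, θ = c • 1 := by
  classical
  have hS : ∀ (s : Finset (Fin t)) (gs : Fin t → Matrix (Fin m) (Fin m) F),
      SpinTensor.pure (fun l => if l ∈ s then gs l else 1) * θ =
        θ * SpinTensor.pure (fun l => if l ∈ s then gs l else 1) := by
    intro s gs
    induction s using Finset.induction with
    | empty => simp [SpinTensor.pure_one]
    | @insert a s ha ih =>
      have e : SpinTensor.pure (fun l => if l ∈ insert a s then gs l else 1) =
          SpinTensor.emb a (gs a) * SpinTensor.pure (fun l => if l ∈ s then gs l else 1) := by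
        rw [emb_eq_pure, pure_mul]
        congr 1
        funext l
        by_cases hl : l = a
        · subst hl; simp [ha]
        · simp [Function.update_of_ne hl, hl]
      rw [e, mul_assoc, ih, ← mul_assoc, h, mul_assoc]
  have hsingle : ∀ a b : Fin t → Fin m,
      Matrix.single a b (1 : F) * θ = θ * Matrix.single a b 1 := fun a b => by
    have h1 := hS Finset.univ fun l => Matrix.single (a l) (b l) (1 : F)
    rw [show Matrix.single a b (1 : F) =
      SpinTensor.pure (fun l => if l ∈ Finset.univ then Matrix.single (a l) (b l) (1 : F) else 1) by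
      ext x y
      simp only [Finset.mem_univ, if_true, pure_apply, Matrix.single_apply]
      by_cases hxy : a = x ∧ b = y
      · rw [if_pos hxy, Finset.prod_eq_one]
        intro l _
        rw [if_pos ⟨congrFun hxy.1 l, congrFun hxy.2 l⟩]
      · rw [if_neg hxy]
        obtain ⟨l, hl⟩ : ∃ l, ¬(a l = x l ∧ b l = y l) := by
          by_contra! hc
          exact hxy ⟨funext fun l => (hc l).1, funext fun l => (hc l).2⟩
        exact (Finset.prod_eq_zero (Finset.mem_univ l) (if_neg hl)).symm]
    exact h1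
  obtain ⟨c, hc⟩ := Matrix.mem_range_scalar_of_commute_single (M := θ) fun a b _ => hsingle a b
  exact ⟨c, by rw [← hc, Matrix.scalar_apply, ← Matrix.smul_one_eq_diagonal]⟩

/-- Cancelling a rank-one matrix on a factor. -/
theorem eq_zero_of_mul_rank_one {l : Fin t} {D : Matrix (Fin t → Fin m) (Fin t → Fin m) F}
    (hD : ∀ A : Matrix (Fin m) (Fin m) F, SpinTensor.emb l A * D = D * SpinTensor.emb l A)
    {v φ : Fin m → F} (hv : v ≠ 0) (hφ : φ ≠ 0) (h : D * SpinTensor.emb l (vecMulVec v φ) = 0) : D = 0 := by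
  obtain ⟨χ, hχ⟩ := TensorLinear.exists_dual hv
  obtain ⟨q, hq⟩ := TensorLinear.exists_dual hφ
  rw [dotProduct_comm] at hq
  have h1 : ∀ a b : Fin m, D * SpinTensor.emb l (Matrix.single a b (1 : F)) = 0 := by
    intro a b
    have e : Matrix.single a b (1 : F) =
        vecMulVec (Pi.single a 1) χ * vecMulVec v φ * vecMulVec q (Pi.single b 1) := by
      rw [Matrix.vecMulVec_mul_vecMulVec, Matrix.vecMulVec_mul_vecMulVec, hχ, one_smul, hq, one_smul]
      ext x y
      simp [Matrix.vecMulVec_apply, Matrix.single_apply, Pi.single_apply]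
      split_ifs <;> simp_all
    rw [e, ← emb_mul_emb, ← emb_mul_emb, ← mul_assoc, ← mul_assoc, ← hD, mul_assoc _ D, h, mul_zero, zero_mul]
  have h2 : D * SpinTensor.emb l (∑ a : Fin m, Matrix.single a a (1 : F)) = 0 := by
    rw [map_sum, Finset.mul_sum]; exact Finset.sum_eq_zero fun a _ => h1 a a
  rwa [sum_diag, emb_one, mul_one] at h2

namespace Space

variable (K : Space σ G)
include K

/-- The step on a tensor power. -/
theorem step_tensor [Finite F] {S : AddSubgroup (Matrix (Fin t → Fin m) (Fin t → Fin m) F)} {l : Fin t}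
    (hconj : ∀ u, SUnit σ G u → ∀ θ ∈ S, SpinTensor.emb l u * θ * SpinTensor.emb l (adj σ G G u) ∈ S)
    {θ : Matrix (Fin t → Fin m) (Fin t → Fin m) F} (hθ : θ ∈ S)
    (hnc : ∃ A : Matrix (Fin m) (Fin m) F, SpinTensor.emb l A * θ ≠ θ * SpinTensor.emb l A) :
    ∃ (e : Fin m → F) (T : Matrix (Fin t → Fin m) (Fin t → Fin m) F), e ≠ 0 ∧ ip σ G e e = 0 ∧ T ≠ 0 ∧
      (∀ A : Matrix (Fin m) (Fin m) F, SpinTensor.emb l A * T = T * SpinTensor.emb l A) ∧
      T * SpinTensor.emb l (sqr σ G e) ∈ S := by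
  cases t with
  | zero => exact l.elim0
  | succ t =>
  let f : Matrix (Fin (t + 1) → Fin m) (Fin (t + 1) → Fin m) F →+
      Matrix ((Fin t → Fin m) × Fin m) ((Fin t → Fin m) × Fin m) F :=
    { toFun := fun M => M.submatrix (sp l) (sp l), map_zero' := rfl, map_add' := fun _ _ => rfl }
  have happ : ∀ M a b, f M a b = M (sp l a) (sp l b) := fun _ _ _ => rfl
  have hf : Function.Injective f := fun M N h => by
    ext a b
    have := congrFun (congrFun h ((sp l).symm a)) ((sp l).symm b)
    simpa [happ] using this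
  have hmul : ∀ M N, f (M * N) = f M * f N := fun M N => (Matrix.submatrix_mul_equiv M N _ (sp l) _).symm
  have hemb : ∀ A, f (SpinTensor.emb l A) = (1 : Matrix (Fin t → Fin m) (Fin t → Fin m) F) ⊗ₖ A := sub_emb l
  obtain ⟨A₀, hA₀⟩ := hnc
  obtain ⟨e, T, he0, he, hT, θ', hθ', e'⟩ := K.exists_sqr_factor (S := S.map f)
    (by
      rintro u hu _ ⟨θ', hθ', rfl⟩
      exact ⟨_, hconj u hu θ' hθ', by rw [hmul, hmul, hemb, hemb]⟩)
    (AddSubgroup.mem_map_of_mem f hθ)
    ⟨A₀, by rw [← hemb, ← hmul, ← hmul]; exact fun h => hA₀ (hf h)⟩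
  set T' := (T ⊗ₖ (1 : Matrix (Fin m) (Fin m) F)).submatrix (sp l).symm (sp l).symm
  have hT' : f T' = T ⊗ₖ (1 : Matrix (Fin m) (Fin m) F) := by ext a b; simp [happ, T']
  refine ⟨e, T', he0, he, fun h0 => hT ?_, fun A => hf ?_, ?_⟩
  · haveI : NeZero m := ⟨by have := K.three; simp at this; omega⟩
    ext a b
    have := congrFun (congrFun (h0 ▸ hT') (a, 0)) (b, 0)
    simpa [happ] using this.symm
  · rw [hmul, hmul, hT', hemb, ← Matrix.mul_kronecker_mul, ← Matrix.mul_kronecker_mul, mul_one, one_mul, mul_one,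
      one_mul]
  · rwa [show T' * SpinTensor.emb l (sqr σ G e) = θ' from hf (by
      rw [hmul, hT', hemb, ← Matrix.mul_kronecker_mul, mul_one, one_mul, e'])]

/-- An invariant group with a non-scalar member contains a monomial. -/
theorem exists_mono [Finite F] (L : Finset (Fin t)) :
    ∀ (S : AddSubgroup (Matrix (Fin t → Fin m) (Fin t → Fin m) F)),
    (∀ l ∈ L, ∀ u, SUnit σ G u → ∀ θ ∈ S, SpinTensor.emb l u * θ * SpinTensor.emb l (adj σ G G u) ∈ S) →
    (∀ θ ∈ S, ∀ l ∉ L, ∀ A : Matrix (Fin m) (Fin m) F, SpinTensor.emb l A * θ = θ * SpinTensor.emb l A) →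
    ∀ θ ∈ S, (∀ c : F, θ ≠ c • 1) →
      ∃ (J : Finset (Fin t)) (e : Fin t → Fin m → F) (c : F), J.Nonempty ∧ J ⊆ L ∧
        (∀ l, e l ≠ 0 ∧ ip σ G (e l) (e l) = 0) ∧ c ≠ 0 ∧ c • mono σ G e J ∈ S := by
  classical
  haveI : NeZero m := ⟨by have := K.three; simp at this; omega⟩
  induction L using Finset.strongInduction with
  | _ L ih =>
  intro S hconj hcomm θ hθ hns
  obtain ⟨l, hl, A₀, hA₀⟩ : ∃ l ∈ L, ∃ A, SpinTensor.emb l A * θ ≠ θ * SpinTensor.emb l A := by
    by_contra! hc
    obtain ⟨c, hc'⟩ := scalar_of_comm_all (θ := θ) fun l A => by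
      by_cases hl : l ∈ L
      · exact hc l hl A
      · exact hcomm θ hθ l hl A
    exact hns c hc'
  obtain ⟨e₀, T, he0, he, hT, hTc, hTS⟩ := K.step_tensor (hconj l hl) hθ ⟨A₀, hA₀⟩
  by_cases hTs : ∃ c : F, T = c • 1
  · obtain ⟨c, rfl⟩ := hTs
    refine ⟨{l}, fun _ => e₀, c, Finset.singleton_nonempty l, Finset.singleton_subset_iff.2 hl,
      fun _ => ⟨he0, he⟩, fun h0 => hT (by rw [h0, zero_smul]), ?_⟩
    rw [mono_singleton]
    simpa [smul_mul_assoc] using hTS
  push Not at hTs
  let S' : AddSubgroup (Matrix (Fin t → Fin m) (Fin t → Fin m) F) :=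
    { carrier := {D | (∀ A : Matrix (Fin m) (Fin m) F, SpinTensor.emb l A * D = D * SpinTensor.emb l A) ∧
        D * SpinTensor.emb l (sqr σ G e₀) ∈ S}
      zero_mem' := ⟨fun A => by simp, by simp [S.zero_mem]⟩
      add_mem' := fun {a b} ha hb => ⟨fun A => by rw [mul_add, add_mul, ha.1, hb.1],
        by rw [add_mul]; exact S.add_mem ha.2 hb.2⟩
      neg_mem' := fun {a} ha => ⟨fun A => by rw [mul_neg, neg_mul, ha.1],
        by rw [neg_mul]; exact S.neg_mem ha.2⟩ }
  obtain ⟨J, e, c, hJ, hJL, hiso, hc, hmem⟩ := ih (L.erase l) (Finset.erase_ssubset hl) S'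
    (fun i hi u hu D hD => by
      have hil : i ≠ l := Finset.ne_of_mem_erase hi
      refine ⟨fun A => ?_, ?_⟩
      · rw [← mul_assoc, ← mul_assoc, ← emb_comm_ne hil, mul_assoc (SpinTensor.emb i u), hD.1, ← mul_assoc,
          mul_assoc _ (SpinTensor.emb l A), ← emb_comm_ne hil]
        simp only [mul_assoc]
      · have := hconj i (Finset.mem_of_mem_erase hi) u hu _ hD.2
        rwa [mul_assoc _ (D * SpinTensor.emb l _), mul_assoc D, ← emb_comm_ne hil, ← mul_assoc D,
          ← mul_assoc, ← mul_assoc] at this)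
    (fun D hD i hi A => by
      by_cases hil : i = l
      · subst hil; exact hD.1 A
      have hiL : i ∉ L := fun h => hi (Finset.mem_erase.2 ⟨hil, h⟩)
      refine sub_eq_zero.1 (eq_zero_of_mul_rank_one (l := l) (fun B => ?_) he0 (K.gram.phi_ne_zero he0) ?_)
      · rw [mul_sub, sub_mul, ← mul_assoc, ← mul_assoc, ← emb_comm_ne hil, mul_assoc (SpinTensor.emb i A), hD.1,
          mul_assoc D, ← mul_assoc (SpinTensor.emb i A), mul_assoc D (SpinTensor.emb i A), emb_comm_ne hil]
      · have h1 := hcomm _ hD.2 i hiL A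
        show (_ - _) * SpinTensor.emb l (sqr σ G e₀) = 0
        rw [sub_mul, mul_assoc, h1, mul_assoc, mul_assoc, emb_comm_ne hil, sub_self])
    T ⟨hTc, hTS⟩ hTs
  have hlJ : l ∉ J := fun h => Finset.notMem_erase l L (hJL h)
  refine ⟨insert l J, Function.update e l e₀, c, Finset.insert_nonempty l J,
    Finset.insert_subset hl (hJL.trans (Finset.erase_subset l L)), fun i => ?_, hc, ?_⟩
  · by_cases hi : i = l
    · subst hi; simpa using ⟨he0, he⟩
    · simpa [Function.update_of_ne hi] using hiso i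
  · rw [mono_insert _ hlJ, Function.update_self, mono_congr (e' := e)
      (fun i hi => Function.update_of_ne (fun h => hlJ (by rw [← h]; exact hi)) _ _), ← smul_mul_assoc]
    exact hmem.2

end Space

end CfsgLib.Geo.UnitWreath
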