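/-
Groups without monomial elements: the coefficients of roots are scalars, and the property passes to the factors.
-/
import Cfsg.Agent.Lib.Geo.UnitWreath.Mono
import Cfsg.Agent.Lib.Geo.TensorWreath.Ctx

set_option autoImplicit false
set_option linter.unusedSectionVars false

namespace CfsgLib.Geo.UnitWreath

open Matrix CfsgLib.Geo.SpinTensor CfsgLib.Geo.TensorWreath
open scoped Kronecker

variable {F : Type*} [Field F] {σ : F →+* F} {t m : ℕ} {G : Matrix (Fin m) (Fin m) F}

/-- No element is one plus a monomial of squares on two or more factors. -/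
def NoZ (σ : F →+* F) (G : Matrix (Fin m) (Fin m) F) (X : Subgroup (GL (Fin t → Fin m) F)) : Prop :=
  ∀ x ∈ X, ∀ (J : Finset (Fin t)) (e : Fin t → Fin m → F) (c : F), 2 ≤ J.card →
    (∀ l, e l ≠ 0 ∧ ip σ G (e l) (e l) = 0) → c ≠ 0 →
    (x : Matrix (Fin t → Fin m) (Fin t → Fin m) F) ≠ 1 + c • mono σ G e J

/-- The standing hypotheses on an overgroup. -/
structure Hyp (σ : F →+* F) (G : Matrix (Fin m) (Fin m) F) (X : Subgroup (GL (Fin t → Fin m) F)) : Prop where
  sim : ∀ x ∈ X, Sim σ (gramT G t) (x : Matrix (Fin t → Fin m) (Fin t → Fin m) F)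
  base : ∀ (i : Fin t) (u : Matrix (Fin m) (Fin m) F) (hu : SUnit σ G u), fac i hu.gl ∈ X
  perms : 3 ≤ t → ∀ π : Equiv.Perm (Fin t), ∃ g ∈ X, HasPerm g π

/-- A monomial squares to zero. -/
theorem mono_sq {e : Fin t → Fin m → F} {J : Finset (Fin t)} (hJ : J.Nonempty)
    (he : ∀ l ∈ J, ip σ G (e l) (e l) = 0) : mono σ G e J * mono σ G e J = 0 := by
  obtain ⟨l, hl⟩ := hJ
  rw [mono, pure_mul]
  refine pure_eq_zero l ?_
  simp only [hl, if_true]
  rw [sqr_mul_self, he l hl, zero_smul]

theorem comm_mono {e : Fin t → Fin m → F} {J : Finset (Fin t)} {D : Matrix (Fin t → Fin m) (Fin t → Fin m) F}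
    (hD : ∀ l ∈ J, ∀ A : Matrix (Fin m) (Fin m) F, SpinTensor.emb l A * D = D * SpinTensor.emb l A) :
    mono σ G e J * D = D * mono σ G e J := by
  classical
  induction J using Finset.induction with
  | empty => simp [mono_empty]
  | @insert a s ha ih =>
    rw [mono_insert e ha, mul_assoc, hD a (Finset.mem_insert_self a s), ← mul_assoc,
      ih fun l hl => hD l (Finset.mem_insert_of_mem hl), mul_assoc]

theorem sub_mono (i : Fin (t + 1)) (e : Fin t → Fin m → F) (J : Finset (Fin t)) (w : Fin m → F) :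
    (mono σ G (i.insertNth w e) (insert i (J.map (Fin.succAboveEmb i)))).submatrix (sp i) (sp i) =
      mono σ G e J ⊗ₖ sqr σ G w := by
  rw [mono, sub_pure]
  congr 1
  · rw [mono]
    congr 1
    funext j
    simp [Fin.succAbove_ne, Fin.succAbove_right_inj]
  · simp

theorem sub_mono_one (i : Fin (t + 1)) (e : Fin t → Fin m → F) (J : Finset (Fin t)) (w : Fin m → F) :
    (mono σ G (i.insertNth w e) (J.map (Fin.succAboveEmb i))).submatrix (sp i) (sp i) =
      mono σ G e J ⊗ₖ (1 : Matrix (Fin m) (Fin m) F) := by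
  rw [mono, sub_pure]
  congr 1
  · rw [mono]
    congr 1
    funext j
    simp [Fin.succAbove_right_inj]
  · simp [Fin.succAbove_ne]

theorem card_fun_pos (hm : 0 < m) : Nonempty (Fin t → Fin m) := ⟨fun _ => ⟨0, hm⟩⟩

theorem spGL_fac (i : Fin (t + 1)) (j : Fin t) (u : GL (Fin m) F) :
    (spGL i (fac (i.succAbove j) u) : Matrix ((Fin t → Fin m) × Fin m) ((Fin t → Fin m) × Fin m) F) =
      SpinTensor.emb j (u : Matrix (Fin m) (Fin m) F) ⊗ₖ (1 : Matrix (Fin m) (Fin m) F) := by
  rw [spGL_val, val_fac, sub_emb_succAbove]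

theorem spGL_fac_self (i : Fin (t + 1)) (u : GL (Fin m) F) :
    (spGL i (fac i u) : Matrix ((Fin t → Fin m) × Fin m) ((Fin t → Fin m) × Fin m) F) =
      (1 : Matrix (Fin t → Fin m) (Fin t → Fin m) F) ⊗ₖ (u : Matrix (Fin m) (Fin m) F) := by
  rw [spGL_val, val_fac, sub_emb]

theorem eq_of_spGL {i : Fin (t + 1)} {g : GL (Fin (t + 1) → Fin m) F}
    {M : Matrix (Fin (t + 1) → Fin m) (Fin (t + 1) → Fin m) F}
    (h : (spGL i g : Matrix ((Fin t → Fin m) × Fin m) ((Fin t → Fin m) × Fin m) F) = M.submatrix (sp i) (sp i)) :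
    (g : Matrix (Fin (t + 1) → Fin m) (Fin (t + 1) → Fin m) F) = M := by
  ext a b
  have := congrFun (congrFun h ((sp i).symm a)) ((sp i).symm b)
  simpa [spGL_val] using this

theorem one_add_mul_one_sub {n : Type} [Fintype n] [DecidableEq n] {A : Matrix n n F} (h : A * A = 0) :
    (1 + A) * (1 - A) = 1 := by
  rw [mul_sub, mul_one, add_mul, one_mul, h]; abel

theorem sub_one_add (i : Fin (t + 1)) (c : F) (N : Matrix (Fin (t + 1) → Fin m) (Fin (t + 1) → Fin m) F) :
    (1 + c • N).submatrix (sp i) (sp i) = 1 + c • N.submatrix (sp i) (sp i) := by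
  ext p q
  simp [Matrix.one_apply, (sp i).injective.eq_iff]

namespace Hyp

variable {X : Subgroup (GL (Fin (t + 1) → Fin m) F)} (H : Hyp σ G X) (K : Space σ G) (hX : NoZ σ G X)
include H K hX

/-- The coefficient of a root element is a scalar. -/
theorem root_scalar [Finite F] {i : Fin (t + 1)} {x : GL (Fin (t + 1) → Fin m) F} (hx : x ∈ X) {w : Fin m → F}
    (hw0 : w ≠ 0) (hw : ip σ G w w = 0) {θ : Matrix (Fin t → Fin m) (Fin t → Fin m) F}
    (e : (spGL i x : Matrix ((Fin t → Fin m) × Fin m) ((Fin t → Fin m) × Fin m) F) = 1 + θ ⊗ₖ sqr σ G w) :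
    ∃ c : F, θ = c • 1 := by
  classical
  by_contra! hns
  have hEE : sqr σ G w * sqr σ G w = 0 := by rw [sqr_mul_self, hw, zero_smul]
  let S : AddSubgroup (Matrix (Fin t → Fin m) (Fin t → Fin m) F) :=
    { carrier := {θ' | ∃ x ∈ X, (spGL i x : Matrix ((Fin t → Fin m) × Fin m) ((Fin t → Fin m) × Fin m) F) =
        1 + θ' ⊗ₖ sqr σ G w}
      zero_mem' := ⟨1, X.one_mem, by simp⟩
      add_mem' := fun {a b} => by
        rintro ⟨x, hx, ex⟩ ⟨y, hy, ey⟩
        refine ⟨x * y, X.mul_mem hx hy, ?_⟩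
        rw [map_mul, Units.val_mul, ex, ey, mul_add, mul_one, add_mul, one_mul, ← Matrix.mul_kronecker_mul, hEE,
          Matrix.kronecker_zero, add_zero, Matrix.add_kronecker, add_assoc]
      neg_mem' := fun {a} => by
        rintro ⟨x, hx, ex⟩
        refine ⟨x⁻¹, X.inv_mem hx, ?_⟩
        rw [map_inv]
        refine Units.inv_eq_of_mul_eq_one_right ?_
        rw [ex, show (-a) ⊗ₖ sqr σ G w = -(a ⊗ₖ sqr σ G w) by ext p q; simp, ← sub_eq_add_neg]
        exact one_add_mul_one_sub (by rw [← Matrix.mul_kronecker_mul, hEE, Matrix.kronecker_zero]) }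
  obtain ⟨J, e', c, hJ, -, hiso, hc, x', hx', ex'⟩ := K.exists_mono Finset.univ S
    (fun j _ u hu θ' => by
      rintro ⟨y, hy, ey⟩
      refine ⟨fac (i.succAbove j) hu.gl * y * (fac (i.succAbove j) hu.gl)⁻¹,
        X.mul_mem (X.mul_mem (H.base _ u hu) hy) (X.inv_mem (H.base _ u hu)), ?_⟩
      rw [← map_inv, map_mul, map_mul, Units.val_mul, Units.val_mul, spGL_fac, spGL_fac, hu.val_gl, hu.val_gl_inv,
        ey, mul_add, mul_one, add_mul, ← Matrix.mul_kronecker_mul, ← Matrix.mul_kronecker_mul,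
        ← Matrix.mul_kronecker_mul, emb_mul_emb, hu.mul_adj, emb_one, mul_one, Matrix.one_kronecker_one, one_mul,
        mul_one])
    (fun _ _ l hl => absurd (Finset.mem_univ l) hl) θ ⟨x, hx, e⟩ hns
  refine hX x' hx' (insert i (J.map (Fin.succAboveEmb i))) (i.insertNth w e') c ?_ (fun l => ?_) hc (eq_of_spGL (i := i) ?_)
  · rw [Finset.card_insert_of_notMem (by simp [Fin.succAbove_ne]), Finset.card_map]
    have := hJ.card_pos
    omega
  · rcases Fin.eq_self_or_eq_succAbove i l with rfl | ⟨j, rfl⟩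
    · simpa using ⟨hw0, hw⟩
    · simpa using hiso j
  · rw [ex', sub_one_add, sub_mono, Matrix.smul_kronecker]

/-- The factors have no monomial elements either. -/
theorem noZ_firstFactors [Finite F] (i : Fin (t + 1)) : NoZ σ G (firstFactors X i) := by
  classical
  rintro A ⟨B, g, hg, eg⟩ J e c hJ hiso hc eA
  obtain ⟨j, hj⟩ : J.Nonempty := Finset.card_pos.1 (by omega)
  set M := mono σ G e (J.erase j)
  have hJ' : (J.erase j).Nonempty := Finset.card_pos.1 (by rw [Finset.card_erase_of_mem hj]; omega)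
  have hMM : M * M = 0 := mono_sq hJ' fun l _ => (hiso l).2
  obtain ⟨f, hef, hfe, hff, hf0⟩ := K.exists_partner (hiso j).1 (hiso j).2
  obtain ⟨u, hu, hue⟩ := K.move_iso (hiso j).1 hf0 (hiso j).2 hff
  set E := sqr σ G (e j)
  have hMA : ∀ A', M * SpinTensor.emb j A' = SpinTensor.emb j A' * M :=
    fun A' => mono_mul_emb e (Finset.notMem_erase j J) A'
  have hmono : mono σ G e J = M * SpinTensor.emb j E := by
    rw [← mono_insert e (Finset.notMem_erase j J), Finset.insert_erase hj]
  have hA2 : (c • mono σ G e J) * (c • mono σ G e J) = 0 := by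
    rw [smul_mul_smul_comm, mono_sq ⟨j, hj⟩ fun l _ => (hiso l).2, smul_zero]
  let S : AddSubgroup (Matrix (Fin t → Fin m) (Fin t → Fin m) F) :=
    { carrier := {D | (∀ l, l ≠ j → ∀ A' : Matrix (Fin m) (Fin m) F,
          SpinTensor.emb l A' * D = D * SpinTensor.emb l A') ∧
        ∃ x ∈ X, (spGL i x : Matrix ((Fin t → Fin m) × Fin m) ((Fin t → Fin m) × Fin m) F) =
          (1 + M * D) ⊗ₖ (1 : Matrix (Fin m) (Fin m) F)}
      zero_mem' := ⟨fun l _ A' => by simp, 1, X.one_mem, by simp⟩
      add_mem' := fun {a b} => by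
        rintro ⟨ha, x, hx, ex⟩ ⟨hb, y, hy, ey⟩
        refine ⟨fun l hl A' => by rw [mul_add, add_mul, ha l hl, hb l hl], x * y, X.mul_mem hx hy, ?_⟩
        have haM : a * M = M * a := (comm_mono fun l hl => ha l (Finset.ne_of_mem_erase hl)).symm
        rw [spGL_kronecker_mul ex ey, mul_one, mul_add (1 + M * a), mul_one, add_mul, one_mul, mul_assoc,
          ← mul_assoc a, haM, mul_assoc, ← mul_assoc M M, hMM, zero_mul, add_zero, mul_add M, add_assoc]
      neg_mem' := fun {a} => by
        rintro ⟨ha, x, hx, ex⟩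
        refine ⟨fun l hl A' => by rw [mul_neg, neg_mul, ha l hl], x⁻¹, X.inv_mem hx, ?_⟩
        have haM : a * M = M * a := (comm_mono fun l hl => ha l (Finset.ne_of_mem_erase hl)).symm
        rw [map_inv]
        refine Units.inv_eq_of_mul_eq_one_right ?_
        rw [ex, ← Matrix.mul_kronecker_mul, mul_one, mul_neg, ← sub_eq_add_neg,
          one_add_mul_one_sub (by rw [mul_assoc, ← mul_assoc a, haM, mul_assoc, ← mul_assoc, hMM, zero_mul]),
          Matrix.one_kronecker_one] }
  have hmem : SpinTensor.emb j (c • (E - sqr σ G f)) ∈ S := by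
    refine ⟨fun l hl A' => emb_comm_ne hl _ _, g * fac (i.succAbove j) hu.gl * g⁻¹ * (fac (i.succAbove j) hu.gl)⁻¹,
      X.mul_mem (X.mul_mem (X.mul_mem hg (H.base _ u hu)) (X.inv_mem hg)) (X.inv_mem (H.base _ u hu)), ?_⟩
    have egi : (spGL i g⁻¹ : Matrix ((Fin t → Fin m) × Fin m) ((Fin t → Fin m) × Fin m) F) =
        ((A⁻¹ : GL (Fin t → Fin m) F) : Matrix (Fin t → Fin m) (Fin t → Fin m) F) ⊗ₖ
          ((B⁻¹ : GL (Fin m) F) : Matrix (Fin m) (Fin m) F) := by
      rw [map_inv]
      refine Units.inv_eq_of_mul_eq_one_right ?_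
      rw [eg, ← Matrix.mul_kronecker_mul, Units.mul_inv, Units.mul_inv, Matrix.one_kronecker_one]
    rw [← map_inv, spGL_kronecker_mul (spGL_kronecker_mul (spGL_kronecker_mul eg (spGL_fac i j _)) egi)
      (spGL_fac i j _), mul_one, mul_one, Units.mul_inv]
    congr 1
    have eAi : ((A⁻¹ : GL (Fin t → Fin m) F) : Matrix (Fin t → Fin m) (Fin t → Fin m) F) =
        1 - c • mono σ G e J := Units.inv_eq_of_mul_eq_one_right (by rw [eA]; exact one_add_mul_one_sub hA2)
    rw [eA, eAi, hu.val_gl, hu.val_gl_inv, hmono, ← hue, ← hu.conj_sqr K.gram]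
    set R := SpinTensor.emb j u with hR
    set R' := SpinTensor.emb j (adj σ G G u) with hR'
    have hRR : R * R' = 1 := by rw [emb_mul_emb, hu.mul_adj, emb_one]
    set P := M * SpinTensor.emb j E
    have hPRP : P * R * P = 0 := by
      rw [show P * R * P = M * (SpinTensor.emb j E * R * M) * SpinTensor.emb j E by simp only [P, mul_assoc],
        emb_mul_emb, ← hMA, ← mul_assoc, hMM, zero_mul, zero_mul]
    calc (1 + c • P) * R * (1 - c • P) * R'
        = R * R' + c • (P * (R * R')) - c • (R * P * R') - (c * c) • (P * R * P * R') := by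
          simp only [mul_sub, sub_mul, add_mul, mul_one, one_mul, smul_mul_assoc, mul_smul_comm, smul_smul,
            mul_assoc, smul_add]
          abel
      _ = _ := by
          rw [hPRP, hRR, mul_one, zero_mul, smul_zero, sub_zero,
            show R * P * R' = M * SpinTensor.emb j (u * E * adj σ G G u) by
              rw [← mul_assoc, ← hMA, mul_assoc, mul_assoc, emb_mul_emb, emb_mul_emb, mul_assoc],
            map_smul, map_sub, mul_smul_comm, mul_sub, smul_sub, add_sub_assoc]
  have hns : ∀ d : F, SpinTensor.emb j (c • (E - sqr σ G f)) ≠ d • 1 := by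
    intro d hd
    have hm : 3 ≤ m := by simpa using K.three
    rw [← emb_one j, ← map_smul] at hd
    have h1 := emb_injective hm j hd
    obtain ⟨z, hez, hfz, hz⟩ := K.exists_norm_perp_pair (hiso j).2 hef (map_one σ)
    have h2 := congrArg (· *ᵥ z) h1
    simp only [Matrix.smul_mulVec, Matrix.sub_mulVec, E, sqr_mulVec, hez, hfz, zero_smul, sub_zero, smul_zero,
      Matrix.one_mulVec] at h2
    have hz0 : z ≠ 0 := fun h => by rw [h, ip_zero_left] at hz; exact zero_ne_one hz
    rw [(smul_eq_zero.1 h2.symm).resolve_right hz0, zero_smul] at h1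
    have h3 := congrArg (· *ᵥ e j) ((smul_eq_zero.1 h1).resolve_left hc)
    simp only [Matrix.sub_mulVec, E, sqr_mulVec, (hiso j).2, hfe, zero_smul, zero_sub, one_smul, Matrix.zero_mulVec,
      neg_eq_zero] at h3
    exact hf0 h3
  obtain ⟨J', e', c', hJ1, hJ2, hiso', hc', ⟨-, x, hx, ex⟩⟩ := K.exists_mono {j} S
    (fun l hl u' hu' D => by
      rw [Finset.mem_singleton] at hl
      subst hl
      rintro ⟨hD, x, hx, ex⟩
      refine ⟨fun l' hl' A' => ?_, fac (i.succAbove l) hu'.gl * x * (fac (i.succAbove l) hu'.gl)⁻¹,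
        X.mul_mem (X.mul_mem (H.base _ u' hu') hx) (X.inv_mem (H.base _ u' hu')), ?_⟩
      · rw [← mul_assoc, ← mul_assoc, emb_comm_ne hl', mul_assoc (SpinTensor.emb l u'), hD l' hl',
          mul_assoc (SpinTensor.emb l u' * D), ← emb_comm_ne hl']
        simp only [mul_assoc]
      · rw [← map_inv, spGL_kronecker_mul (spGL_kronecker_mul (spGL_fac i l _) ex) (spGL_fac i l _),
          hu'.val_gl, hu'.val_gl_inv, mul_one, mul_one]
        congr 1
        rw [mul_add, mul_one, add_mul, emb_mul_emb, hu'.mul_adj, emb_one, ← mul_assoc, ← hMA]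
        simp only [mul_assoc])
    (fun D hD l hl A' => hD.1 l (by simpa using hl) A') _ hmem hns
  obtain rfl : J' = {j} := by
    obtain ⟨a, ha⟩ := hJ1
    have := Finset.mem_singleton.1 (hJ2 ha)
    subst this
    exact Finset.Subset.antisymm hJ2 (Finset.singleton_subset_iff.2 ha)
  set ee := Function.update e j (e' j)
  have he : mono σ G ee J = M * SpinTensor.emb j (sqr σ G (e' j)) := by
    have h2 : M = mono σ G ee (J.erase j) :=
      mono_congr fun l hl => (Function.update_of_ne (Finset.ne_of_mem_erase hl) _ _).symm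
    conv_lhs => rw [← Finset.insert_erase hj, mono_insert ee (Finset.notMem_erase j J), ← h2]
    simp [ee]
  rw [mono_singleton, mul_smul_comm, ← he] at ex
  have hee : ∀ l, ee l ≠ 0 ∧ ip σ G (ee l) (ee l) = 0 := fun l => by
    by_cases hl : l = j
    · subst hl; simpa [ee] using hiso' l
    · simpa [ee, Function.update_of_ne hl] using hiso l
  refine hX x hx (J.map (Fin.succAboveEmb i)) (i.insertNth (e j) ee) c' (by rwa [Finset.card_map]) (fun l => ?_) hc'
    (eq_of_spGL (i := i) ?_)
  · rcases Fin.eq_self_or_eq_succAbove i l with rfl | ⟨l', rfl⟩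
    · simpa using hiso j
    · simpa using hee l'
  · rw [ex, sub_one_add, sub_mono_one, Matrix.add_kronecker, Matrix.one_kronecker_one, Matrix.smul_kronecker]

omit hX in
/-- The hypotheses pass to the factors. -/
theorem firstFactors_hyp (i : Fin (t + 1)) : Hyp σ G (firstFactors X i) := by
  have hm : 3 ≤ m := by simpa using K.three
  haveI : Nonempty (Fin t → Fin m) := card_fun_pos (by omega)
  haveI : NeZero m := ⟨by omega⟩
  refine ⟨?_, fun j u hu => ⟨1, fac (i.succAbove j) hu.gl, H.base _ u hu, ?_⟩, fun ht π => ?_⟩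
  · rintro A ⟨B, g, hg, eg⟩
    have := sim_spGL (i := i) (H.sim g hg)
    rw [eg] at this
    exact (Sim.factors (isGram_gramT K.gram t) K.gram this).1
  · rw [spGL_fac, val_fac]; rfl
  · obtain ⟨g, hg, gs, rfl⟩ := H.perms (by omega) (extPerm i π)
    refine ⟨pureGL (fun j => gs (i.succAbove j)) * permGL m F π, ⟨gs i, _, hg, ?_⟩, ⟨_, rfl⟩⟩
    rw [spGL_kronecker_mul (spGL_pureGL i _) (spGL_permGL i π), mul_one]
    rfl

end Hyp

end CfsgLib.Geo.UnitWreath
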