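/-
What is used about an overgroup without monomial elements.
-/
import Cfsg.Agent.Lib.Geo.UnitWreath.NoZ
import Cfsg.Agent.Lib.Geo.UnitWreath.Narrow

set_option autoImplicit false
set_option linter.unusedSectionVars false

namespace CfsgLib.Geo.UnitWreath

open Matrix CfsgLib.Geo.SpinTensor CfsgLib.Geo.TensorWreath
open scoped Kronecker

variable {F : Type*} [Field F] {σ : F →+* F} {t m : ℕ} {G : Matrix (Fin m) (Fin m) F}

/-- The consequences used in the closure arguments. -/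
structure Ctx (σ : F →+* F) (G : Matrix (Fin m) (Fin m) F) (X : Subgroup (GL (Fin t → Fin m) F)) : Prop where
  space : Space σ G
  hyp : Hyp σ G X
  two : 2 ≤ t
  root_map : ∀ y ∈ X, ∀ x, IsURoot σ G x → IsURoot σ G (y * x * y⁻¹) → IsStd y
  one : ∀ y ∈ X, ∀ (i : Fin t) (M : Matrix (Fin m) (Fin m) F) (v w χ : Fin m → F),
    v ≠ 0 → ip σ G v v = 0 → w ≠ 0 → ip σ G w w = 0 → M *ᵥ v = 0 → phi σ G w = χ ᵥ* M →
    Commute (y : Matrix (Fin t → Fin m) (Fin t → Fin m) F) (SpinTensor.emb i M) → IsStd y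

theorem Space.three' (K : Space σ G) : 3 ≤ m := by simpa using K.three

namespace Hyp

variable {X : Subgroup (GL (Fin (t + 1) → Fin m) F)} (H : Hyp σ G X) (K : Space σ G) (hX : NoZ σ G X)
include H K hX

theorem pairHyp [Finite F] (i : Fin (t + 1)) : PairHyp σ (gramT G t) G (X.map (spGL i).toMonoidHom) where
  space := K
  gramA := isGram_gramT K.gram t
  base u hu := ⟨spGL i (fac i hu.gl), Subgroup.mem_map_of_mem _ (H.base i u hu), spGL_fac_self i _⟩
  scalar x hx w θ hw0 hw e := by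
    obtain ⟨g, hg, rfl⟩ := hx
    exact H.root_scalar K hX hg hw0 hw e

omit hX in
theorem conj_spGL (i : Fin (t + 1)) {y : GL (Fin (t + 1) → Fin m) F}
    (hs : Sim σ (gramT G (t + 1)) (y : Matrix (Fin (t + 1) → Fin m) (Fin (t + 1) → Fin m) F))
    (hc : ∀ u (hu : SUnit σ G u), y * fac i hu.gl * y⁻¹ ∈ X) :
    Conj σ (gramT G t) G (X.map (spGL i).toMonoidHom) (spGL i y) := by
  refine ⟨sim_spGL hs, fun x u hu ex => ?_⟩
  rw [show x = spGL i (fac i hu.gl) from Units.ext (by rw [ex, spGL_fac_self, hu.val_gl]), ← map_inv, ← map_mul,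
    ← map_mul]
  exact Subgroup.mem_map_of_mem _ (hc u hu)

variable (IH : ∀ Y : Subgroup (GL (Fin t → Fin m) F), Hyp σ G Y → NoZ σ G Y → ∀ y ∈ Y, IsStd y)
include IH

theorem isStd_of_kr [Finite F] {i : Fin (t + 1)} {y : GL (Fin (t + 1) → Fin m) F} (hy : y ∈ X)
    (hk : Kr (spGL i y)) : IsStd y := by
  obtain ⟨A, B, e⟩ := hk
  exact isStd_of_kronecker e (IH (firstFactors X i) (H.firstFactors_hyp K i) (H.noZ_firstFactors K hX i) A
    ⟨B, y, hy, e⟩)

theorem ctx_of [Finite F] (ht : 1 ≤ t) : Ctx σ G X := by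
  classical
  have hm := K.three'
  haveI : Nonempty (Fin t → Fin m) := card_fun_pos (by omega)
  refine ⟨K, H, by omega, ?_, ?_⟩
  · intro y hy x hx hyx
    obtain ⟨k, v, c, hv0, hv, hc, hcs, ex⟩ := hx.shape K
    obtain ⟨i, w, d, hw0, hw, hd, hds, eyx⟩ := hyx.shape K
    set h₁ : GL (Fin (t + 1) → Fin m) F := permGL m F (Equiv.swap i k)
    set y₁ := y * h₁
    have hh₁ : h₁ = pureGL 1 * permGL m F (Equiv.swap i k) := by rw [pureGL_one, one_mul]
    have hconj₁ : ∀ u : GL (Fin m) F, h₁ * fac i u * h₁⁻¹ = fac k u := fun u => by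
      rw [conj_fac hh₁, Equiv.swap_apply_left]; simp
    have hs : Sim σ (gramT G (t + 1)) (y₁ : Matrix (Fin (t + 1) → Fin m) (Fin (t + 1) → Fin m) F) := by
      rw [Units.val_mul]
      exact Sim.mul (isGram_gramT K.gram _) (H.sim y hy) (sim_perm K.gram _).sim
    have hconj : Conj σ (gramT G t) G (X.map (spGL i).toMonoidHom) (spGL i y₁) := H.conj_spGL K i hs fun u hu => by
      rw [show y₁ * fac i hu.gl * y₁⁻¹ = y * (h₁ * fac i hu.gl * h₁⁻¹) * y⁻¹ by simp only [y₁]; group, hconj₁]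
      exact X.mul_mem (X.mul_mem hy (H.base k u hu)) (X.inv_mem hy)
    have hvs := K.trv_su hv hcs
    have hws := K.trv_su hw hds
    have hmain : y₁ * fac i hvs.gl = fac i hws.gl * y₁ := by
      have e1 : x = fac k hvs.gl := Units.ext (by rw [ex, val_fac, hvs.val_gl])
      have e2 : y * x * y⁻¹ = fac i hws.gl := Units.ext (by rw [eyx, val_fac, hws.val_gl])
      rw [← e2, e1, ← hconj₁ hvs.gl]
      simp only [y₁]
      group
    have h4 := congrArg (fun g => (spGL i g : Matrix ((Fin t → Fin m) × Fin m) ((Fin t → Fin m) × Fin m) F)) hmain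
    simp only [map_mul, Units.val_mul, spGL_fac_self, hvs.val_gl, hws.val_gl] at h4
    rw [trv, trv, Matrix.kronecker_add, Matrix.kronecker_add, Matrix.one_kronecker_one, mul_add, mul_one, add_mul,
      one_mul, add_right_inj, Matrix.kronecker_smul, Matrix.kronecker_smul,
      show (1 : Matrix (Fin t → Fin m) (Fin t → Fin m) F) ⊗ₖ sqr σ G v =
        TensorLinear.emb (Fin t → Fin m) v * cg (Fin t → Fin m) σ G v from
          TensorLinear.one_kronecker_vecMulVec v _,
      show (1 : Matrix (Fin t → Fin m) (Fin t → Fin m) F) ⊗ₖ sqr σ G w =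
        TensorLinear.emb (Fin t → Fin m) w * cg (Fin t → Fin m) σ G w from
          TensorLinear.one_kronecker_vecMulVec w _] at h4
    obtain ⟨f, hvf, -, -, -⟩ := K.exists_partner hv0 hv
    set Z := (spGL i y₁ : Matrix ((Fin t → Fin m) × Fin m) ((Fin t → Fin m) × Fin m) F)
    have h6 : Z * TensorLinear.emb (Fin t → Fin m) v =
        TensorLinear.emb (Fin t → Fin m) w *
          ((c⁻¹ * d) • (cg (Fin t → Fin m) σ G w * (Z * TensorLinear.emb (Fin t → Fin m) f))) := by
      have h5 := congrArg (fun M => M * TensorLinear.emb (Fin t → Fin m) f) h4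
      simp only [Matrix.mul_smul, Matrix.smul_mul, Matrix.mul_assoc, cg_emb_one hvf, Matrix.mul_one] at h5
      rw [Matrix.mul_smul, ← smul_smul, ← h5, inv_smul_smul₀ hc]
    have hkr := (H.pairHyp K hX i).kr_of_line hconj hv0 hv hw0 h6
    rcases Nat.lt_or_ge t 2 with ht2 | ht2
    · obtain rfl : t = 1 := by omega
      obtain ⟨A, B, e⟩ := hkr
      exact IsStd.of_mul_right (isStd_permGL _) (isStd_of_kronecker e (isStd_fin_one A))
    obtain ⟨g, hg, hgp⟩ := H.perms (by omega) (Equiv.swap i k)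
    obtain ⟨hs', eh⟩ := (hasPerm_permGL (m := m) (F := F) (Equiv.swap i k)).inv.mul hgp
    rw [inv_mul_cancel, permGL_one, mul_one, inv_mul_eq_iff_eq_mul] at eh
    have hkr' : Kr (spGL i (y * g)) := by
      obtain ⟨A, B, e⟩ := hkr
      refine ⟨A * pureGL (fun j => hs' (i.succAbove j)), B * hs' i, ?_⟩
      rw [eh, ← mul_assoc, spGL_kronecker_mul e (spGL_pureGL i hs')]
      rfl
    exact IsStd.of_mul_right hgp.isStd (H.isStd_of_kr K hX IH (X.mul_mem hy hg) hkr')
  · intro y hy i M v w χ hv0 hv hw0 hw hMv hwM hcomm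
    refine H.isStd_of_kr K hX IH (i := i) hy ((H.pairHyp K hX i).kr_of_narrow
      (H.conj_spGL K i (H.sim y hy) fun u hu => X.mul_mem (X.mul_mem hy (H.base i u hu)) (X.inv_mem hy))
      hv0 hv hw0 hw ?_)
    set Z := (spGL i y : Matrix ((Fin t → Fin m) × Fin m) ((Fin t → Fin m) × Fin m) F)
    have hZM : Z * ((1 : Matrix (Fin t → Fin m) (Fin t → Fin m) F) ⊗ₖ M) =
        ((1 : Matrix (Fin t → Fin m) (Fin t → Fin m) F) ⊗ₖ M) * Z := by
      simp only [Z, spGL_val, ← sub_emb i M, Matrix.submatrix_mul_equiv, hcomm.eq]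
    rw [cg, hwM, show TensorLinear.con (Fin t → Fin m) (χ ᵥ* M) = TensorLinear.con (Fin t → Fin m) χ *
        ((1 : Matrix (Fin t → Fin m) (Fin t → Fin m) F) ⊗ₖ M) by
      rw [TensorLinear.con_mul_kronecker, Matrix.one_mul], Matrix.mul_assoc, ← Matrix.mul_assoc _ Z, ← hZM,
      Matrix.mul_assoc Z, eq_of_one_emb, hMv, emb_zero, Matrix.mul_zero, Matrix.mul_zero]

end Hyp

end CfsgLib.Geo.UnitWreath
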