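/-
No conjugate of an isometric root is a swap of two factors of degree three.
-/
import Cfsg.Agent.Lib.Geo.UnitWreath.Ctx
import Cfsg.Agent.Lib.Geo.TensorWreath.Weak
import Cfsg.Agent.Lib.Classical.Unitary.Structure

set_option autoImplicit false
set_option linter.unusedSectionVars false

namespace CfsgLib.Geo.UnitWreath

open Matrix CfsgLib.Geo.SpinTensor CfsgLib.Geo.TensorWreath CfsgLib.Classical.Herm
open scoped Kronecker

variable {F : Type*} [Field F] {σ : F →+* F}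

section factors

variable {t m : ℕ} {G : Matrix (Fin m) (Fin m) F}

/-- The factors of a pure similitude are similitudes. -/
theorem sim_of_pure (K : Space σ G) {gs : Fin t → GL (Fin m) F}
    (h : Sim σ (gramT G t) (pureGL gs : Matrix (Fin t → Fin m) (Fin t → Fin m) F)) (l : Fin t) :
    Sim σ G (gs l : Matrix (Fin m) (Fin m) F) := by
  cases t with
  | zero => exact l.elim0
  | succ t =>
    haveI : Nonempty (Fin t → Fin m) := card_fun_pos (by have := K.three'; omega)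
    haveI : Nonempty (Fin m) := ⟨⟨0, by have := K.three'; omega⟩⟩
    have h1 := sim_spGL (i := l) h
    rw [spGL_pureGL] at h1
    exact (Sim.factors (isGram_gramT K.gram t) K.gram h1).2

theorem sim_of_hasPerm (K : Space σ G) {g : GL (Fin t → Fin m) F} {gs : Fin t → GL (Fin m) F}
    {π : Equiv.Perm (Fin t)} (e : g = pureGL gs * permGL m F π)
    (h : Sim σ (gramT G t) (g : Matrix (Fin t → Fin m) (Fin t → Fin m) F)) (l : Fin t) :
    Sim σ G (gs l : Matrix (Fin m) (Fin m) F) := by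
  refine sim_of_pure K ?_ l
  have h1 := Sim.mul (isGram_gramT K.gram t) h (sim_perm K.gram π⁻¹).sim
  rwa [e, show perm (J := Fin m) π⁻¹ = (permGL m F π⁻¹ : Matrix (Fin t → Fin m) (Fin t → Fin m) F) from rfl,
    ← Units.val_mul, mul_assoc, permGL_mul, mul_inv_cancel, permGL_one, mul_one] at h1

theorem sim_of_fac (K : Space σ G) {l : Fin t} {B : GL (Fin m) F}
    (h : Sim σ (gramT G t) (fac l B : Matrix (Fin t → Fin m) (Fin t → Fin m) F)) :
    Sim σ G (B : Matrix (Fin m) (Fin m) F) := by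
  have := sim_of_pure K (gs := Function.update 1 l B) h l
  rwa [Function.update_self] at this

/-- Conjugates of special unitary elements by similitudes. -/
theorem SUnit.conj_sim (hG : IsGram σ G) {u : Matrix (Fin m) (Fin m) F} (hu : SUnit σ G u) {g : GL (Fin m) F}
    (hg : Sim σ G (g : Matrix (Fin m) (Fin m) F)) :
    SUnit σ G ((g : Matrix (Fin m) (Fin m) F) * u * ((g⁻¹ : GL (Fin m) F) : Matrix (Fin m) (Fin m) F)) :=
  ⟨IsIso.conj hG hg hu.1, by rw [Matrix.det_units_conj]; exact hu.2⟩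

end factors

theorem lev_zero_one : Lev 0 (1 : Matrix (Fin 3) (Fin 3) F) := by simp [Lev]

theorem lev_one {n : ℕ} (hn : n ≤ 3) : Lev n (1 : Matrix (Fin 3) (Fin 3) F) := by
  interval_cases n <;> simp [Lev]

theorem lev_mul {n : ℕ} (hn : n ≤ 3) {a b : Matrix (Fin 3) (Fin 3) F} (ha : Lev n a) (hb : Lev n b) :
    Lev n (a * b) := by
  interval_cases n
  · obtain ⟨a1, a2, a3, a4⟩ := ha
    obtain ⟨b1, b2, b3, b4⟩ := hb
    refine ⟨?_, ?_, ?_, ?_⟩ <;> simp [Matrix.mul_apply, Fin.sum_univ_three, a1, a2, a3, a4, b1, b2, b3, b4]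
  · obtain ⟨a1, a2, a3, a4, a5, a6⟩ := ha
    obtain ⟨b1, b2, b3, b4, b5, b6⟩ := hb
    refine ⟨?_, ?_, ?_, ?_, ?_, ?_⟩ <;>
      simp [Matrix.mul_apply, Fin.sum_univ_three, a1, a2, a3, a4, a5, a6, b1, b2, b3, b4, b5, b6]
  · obtain ⟨a1, a2, a3, a4, a5, a6, a7, a8⟩ := ha
    obtain ⟨b1, b2, b3, b4, b5, b6, b7, b8⟩ := hb
    refine ⟨?_, ?_, ?_, ?_, ?_, ?_, ?_, ?_⟩ <;>
      simp [Matrix.mul_apply, Fin.sum_univ_three, a1, a2, a3, a4, a5, a6, a7, a8, b1, b2, b3, b4, b5, b6, b7, b8]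
  · show a * b = 1
    rw [show a = 1 from ha, show b = 1 from hb, mul_one]

/-- A unitary equivalence of the matrices with the isometries. -/
theorem Space.exists_su_hom {β : Type} [Fintype β] [DecidableEq β] {G : Matrix β β F} (K : Space σ G) :
    ∃ φ : HU (bil σ G) →* GL β F, ∀ g x, (φ g : Matrix β β F) *ᵥ x = (g : (β → F) ≃ₗ[F] (β → F)) x := by
  refine ⟨(Matrix.GeneralLinearGroup.toLin.symm.toMonoidHom.comp
    (LinearMap.GeneralLinearGroup.generalLinearEquiv F (β → F)).symm.toMonoidHom).comp (HU (bil σ G)).subtype,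
    fun g x => ?_⟩
  show (LinearMap.toMatrix' ((g : (β → F) ≃ₗ[F] (β → F)) : (β → F) →ₗ[F] (β → F))) *ᵥ x = _
  rw [LinearMap.toMatrix'_mulVec]
  rfl

variable {X : Subgroup (GL (Fin (1 + 1) → Fin 3) F)} {G : Matrix (Fin 3) (Fin 3) F}

/-- No conjugate of an isometric root by the group is a swap of two factors of degree three. -/
theorem not_swap_two [Finite F] [CharP F 2] (C : Ctx σ G X) {r y : GL (Fin (1 + 1) → Fin 3) F}
    (hr : IsURoot σ G r) (hy : y ∈ X) {j k : Fin (1 + 1)} (h₀ : Fin (1 + 1) → GL (Fin 3) F) (hjk : j ≠ k)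
    (hx₀ : y * r * y⁻¹ = pureGL h₀ * permGL 3 F (Equiv.swap j k) * (pureGL h₀)⁻¹) : False := by
  classical
  have K := C.space
  set π := Equiv.swap j k
  set h : Fin (1 + 1) → GL (Fin 3) F := fun l => h₀ l * (h₀ k)⁻¹
  have hx : y * r * y⁻¹ = pureGL h * permGL 3 F π * (pureGL h)⁻¹ := by
    have e1 : permGL 3 F π * pureGL (fun _ => (h₀ k)⁻¹) = pureGL (fun _ => (h₀ k)⁻¹) * permGL 3 F π :=
      permGL_mul_pureGL π _
    rw [hx₀, show pureGL h = pureGL h₀ * pureGL (fun _ => (h₀ k)⁻¹) from (pureGL_mul _ _).symm, _root_.mul_inv_rev,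
      mul_assoc (pureGL h₀) (pureGL fun _ => (h₀ k)⁻¹), ← e1]
    group
  have hk1 : h k = 1 := mul_inv_cancel _
  have hΓ := isGram_gramT K.gram (1 + 1)
  have hxiso : IsIso σ (gramT G (1 + 1))
      ((y * r * y⁻¹ : GL (Fin (1 + 1) → Fin 3) F) : Matrix (Fin (1 + 1) → Fin 3) (Fin (1 + 1) → Fin 3) F) := by
    rw [Units.val_mul, Units.val_mul]
    exact IsIso.conj hΓ (C.hyp.sim y hy) hr.2
  have hsim : ∀ l, Sim σ G (h l : Matrix (Fin 3) (Fin 3) F) := by
    intro l
    by_cases hl : l = k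
    · rw [hl, hk1, Units.val_one]
      exact IsIso.sim (IsIso.one K.gram)
    obtain rfl : l = j := by omega
    have e1 : y * r * y⁻¹ = pureGL (fun l => h l * (h (π⁻¹ l))⁻¹) * permGL 3 F π := by
      rw [hx, mul_assoc, pureGL_inv, permGL_mul_pureGL, ← mul_assoc, pureGL_mul]
      rfl
    have h2 := sim_of_hasPerm K e1 hxiso.sim l
    rwa [show π⁻¹ l = k by simp [π], hk1, inv_one, mul_one] at h2
  obtain ⟨φ, hφ⟩ := K.exists_su_hom
  set Γ := (HSU (bil σ G)).map φ
  have hex3 : Module.finrank F (Fin 3 → F) = 3 → Nat.card (fixedSub σ) ≠ 2 := fun _ h2 => by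
    have := K.four h2
    simp at this
  have hperf : ⁅Γ, Γ⁆ = Γ := by
    rw [← Subgroup.map_commutator]
    congr 1
    have h1 := congrArg (Subgroup.map (HSU (bil σ G)).subtype) (K.herm.HSU_le_commutator K.finrank_three hex3)
    rwa [commutator_def, Subgroup.map_commutator, ← MonoidHom.range_eq_map, Subgroup.range_subtype] at h1
  have hsu : ∀ u ∈ Γ, SUnit σ G (u : Matrix (Fin 3) (Fin 3) F) := by
    rintro _ ⟨g, hg, rfl⟩
    obtain ⟨u, hu, hu'⟩ := K.exists_su (g := g) (by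
      rw [K.herm.trGroup_eq (by have := K.finrank_three; omega) hex3]; exact hg)
    rwa [show (φ g : Matrix (Fin 3) (Fin 3) F) = u from ext_mulVec fun x => by rw [hφ, hu']]
  set Ψ : GL (Fin 3) F →* GL (Fin (1 + 1) → Fin 3) F :=
    (MulAut.conj (y⁻¹ * pureGL h)).toMonoidHom.comp (diagHom 3 (1 + 1) F)
  have hΨ : ∀ u, Ψ u = y⁻¹ * (pureGL h * diagHom 3 (1 + 1) F u * (pureGL h)⁻¹) * y := fun u => by
    show y⁻¹ * pureGL h * _ * (y⁻¹ * pureGL h)⁻¹ = _
    group
  obtain ⟨i, v, ψ, hψv, hv, hψ, er⟩ := hr.1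
  have er' : r = rootGL i v ψ hψv := Units.ext er
  obtain ⟨P, hP⟩ := exists_frame hψv hv hψ
  have hstd : ∀ u ∈ Γ, ∃ gs : Fin (1 + 1) → GL (Fin 3) F,
      Ψ u = pureGL gs ∧ Lev 0 ((P⁻¹ * gs i * P : GL (Fin 3) F) : Matrix (Fin 3) (Fin 3) F) := by
    intro u hu
    have hD : pureGL h * diagHom 3 (1 + 1) F u * (pureGL h)⁻¹ ∈ X := by
      have hmem : ∀ l, fac l (h l * u * (h l)⁻¹) ∈ X := fun l => by
        have h1 := SUnit.conj_sim K.gram (hsu u hu) (hsim l)
        have := C.hyp.base l _ h1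
        rwa [show h1.gl = h l * u * (h l)⁻¹ from Units.ext rfl] at this
      have e : pureGL h * diagHom 3 (1 + 1) F u * (pureGL h)⁻¹ =
          fac (0 : Fin (1 + 1)) (h 0 * u * (h 0)⁻¹) * fac (1 : Fin (1 + 1)) (h 1 * u * (h 1)⁻¹) := by
        show pureGL h * pureGL (fun _ => u) * (pureGL h)⁻¹ = pureGL _ * pureGL _
        rw [pureGL_inv, pureGL_mul, pureGL_mul, pureGL_mul]
        congr 1
        funext l
        fin_cases l <;> simp
      rw [e]
      exact X.mul_mem (hmem 0) (hmem 1)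
    have hmem : Ψ u ∈ X := by rw [hΨ]; exact X.mul_mem (X.mul_mem (X.inv_mem hy) hD) hy
    have hfix : Ψ u * r * (Ψ u)⁻¹ = r := by
      have hc : diagHom 3 (1 + 1) F u * permGL 3 F π * (diagHom 3 (1 + 1) F u)⁻¹ = permGL 3 F π := by
        rw [mul_inv_eq_iff_eq_mul]
        exact (permGL_mul_pureGL π fun _ => u).symm
      have hr' : r = y⁻¹ * (pureGL h * permGL 3 F π * (pureGL h)⁻¹) * y := by rw [← hx]; group
      calc Ψ u * r * (Ψ u)⁻¹ = y⁻¹ * pureGL h * (diagHom 3 (1 + 1) F u * permGL 3 F π *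
            (diagHom 3 (1 + 1) F u)⁻¹) * (pureGL h)⁻¹ * y := by rw [hΨ, hr']; group
        _ = r := by rw [hc, hr']; group
    obtain ⟨gs, ρ, e⟩ := C.root_map _ hmem r hr (by rw [hfix]; exact hr)
    rw [er', conj_rootGL e hψv] at hfix
    obtain ⟨hi, hvec⟩ := rootMat_eq (le_refl 3) hψv hv hψ (congrArg Units.val hfix).symm
    have hρ : ρ = 1 := by
      refine Equiv.ext fun l => ?_
      by_cases hl : l = i
      · rw [hl, ← hi, Equiv.Perm.one_apply]
      · by_contra hne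
        have h1 : ρ l ≠ i := fun e' => hl (ρ.injective (e'.trans hi))
        rw [Equiv.Perm.one_apply] at hne
        omega
    refine ⟨gs, Units.ext (by rw [e, hρ, perm_one, mul_one]; rfl), ?_⟩
    rw [← hi, ← Matrix.vecMulVec_mul, ← Matrix.mul_vecMulVec] at hvec
    refine lev_zero_of_commute ?_
    have hcomm : (gs i : Matrix (Fin 3) (Fin 3) F) * Matrix.vecMulVec v ψ =
        Matrix.vecMulVec v ψ * (gs i : Matrix (Fin 3) (Fin 3) F) := by
      conv_rhs => rw [hvec, mul_assoc, Units.inv_mul, mul_one]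
    have hP' : Matrix.single 0 2 1 = ((P⁻¹ : GL (Fin 3) F) : Matrix (Fin 3) (Fin 3) F) *
        (Matrix.vecMulVec v ψ * (P : Matrix (Fin 3) (Fin 3) F)) := by
      rw [hP, ← mul_assoc, Units.inv_mul, one_mul]
    rw [Units.val_mul, Units.val_mul, hP']
    simp only [mul_assoc]
    rw [← mul_assoc (P : Matrix (Fin 3) (Fin 3) F) _ (_ * _), Units.mul_inv, one_mul,
      ← mul_assoc (P : Matrix (Fin 3) (Fin 3) F) _ (_ * _), Units.mul_inv, one_mul,
      ← mul_assoc (gs i : Matrix (Fin 3) (Fin 3) F), hcomm, mul_assoc]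
  set S : ℕ → Set (GL (Fin (1 + 1) → Fin 3) F) := fun n =>
    {g | ∃ gs : Fin (1 + 1) → GL (Fin 3) F, g = pureGL gs ∧
      Lev n ((P⁻¹ * gs i * P : GL (Fin 3) F) : Matrix (Fin 3) (Fin 3) F)}
  have hS1 : ∀ n ≤ 3, (1 : GL (Fin (1 + 1) → Fin 3) F) ∈ S n := fun n hn =>
    ⟨1, pureGL_one.symm, by simp; exact lev_one hn⟩
  have hSmul : ∀ n ≤ 3, ∀ a ∈ S n, ∀ b ∈ S n, a * b ∈ S n := by
    rintro n hn _ ⟨as, rfl, la⟩ _ ⟨bs, rfl, lb⟩
    refine ⟨as * bs, pureGL_mul _ _, ?_⟩
    rw [Pi.mul_apply, show P⁻¹ * (as i * bs i) * P = (P⁻¹ * as i * P) * (P⁻¹ * bs i * P) by group, Units.val_mul]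
    exact lev_mul hn la lb
  have hSinv : ∀ n ≤ 3, ∀ a ∈ S n, a⁻¹ ∈ S n := by
    intro n hn a ha
    have hp : ∀ k : ℕ, a ^ k ∈ S n := by
      intro k
      induction k with
      | zero => rw [pow_zero]; exact hS1 n hn
      | succ k ih => rw [pow_succ]; exact hSmul n hn _ ih _ ha
    obtain ⟨k, hk⟩ : ∃ k : ℕ, a⁻¹ = a ^ k := ⟨orderOf a - 1, inv_eq_of_mul_eq_one_right (by
      rw [← pow_succ', Nat.sub_add_cancel (orderOf_pos a), pow_orderOf_eq_one])⟩
    rw [hk]
    exact hp k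
  have hlev : ∀ n ≤ 3, ∀ u ∈ Γ, Ψ u ∈ S n := by
    intro n
    induction n with
    | zero => exact fun _ => hstd
    | succ n ih =>
      intro hn u hu
      let L : Subgroup (GL (Fin 3) F) :=
        { carrier := {w | Ψ w ∈ S (n + 1)}
          one_mem' := by show Ψ 1 ∈ S (n + 1); rw [map_one]; exact hS1 _ hn
          mul_mem' := fun {a b} ha hb => by show Ψ (a * b) ∈ S (n + 1); rw [map_mul]; exact hSmul _ hn _ ha _ hb
          inv_mem' := fun {a} ha => by show Ψ a⁻¹ ∈ S (n + 1); rw [map_inv]; exact hSinv _ hn _ ha }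
      have hle : ⁅Γ, Γ⁆ ≤ L := by
        rw [Subgroup.commutator_le]
        intro a ha b hb
        obtain ⟨as, ea, la⟩ := ih (by omega) a ha
        obtain ⟨bs, eb, lb⟩ := ih (by omega) b hb
        refine ⟨as * bs * as⁻¹ * bs⁻¹, ?_, ?_⟩
        · rw [commutatorElement_def, map_mul, map_mul, map_mul, map_inv, map_inv, ea, eb, pureGL_inv, pureGL_inv,
            pureGL_mul, pureGL_mul, pureGL_mul]
        · rw [show P⁻¹ * (as * bs * as⁻¹ * bs⁻¹) i * P = (P⁻¹ * as i * P) * (P⁻¹ * bs i * P) *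
            (P⁻¹ * as i * P)⁻¹ * (P⁻¹ * bs i * P)⁻¹ by simp only [Pi.mul_apply, Pi.inv_apply]; group]
          exact lev_commutator (by omega) la lb
      exact hle (hperf.symm ▸ hu)
  -- a transvection
  obtain ⟨e, he0, he⟩ := K.exists_isotropic
  obtain ⟨f, hef, hfe, hff, -⟩ := K.exists_partner he0 he
  obtain ⟨z, hez, hfz, hzz⟩ := K.exists_norm_perp_pair he hef (map_one σ)
  obtain ⟨c, hc0, hc⟩ := K.herm.exists_skew
  set T := K.herm.tr (show bil σ G e e = 0 from he) hc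
  have hTΓ : φ T ∈ Γ := Subgroup.mem_map_of_mem _ (K.herm.trGroup_le (K.herm.tr_mem _ hc))
  have hTx : ∀ x, (φ T : Matrix (Fin 3) (Fin 3) F) *ᵥ x = x + (c * ip σ G e x) • e := fun x => by
    rw [hφ]; exact K.herm.tr_apply _ hc x
  obtain ⟨gs, egs, hgs⟩ := hlev 3 le_rfl _ hTΓ
  have hgi : gs i = 1 := by
    have h1 : P⁻¹ * gs i * P = 1 := Units.ext hgs
    rw [show gs i = P * (P⁻¹ * gs i * P) * P⁻¹ by group, h1]
    group
  obtain ⟨i', hi'⟩ : ∃ i' : Fin (1 + 1), i' ≠ i := exists_ne i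
  have hemb : (Ψ (φ T) : Matrix (Fin (1 + 1) → Fin 3) (Fin (1 + 1) → Fin 3) F) =
      SpinTensor.emb i' (gs i' : Matrix (Fin 3) (Fin 3) F) := by
    rw [egs, emb_eq_pure]
    show SpinTensor.pure (fun l => ((gs l : GL (Fin 3) F) : Matrix (Fin 3) (Fin 3) F)) = _
    congr 1
    funext l
    by_cases hl : l = i'
    · subst hl; simp
    · obtain rfl : l = i := by omega
      rw [Function.update_of_ne hl, hgi, Units.val_one]
  set Bm := (gs i' : Matrix (Fin 3) (Fin 3) F) - 1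
  set Z := y⁻¹ * pureGL h
  set D := (diagHom 3 (1 + 1) F (φ T) : Matrix (Fin (1 + 1) → Fin 3) (Fin (1 + 1) → Fin 3) F)
  have hconj : SpinTensor.emb i' Bm = (Z : Matrix (Fin (1 + 1) → Fin 3) (Fin (1 + 1) → Fin 3) F) * (D - 1) *
      ((Z⁻¹ : GL (Fin (1 + 1) → Fin 3) F) : Matrix (Fin (1 + 1) → Fin 3) (Fin (1 + 1) → Fin 3) F) := by
    rw [map_sub, emb_one, ← hemb, mul_sub, mul_one, sub_mul, Units.mul_inv, ← Units.val_mul, ← Units.val_mul]
    rfl
  -- the square vanishes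
  have hD : ∀ ξ : Fin (1 + 1) → Fin 3 → F, D *ᵥ pvec ξ = pvec fun l => ξ l + (c * ip σ G e (ξ l)) • e := fun ξ => by
    show SpinTensor.pure (fun _ => (φ T : Matrix (Fin 3) (Fin 3) F)) *ᵥ pvec ξ = _
    rw [pure_mulVec]
    simp only [hTx]
  have hD2 : (D - 1) * (D - 1) = 0 := by
    have h1 : D * D = 1 := by
      show SpinTensor.pure (fun _ => (φ T : Matrix (Fin 3) (Fin 3) F)) *
        SpinTensor.pure (fun _ => (φ T : Matrix (Fin 3) (Fin 3) F)) = 1
      rw [pure_mul, ← pure_one]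
      congr 1
      funext _
      refine ext_mulVec fun x => ?_
      rw [← Matrix.mulVec_mulVec, hTx, hTx, Matrix.one_mulVec, ip_add_right, ip_smul_right, he, mul_zero, add_zero,
        add_assoc, ← add_smul, CharTwo.add_self_eq_zero, zero_smul, add_zero]
    rw [sub_mul, mul_sub, h1, mul_one, one_mul]
    ext a b
    simp only [Matrix.sub_apply, Matrix.zero_apply]
    linear_combination ((1 : Matrix (Fin (1 + 1) → Fin 3) (Fin (1 + 1) → Fin 3) F) a b - D a b) *
      (CharTwo.two_eq_zero (R := F))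
  have hB2 : Bm * Bm = 0 := emb_injective le_rfl i' (by
    rw [map_zero, ← emb_mul_emb, hconj]
    simp only [mul_assoc]
    rw [← mul_assoc ((Z⁻¹ : GL (Fin (1 + 1) → Fin 3) F) :
        Matrix (Fin (1 + 1) → Fin 3) (Fin (1 + 1) → Fin 3) F) (Z : Matrix (Fin (1 + 1) → Fin 3) (Fin (1 + 1) → Fin 3) F),
      Units.inv_mul, one_mul,
      ← mul_assoc (D - 1) (D - 1), hD2, zero_mul, mul_zero])
  obtain ⟨a, b, hab⟩ : ∃ a b : Fin 3 → F, Bm = vecMulVec a b := by
    have hle : LinearMap.range Bm.mulVecLin ≤ LinearMap.ker Bm.mulVecLin := by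
      rintro _ ⟨x, rfl⟩
      rw [LinearMap.mem_ker, Matrix.mulVecLin_apply, Matrix.mulVecLin_apply, Matrix.mulVec_mulVec, hB2,
        Matrix.zero_mulVec]
    have h1 := LinearMap.finrank_range_add_finrank_ker Bm.mulVecLin
    have h2 := Submodule.finrank_mono hle
    rw [Module.finrank_fintype_fun_eq_card, Fintype.card_fin] at h1
    obtain ⟨a, ha⟩ := finrank_le_one_iff.1 (show Module.finrank F (LinearMap.range Bm.mulVecLin) ≤ 1 by omega)
    choose b hb using fun q : Fin 3 => ha ⟨Bm.mulVecLin (Pi.single q 1), LinearMap.mem_range_self _ _⟩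
    refine ⟨(a : Fin 3 → F), b, Matrix.ext fun p q => ?_⟩
    have := congrFun (congrArg Subtype.val (hb q)) p
    simp [Matrix.mulVec_single_one] at this
    rw [Matrix.vecMulVec_apply, mul_comm]
    exact this.symm
  have hupper : (D - 1).rank ≤ 3 := by
    have h1 : D - 1 = ((Z⁻¹ : GL (Fin (1 + 1) → Fin 3) F) : Matrix _ _ F) * SpinTensor.emb i' Bm *
        (Z : Matrix _ _ F) := by
      rw [hconj]
      simp only [mul_assoc, Units.inv_mul, mul_one]
      rw [← mul_assoc, Units.inv_mul, one_mul]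
    rw [h1]
    refine ((Matrix.rank_mul_le_left _ _).trans (Matrix.rank_mul_le_right _ _)).trans ?_
    rw [← Matrix.rank_submatrix _ (sp i') (sp i'), sub_emb, hab, TensorLinear.one_kronecker_vecMulVec]
    refine (Matrix.rank_mul_le_left _ _).trans ((Matrix.rank_le_card_width _).trans ?_)
    simp
  -- four independent images
  let W : Fin 4 → (Fin (1 + 1) → Fin 3 → F) := ![![f, e], ![f, z], ![z, f], ![f, f]]
  have hlower : 4 ≤ (D - 1).rank := by
    have hpair : ∀ (χ ξ : Fin (1 + 1) → Fin 3 → F),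
        ∑ z, pvec χ z * pvec ξ z = (χ 0 ⬝ᵥ ξ 0) * (χ 1 ⬝ᵥ ξ 1) := by
      intro χ ξ
      simp only [pvec, dotProduct, ← Finset.prod_mul_distrib]
      rw [← Fintype.prod_sum (f := fun l p => χ l p * ξ l p)]
      exact Fin.prod_univ_two _
    let L : (Fin 4 → F) →ₗ[F] ((Fin (1 + 1) → Fin 3) → F) := Fintype.linearCombination F fun a => pvec (W a)
    have := le_rank_of_injective (k := Fin 3) (D - 1) L ((injective_iff_map_eq_zero _).2 fun q hq => by
      rw [LinearMap.comp_apply, Matrix.mulVecLin_apply, Fintype.linearCombination_apply, Matrix.mulVec_sum] at hq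
      simp only [Matrix.mulVec_smul, Matrix.sub_mulVec, Matrix.one_mulVec, hD] at hq
      have key := fun χ : Fin (1 + 1) → Fin 3 → F => congrArg (fun w => pvec χ ⬝ᵥ w) hq
      simp only [Fin.sum_univ_four, dotProduct_add, dotProduct_smul, dotProduct_sub, dotProduct_zero,
        smul_eq_mul] at key
      have hzf : ip σ G z f = 0 := K.gram.ip_eq_zero_symm hfz
      have hze : ip σ G z e = 0 := K.gram.ip_eq_zero_symm hez
      have k3 := key ![phi σ G f, phi σ G e]
      have k1 := key ![phi σ G f, phi σ G z]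
      have k2 := key ![phi σ G z, phi σ G f]
      have k0 := key ![phi σ G f, phi σ G f]
      have hp' : ∀ (χ ξ : Fin (1 + 1) → Fin 3 → F), pvec χ ⬝ᵥ pvec ξ = (χ 0 ⬝ᵥ ξ 0) * (χ 1 ⬝ᵥ ξ 1) := hpair
      erw [hp', hp', hp', hp', hp', hp', hp', hp'] at k0 k1 k2 k3
      simp [W, phi_dot, ip_add_right, ip_smul_right, he, hef, hfe, hff, hez, hfz, hzz, hzf, hze] at k0 k1 k2 k3
      funext a
      have h3 : q 3 = 0 := k3.resolve_right hc0
      have h1 : q 1 = 0 := k1.resolve_right hc0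
      have h2 : q 2 = 0 := k2.resolve_right hc0
      have h0 : q 0 = 0 := by
        simp [h3] at k0
        exact k0.resolve_right hc0
      fin_cases a <;> assumption)
    simpa using this
  omega

end CfsgLib.Geo.UnitWreath
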