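/-
Isometric roots are weakly closed.
-/
import Cfsg.Agent.Lib.Geo.UnitWreath.Swap

set_option autoImplicit false
set_option linter.unusedSectionVars false

namespace CfsgLib.Geo.UnitWreath

open Matrix CfsgLib.Geo.SpinTensor CfsgLib.Geo.TensorWreath CfsgLib.Classical.Herm
open scoped Kronecker

variable {F : Type*} [Field F] {σ : F →+* F} {t m : ℕ} {G : Matrix (Fin m) (Fin m) F}

theorem trv_mul {w : Fin m → F} (hw : ip σ G w w = 0) (c d : F) :
    UnitWreath.trv σ G w c * UnitWreath.trv σ G w d = UnitWreath.trv σ G w (c + d) := by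
  rw [UnitWreath.trv, UnitWreath.trv, UnitWreath.trv, mul_add, mul_one, add_mul, one_mul, smul_mul_smul_comm,
    sqr_mul_self, hw, zero_smul, smul_zero, add_zero, add_smul, add_assoc]

theorem Space.exists_fixed_ne [Finite F] {β : Type} [Fintype β] [DecidableEq β] {G : Matrix β β F}
    (K : Space σ G) (hq : Nat.card (fixedSub σ) ≠ 2) : ∃ l : F, l ≠ 0 ∧ l ≠ 1 ∧ σ l = l := by
  by_contra! hh
  refine hq (Nat.card_eq_two_iff.2 ⟨0, 1, zero_ne_one, Set.eq_univ_of_forall fun x => ?_⟩)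
  rcases eq_or_ne x 0 with h0 | h0
  · exact Or.inl h0
  rcases eq_or_ne x 1 with h1 | h1
  · exact Or.inr h1
  exact absurd x.2 (hh x (fun e => h0 (Subtype.ext e)) (fun e => h1 (Subtype.ext e)))

variable {X : Subgroup (GL (Fin (t + 1) → Fin m) F)}

/-- A standard conjugate of an isometric root by the group is an isometric root. -/
theorem isURoot_of_conj [Finite F] (C : Ctx σ G X) {r y : GL (Fin (t + 1) → Fin m) F} (hr : IsURoot σ G r)
    (hy : y ∈ X) (hx : IsStd (y * r * y⁻¹)) : IsURoot σ G (y * r * y⁻¹) := by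
  classical
  have K := C.space
  have hΓ := isGram_gramT K.gram (t + 1)
  refine ⟨?_, by rw [Units.val_mul, Units.val_mul]; exact IsIso.conj hΓ (C.hyp.sim y hy) hr.2⟩
  obtain ⟨π, hπ⟩ := hx.hasPerm
  have hm := K.three'
  rcases eq_or_ne (2 : F) 0 with h2 | h2
  swap
  · obtain ⟨gs, e⟩ := hπ
    obtain rfl := perm_eq_one_of_sq hm h2 (conj_sub_sq hr.1) e
    exact isRoot_of_conj_pure hm hr.1 ⟨gs, e⟩
  haveI : CharP F 2 := CharTwo.of_one_ne_zero_of_two_eq_zero one_ne_zero h2
  rcases conj_cases hm hr.1 hx with h | ⟨rfl, j, k, h, hjk, e⟩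
  · exact h
  by_contra hno
  rcases Nat.lt_or_ge t 2 with ht | ht
  · obtain rfl : t = 1 := by have := C.two; omega
    exact not_swap_two C hr hy h hjk e
  obtain ⟨l, -, hl⟩ := Finset.exists_mem_notMem_of_card_lt_card (s := ({j, k} : Finset (Fin (t + 1))))
    (t := Finset.univ) (lt_of_le_of_lt Finset.card_le_two (by rw [Finset.card_univ, Fintype.card_fin]; omega))
  simp only [Finset.mem_insert, Finset.mem_singleton, not_or] at hl
  obtain ⟨lam, hl0, hl1, hls⟩ := K.exists_fixed_ne fun hq => by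
    have := K.four hq; simp at this
  obtain ⟨v, hv0, hv⟩ := K.exists_isotropic
  have key : ∀ c : F, c ≠ 0 → ∀ hs : c + σ c = 0, ∃ a b : Fin (t + 1), a ≠ b ∧
        HasPerm (y⁻¹ * fac l (K.trv_su hv hs).gl * y) (Equiv.swap a b) := by
    intro c hc hs
    have hE := exists_uroot (t := t + 1) K hv0 hv hc hs l
    set e' := fac l (K.trv_su hv hs).gl
    set f := y⁻¹ * e' * y
    have hfX : f ∈ X := X.mul_mem (X.mul_mem (X.inv_mem hy) (C.hyp.base l _ _)) hy
    have e1 : y * r * y⁻¹ = pureGL (fun q => h q * (h ((Equiv.swap j k)⁻¹ q))⁻¹) *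
        permGL 3 F (Equiv.swap j k) := by
      rw [e, mul_assoc, pureGL_inv, permGL_mul_pureGL, ← mul_assoc, pureGL_mul]
      rfl
    have hcomm : (y * r * y⁻¹) * e' * (y * r * y⁻¹)⁻¹ = e' := by
      rw [conj_fac e1, Equiv.swap_apply_of_ne_of_ne hl.1 hl.2]
      simp only [Equiv.swap_inv, Equiv.swap_apply_of_ne_of_ne hl.1 hl.2, mul_inv_cancel, one_mul, inv_one, mul_one]
      rfl
    have hfix : f * r * f⁻¹ = r := by
      calc f * r * f⁻¹ = y⁻¹ * (e' * (y * r * y⁻¹) * e'⁻¹) * y := by simp only [f]; group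
        _ = y⁻¹ * (((y * r * y⁻¹) * e' * (y * r * y⁻¹)⁻¹) * (y * r * y⁻¹) * e'⁻¹) * y := by rw [hcomm]
        _ = r := by group
    have hfs : IsStd f := C.root_map f hfX r hr (by rw [hfix]; exact hr)
    have hf' : f = y⁻¹ * e' * y⁻¹⁻¹ := by rw [inv_inv]
    rw [hf'] at hfs
    rcases conj_cases le_rfl hE.1 hfs with hfr | ⟨-, a, b, g, hab, eg⟩
    · rw [← hf'] at hfr
      have hfu : IsURoot σ G f := ⟨hfr, by
        rw [hf', Units.val_mul, Units.val_mul]
        exact IsIso.conj hΓ (Sim.inv hΓ (C.hyp.sim y hy)) hE.2⟩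
      have hys := C.root_map y hy f hfu (by
        rw [show y * f * y⁻¹ = e' by simp only [f]; group]; exact hE)
      exact absurd (hr.1.conj hys) hno
    · refine ⟨a, b, hab, ?_⟩
      show HasPerm f _
      rw [hf', eg]
      have := ((hasPerm_pureGL g).mul (hasPerm_permGL (F := F) (m := 3) (Equiv.swap a b))).mul (hasPerm_pureGL g).inv
      rwa [one_mul, inv_one, mul_one] at this
  have hskew : ∀ c : F, σ c = c → c + σ c = 0 := fun c hc => by rw [hc, CharTwo.add_self_eq_zero]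
  have d1 := hskew 1 (map_one σ)
  have d2 := hskew lam hls
  have d3 := hskew (1 + lam) (by rw [map_add, map_one, hls])
  obtain ⟨a1, b1, h1, p1⟩ := key 1 one_ne_zero d1
  obtain ⟨a2, b2, h2', p2⟩ := key lam hl0 d2
  obtain ⟨a3, b3, h3, p3⟩ := key (1 + lam) (fun h0 => hl1 (CharTwo.add_eq_zero.1 h0).symm) d3
  have hmul : fac l (K.trv_su hv d1).gl * fac l (K.trv_su hv d2).gl = fac l (K.trv_su hv d3).gl := by
    rw [← map_mul]
    exact congrArg _ (Units.ext (trv_mul hv _ _))
  have p12 := p1.mul p2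
  rw [show ∀ E₁ E₂ : GL (Fin (t + 1) → Fin 3) F, y⁻¹ * E₁ * y *
      (y⁻¹ * E₂ * y) = y⁻¹ * (E₁ * E₂) * y from fun E₁ E₂ => by group, hmul] at p12
  have := congrArg Equiv.Perm.sign (p12.unique le_rfl p3)
  rw [map_mul, Equiv.Perm.sign_swap h1, Equiv.Perm.sign_swap h2', Equiv.Perm.sign_swap h3] at this
  exact absurd this (by decide)

/-- An element of the group sending an isometric root to a standard element is standard. -/
theorem isStd_of_conj_root [Finite F] (C : Ctx σ G X) {r y : GL (Fin (t + 1) → Fin m) F} (hr : IsURoot σ G r)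
    (hy : y ∈ X) (hx : IsStd (y * r * y⁻¹)) : IsStd y :=
  C.root_map y hy r hr (isURoot_of_conj C hr hy hx)

end CfsgLib.Geo.UnitWreath
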