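/-
Overgroups in odd characteristic.
-/
import Cfsg.Agent.Lib.Geo.UnitWreath.Weak
import Cfsg.Agent.Lib.Geo.TensorWreath.Odd

set_option autoImplicit false
set_option linter.unusedSectionVars false

namespace CfsgLib.Geo.UnitWreath

open Matrix CfsgLib.Geo.SpinTensor CfsgLib.Geo.TensorWreath CfsgLib.Classical.Herm
open scoped Kronecker

variable {F : Type*} [Field F] [Fintype F] {σ : F →+* F} {t m : ℕ} {G : Matrix (Fin m) (Fin m) F}
variable {X : Subgroup (GL (Fin (t + 1) → Fin m) F)}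

/-- A `p`-group of the overgroup containing a root is standard. -/
theorem std_of_pGroup (C : Ctx σ G X) {p : ℕ} [Fact p.Prime] {P : Subgroup (GL (Fin (t + 1) → Fin m) F)}
    (hP : IsPGroup p P) (hPX : P ≤ X) {r : GL (Fin (t + 1) → Fin m) F} (hr : IsURoot σ G r) (hrP : r ∈ P) :
    ∀ z ∈ P, IsStd z := by
  classical
  haveI := hP.isNilpotent
  set Q := (Cfsg.Geo.tensorWreathStandard m (t + 1) F).subgroupOf P
  by_contra! h
  obtain ⟨z, hzP, hz⟩ := h
  have hQ : Q < ⊤ := lt_top_iff_ne_top.2 fun h => hz (mem_std_iff.1 (by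
    have : (⟨z, hzP⟩ : P) ∈ Q := h ▸ Subgroup.mem_top _
    exact Subgroup.mem_subgroupOf.1 this))
  obtain ⟨w, hw, hwQ⟩ := SetLike.exists_of_lt (normalizerCondition_of_isNilpotent (G := P) Q hQ)
  refine hwQ (Subgroup.mem_subgroupOf.2 (mem_std_iff.2 (isStd_of_conj_root C hr (hPX w.2) ?_)))
  exact mem_std_iff.1 (Subgroup.mem_subgroupOf.1
    ((Subgroup.mem_normalizer_iff.1 hw ⟨r, hrP⟩).1 (Subgroup.mem_subgroupOf.2 (mem_std_iff.2 hr.isStd))))

/-- A self-adjoint involution on a factor, fixing a given isotropic vector, commutes with a non-standard element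
of degree two. -/
theorem exists_reflect (C : Ctx σ G X) (h2 : (2 : F) ≠ 0) {s : GL (Fin (t + 1) → Fin m) F} (hsX : s ∈ X)
    (hs : ¬ IsStd s)
    (hb : ((s : Matrix (Fin (t + 1) → Fin m) (Fin (t + 1) → Fin m) F) - 1) *
      ((s : Matrix (Fin (t + 1) → Fin m) (Fin (t + 1) → Fin m) F) - 1) = 0)
    (i : Fin (t + 1)) {v : Fin m → F} (hv : v ≠ 0) (hvv : ip σ G v v = 0) :
    ∃ B : Matrix (Fin m) (Fin m) F, B * B = 1 ∧ B ≠ 1 ∧ B *ᵥ v = v ∧ adj σ G G B = B ∧
      phi σ G v ᵥ* B = phi σ G v ∧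
      Commute (s : Matrix (Fin (t + 1) → Fin m) (Fin (t + 1) → Fin m) F) (SpinTensor.emb i B) := by
  classical
  have K := C.space
  have hm := K.three'
  haveI : NeZero m := ⟨by omega⟩
  obtain ⟨c, hc0, hcs'⟩ := K.inv.exists_skew
  have hcs : c + σ c = 0 := by rw [hcs', add_neg_cancel]
  set φ : Fin m → F := c • phi σ G v
  have hφ : φ ≠ 0 := smul_ne_zero hc0 (K.gram.phi_ne_zero hv)
  have hφv : φ ⬝ᵥ v = 0 := by rw [smul_dotProduct, phi_dot, hvv, smul_zero]
  have hur := exists_uroot (t := t + 1) K hv hvv hc0 hcs i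
  set r := rootGL i v φ hφv
  have er : r = fac i (K.trv_su hvv hcs).gl := Units.ext (by
    rw [val_fac, rootGL_val, rootMat_eq_emb]
    show SpinTensor.emb i _ = SpinTensor.emb i (1 + c • sqr σ G v)
    rw [Matrix.vecMulVec_smul]
    rfl)
  have hru : IsURoot σ G r := er ▸ hur
  have hr : IsRoot r := hru.1
  have hrX : r ∈ X := er ▸ C.hyp.base i _ _
  set a := (r : Matrix (Fin (t + 1) → Fin m) (Fin (t + 1) → Fin m) F) - 1
  set b := (s : Matrix (Fin (t + 1) → Fin m) (Fin (t + 1) → Fin m) F) - 1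
  have ha : a * a = 0 := hr.mul_self
  have har : (r : Matrix (Fin (t + 1) → Fin m) (Fin (t + 1) → Fin m) F) = 1 + a := by simp [a]
  have hbs : (s : Matrix (Fin (t + 1) → Fin m) (Fin (t + 1) → Fin m) F) = 1 + b := by simp [b]
  have hGX : Subgroup.closure {r, s} ≤ X := (Subgroup.closure_le X).2 (by
    rintro x (rfl | rfl) <;> assumption)
  set p := ringChar F
  haveI : Fact p.Prime := ⟨CharP.char_is_prime F p⟩
  have hK : ¬ IsNilpotent (a * b + b * a) := fun h => hs (std_of_pGroup C (isPGroup_of_nilpotent ha hb har hbs p h) hGX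
    hru (Subgroup.subset_closure (Set.mem_insert _ _)) s (Subgroup.subset_closure (Set.mem_insert_of_mem _ rfl)))
  haveI : Fact (Nat.Prime 2) := ⟨Nat.prime_two⟩
  obtain ⟨u₀, hu₀⟩ := exists_prime_orderOf_dvd_card' 2 (even_card_of_eigen ha hb har hbs hK)
  set u : GL (Fin (t + 1) → Fin m) F := (u₀ : GL (Fin (t + 1) → Fin m) F)
  have huo : orderOf u = 2 := by rw [← hu₀]; exact Subgroup.orderOf_coe u₀
  have huu : u * u = 1 := by rw [← pow_two, ← huo, pow_orderOf_eq_one]
  have hu1 : u ≠ 1 := fun h => by rw [h, orderOf_one] at huo; omega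
  obtain ⟨P, hP0, hP⟩ := involution_eq ha hb har hbs h2 u₀.2 huu
  have hua : Commute (u : Matrix (Fin (t + 1) → Fin m) (Fin (t + 1) → Fin m) F) a := by
    rw [hP]; exact (commute_inK_left ha P).symm
  have hub : Commute (u : Matrix (Fin (t + 1) → Fin m) (Fin (t + 1) → Fin m) F) b := by
    rw [hP]; exact (commute_inK_right hb P).symm
  have huX : u ∈ X := hGX u₀.2
  have hfix : u * r * u⁻¹ = r := by
    rw [mul_inv_eq_iff_eq_mul]
    refine Units.ext ?_
    rw [Units.val_mul, Units.val_mul, har, mul_add, mul_one, add_mul, one_mul, hua.eq]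
  obtain ⟨A, B, hAB, hBv, hφB⟩ :=
    split_of_fix_root hm (C.root_map u huX r hru (by rw [hfix]; exact hru)) hφv hv hφ hfix
  obtain ⟨Q, hQ⟩ : Polynomial.X ∣ P - 1 := by
    rw [Polynomial.X_dvd_iff, Polynomial.coeff_zero_eq_eval_zero, Polynomial.eval_sub, Polynomial.eval_one, hP0,
      sub_self]
  have hQu : (u : Matrix (Fin (t + 1) → Fin m) (Fin (t + 1) → Fin m) F) - 1 = (a * b + b * a) * inK a b Q := by
    rw [hP, ← map_one (inK a b), ← map_sub, hQ, map_mul, inK_X]
  -- the vectors negated by `u` and killed by `a` are on the line of the root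
  have hD : ∀ (w : (Fin t → Fin m) → F) (x : Fin m → F), φ ⬝ᵥ x = 0 →
      (A ⊗ₖ B) *ᵥ TensorLinear.pt w x = -TensorLinear.pt w x → w ≠ 0 → ∃ d : F, x = d • v := by
    intro w x hφx hux hw
    by_contra! hxv
    obtain ⟨χ, hχv, hχx⟩ := exists_kill_first hxv
    set W : (Fin (t + 1) → Fin m) → F := TensorLinear.pt w x ∘ (sp i).symm
    have hsub : ∀ M : Matrix (Fin (t + 1) → Fin m) (Fin (t + 1) → Fin m) F, ∀ z,
        (M *ᵥ z) ∘ (sp i) = M.submatrix (sp i) (sp i) *ᵥ (z ∘ sp i) := fun M z => by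
      rw [Matrix.submatrix_mulVec_equiv]
      simp [Function.comp_assoc]
    have hWs : W ∘ sp i = TensorLinear.pt w x := by funext q; simp [W]
    have haS : a.submatrix (sp i) (sp i) =
        (TensorLinear.emb (Fin t → Fin m) v : Matrix ((Fin t → Fin m) × Fin m) (Fin t → Fin m) F) *
          (TensorLinear.con (Fin t → Fin m) φ : Matrix (Fin t → Fin m) ((Fin t → Fin m) × Fin m) F) := by
      rw [show a.submatrix (sp i) (sp i) = (rootMat i v φ).submatrix (sp i) (sp i) - 1 from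
        submatrix_sub_one _ (sp i), sub_rootMat, add_sub_cancel_left]
    have hinj : ∀ z z' : (Fin (t + 1) → Fin m) → F, z ∘ sp i = z' ∘ sp i → z = z' :=
      fun z z' h => (sp i).surjective.injective_comp_right h
    have haW : a *ᵥ W = 0 := hinj _ _ (by
      rw [hsub, hWs, haS, ← Matrix.mulVec_mulVec, TensorLinear.con_pt, hφx, zero_smul, Matrix.mulVec_zero]
      rfl)
    have huW : (u : Matrix (Fin (t + 1) → Fin m) (Fin (t + 1) → Fin m) F) *ᵥ W = -W := hinj _ _ (by
      rw [hsub, hWs, ← spGL_val, hAB, hux, ← hWs]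
      rfl)
    have hz : a *ᵥ (b *ᵥ (inK a b Q *ᵥ W)) = (-2 : F) • W := by
      have h1 := congrArg (· *ᵥ W) hQu
      simp only [Matrix.sub_mulVec, Matrix.one_mulVec, ← Matrix.mulVec_mulVec, Matrix.add_mulVec, huW] at h1
      rw [Matrix.mulVec_mulVec W a (inK a b Q), commute_inK_left ha, ← Matrix.mulVec_mulVec, haW, Matrix.mulVec_zero,
        Matrix.mulVec_zero, add_zero] at h1
      rw [← h1]
      module
    have h3 := congrArg (fun z => TensorLinear.con (Fin t → Fin m) χ *ᵥ (z ∘ sp i)) hz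
    rw [hsub, haS, show ((-2 : F) • W) ∘ sp i = (-2 : F) • (W ∘ sp i) from rfl, hWs, Matrix.mulVec_smul,
      TensorLinear.con_pt, hχx, one_smul, ← Matrix.mulVec_mulVec, TensorLinear.emb_mulVec, TensorLinear.con_pt,
      hχv, zero_smul] at h3
    exact hw ((smul_eq_zero.1 h3.symm).resolve_left (neg_ne_zero.2 h2))
  obtain ⟨χ, hχ⟩ := exists_dual_one hv
  have hsq : (A * A) ⊗ₖ (B * B) = (1 : Matrix ((Fin t → Fin m) × Fin m) ((Fin t → Fin m) × Fin m) F) := by
    rw [Matrix.mul_kronecker_mul, ← hAB, ← Units.val_mul, ← map_mul, huu, map_one, Units.val_one]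
  have hA2 : A * A = 1 := by
    refine Matrix.toLin'.injective (LinearMap.ext fun w => ?_)
    rw [Matrix.toLin'_apply, Matrix.toLin'_apply, Matrix.one_mulVec]
    have h4 := congrArg (fun M => TensorLinear.con (Fin t → Fin m) χ *ᵥ (M *ᵥ TensorLinear.pt w v)) hsq
    simp only [kron_mulVec_pt, Matrix.one_mulVec, ← Matrix.mulVec_mulVec, hBv, TensorLinear.con_pt, hχ,
      one_smul] at h4
    rw [← Matrix.mulVec_mulVec]
    exact h4
  have hB2 : B * B = 1 := by
    have h4 := hsq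
    rw [hA2] at h4
    ext p q
    have := congrFun (congrFun h4 ((fun _ => 0), p)) ((fun _ => 0), q)
    simpa [Matrix.one_apply] using this
  have hBne : B ≠ 1 := by
    intro hB1
    obtain ⟨w, hw⟩ : ∃ w : (Fin t → Fin m) → F, A *ᵥ w - w ≠ 0 := by
      by_contra! h
      refine hu1 ((spGL i).injective (Units.ext ?_))
      rw [map_one, hAB, hB1, Units.val_one, show A = 1 from Matrix.toLin'.injective (LinearMap.ext fun w => by
        rw [Matrix.toLin'_apply, Matrix.toLin'_apply, Matrix.one_mulVec]; exact sub_eq_zero.1 (h w)),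
        Matrix.one_kronecker_one]
    obtain ⟨x, hx0, hx⟩ := TensorLinear.exists_perp ![φ, χ]
      (show 2 < Fintype.card (Fin m) by rw [Fintype.card_fin]; omega)
    have hφx : φ ⬝ᵥ x = 0 := by rw [dotProduct_comm]; exact hx 0
    have hχx : χ ⬝ᵥ x = 0 := by rw [dotProduct_comm]; exact hx 1
    obtain ⟨d, hd⟩ := hD (A *ᵥ w - w) x hφx (by
      rw [kron_mulVec_pt, hB1, Matrix.one_mulVec, Matrix.mulVec_sub, Matrix.mulVec_mulVec, hA2, Matrix.one_mulVec]
      funext q
      simp [TensorLinear.pt]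
      ring) hw
    rw [hd, dotProduct_smul, hχ, smul_eq_mul, mul_one] at hχx
    exact hx0 (by rw [hd, hχx, zero_smul])
  have hA : A = -1 := by
    by_contra hA
    obtain ⟨w, hw⟩ : ∃ w : (Fin t → Fin m) → F, A *ᵥ w + w ≠ 0 := by
      by_contra! h
      refine hA (Matrix.toLin'.injective (LinearMap.ext fun w => ?_))
      rw [Matrix.toLin'_apply, Matrix.toLin'_apply, Matrix.neg_mulVec, Matrix.one_mulVec]
      exact eq_neg_of_add_eq_zero_left (h w)
    obtain ⟨z, hz⟩ : ∃ z : Fin m → F, B *ᵥ z - z ≠ 0 := by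
      by_contra! h
      exact hBne (Matrix.toLin'.injective (LinearMap.ext fun z => by
        rw [Matrix.toLin'_apply, Matrix.toLin'_apply, Matrix.one_mulVec]; exact sub_eq_zero.1 (h z)))
    have hBz : B *ᵥ (B *ᵥ z - z) = -(B *ᵥ z - z) := by
      rw [Matrix.mulVec_sub, Matrix.mulVec_mulVec, hB2, Matrix.one_mulVec]; abel
    obtain ⟨d, hd⟩ := hD (A *ᵥ w + w) (B *ᵥ z - z) (by
      rw [dotProduct_sub, Matrix.dotProduct_mulVec, hφB, sub_self]) (by
      rw [kron_mulVec_pt, hBz, Matrix.mulVec_add, Matrix.mulVec_mulVec, hA2, Matrix.one_mulVec]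
      funext q
      simp [TensorLinear.pt]
      ring) hw
    have h5 := hBz
    rw [hd, Matrix.mulVec_smul, hBv] at h5
    have h6 : (2 : F) • (d • v) = 0 := by rw [two_smul]; nth_rewrite 1 [h5]; exact neg_add_cancel _
    exact hz (hd.trans ((smul_eq_zero.1 h6).resolve_left h2))
  have hu : (u : Matrix (Fin (t + 1) → Fin m) (Fin (t + 1) → Fin m) F) = SpinTensor.emb i (-B) := by
    refine (Matrix.reindex (sp i).symm (sp i).symm).injective ?_
    rw [Matrix.reindex_apply, Matrix.reindex_apply, Equiv.symm_symm, ← spGL_val, hAB, sub_emb, hA]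
    ext p q
    simp [Matrix.kroneckerMap_apply]
  have hcomm : Commute (s : Matrix (Fin (t + 1) → Fin m) (Fin (t + 1) → Fin m) F) (SpinTensor.emb i B) := by
    have h9 : Commute (s : Matrix (Fin (t + 1) → Fin m) (Fin (t + 1) → Fin m) F) (SpinTensor.emb i (-B)) := by
      rw [← hu, hbs]
      exact ((Commute.one_right _).add_right hub).symm
    rw [map_neg] at h9
    simpa using h9.neg_right
  have hBφ : phi σ G v ᵥ* B = phi σ G v := by
    have h9 := hφB
    rw [Matrix.smul_vecMul] at h9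
    exact smul_right_injective _ hc0 h9
  obtain ⟨B', hB'⟩ : ∃ B' : GL (Fin m) F, (B' : Matrix (Fin m) (Fin m) F) = -B :=
    ⟨⟨-B, -B, by rw [neg_mul_neg, hB2], by rw [neg_mul_neg, hB2]⟩, rfl⟩
  have hsim : Sim σ G (B' : Matrix (Fin m) (Fin m) F) := by
    refine sim_of_fac K (l := i) ?_
    rw [val_fac, hB', ← hu]
    exact C.hyp.sim u huX
  obtain ⟨μ, -, hμ⟩ := hsim
  rw [hB', adj_neg, neg_mul_neg] at hμ
  obtain ⟨x, hx⟩ := K.exists_ip_one hv
  have h9 : ip σ G (B *ᵥ v) (B *ᵥ x) = μ := by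
    rw [ip_mulVec_left K.gram, Matrix.mulVec_mulVec, hμ, Matrix.smul_mulVec, Matrix.one_mulVec, ip_smul_right, hx,
      mul_one]
  rw [hBv, ip, Matrix.dotProduct_mulVec, hBφ, ← ip, hx] at h9
  rw [← h9, one_smul] at hμ
  exact ⟨B, hB2, hBne, hBv, left_inv_eq_right_inv hμ hB2, hBφ, hcomm⟩

/-- An isotropic vector in a plane containing an anisotropic one. -/
theorem exists_iso_span {K : Space σ G} {w₁ w₂ : Fin m → F} (h1 : ip σ G w₁ w₁ ≠ 0) (h : ∀ d : F, w₂ ≠ d • w₁) :
    ∃ a b : F, a • w₁ + b • w₂ ≠ 0 ∧ ip σ G (a • w₁ + b • w₂) (a • w₁ + b • w₂) = 0 := by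
  set n1 := ip σ G w₁ w₁
  set k := ip σ G w₁ w₂
  set w : Fin m → F := w₂ - (k / n1) • w₁
  have hw : w ≠ 0 := sub_ne_zero.2 (h _)
  have h1w : ip σ G w₁ w = 0 := by rw [ip_sub_right, ip_smul_right, div_mul_cancel₀ _ h1, sub_self]
  have hw1 : ip σ G w w₁ = 0 := K.gram.ip_eq_zero_symm h1w
  by_cases hww : ip σ G w w = 0
  · exact ⟨-(k / n1), 1, by rw [neg_smul, one_smul, neg_add_eq_sub]; exact ⟨hw, hww⟩⟩
  obtain ⟨l, hl⟩ := K.inv.exists_norm_eq (μ := -n1 / ip σ G w w) (by
    rw [map_div₀, map_neg, K.gram.ip_symm, K.gram.ip_symm])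
  refine ⟨1 - l * (k / n1), l, ?_⟩
  have e : (1 - l * (k / n1)) • w₁ + l • w₂ = w₁ + l • w := by simp only [w]; module
  rw [e]
  refine ⟨fun h0 => h1 ?_, ?_⟩
  · have := congrArg (ip σ G w₁) h0
    rwa [ip_add_right, ip_smul_right, h1w, mul_zero, add_zero, ip_zero_right] at this
  · simp only [ip_add_left, ip_add_right, ip_smul_left, ip_smul_right, h1w, hw1]
    rw [eq_div_iff hww] at hl
    linear_combination hl

/-- An anisotropic vector, orthogonal to a given isotropic one, whose square commutes with a non-standard element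
of degree two. -/
theorem exists_sqr_commute (C : Ctx σ G X) (h2 : (2 : F) ≠ 0) {s : GL (Fin (t + 1) → Fin m) F} (hsX : s ∈ X)
    (hs : ¬ IsStd s)
    (hb : ((s : Matrix (Fin (t + 1) → Fin m) (Fin (t + 1) → Fin m) F) - 1) *
      ((s : Matrix (Fin (t + 1) → Fin m) (Fin (t + 1) → Fin m) F) - 1) = 0)
    (i : Fin (t + 1)) {v : Fin m → F} (hv : v ≠ 0) (hvv : ip σ G v v = 0) :
    ∃ u, ip σ G u u ≠ 0 ∧ ip σ G v u = 0 ∧
      Commute (s : Matrix (Fin (t + 1) → Fin m) (Fin (t + 1) → Fin m) F) (SpinTensor.emb i (sqr σ G u)) := by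
  have K := C.space
  obtain ⟨B, hB2, hBne, hBv, hBa, hBφ, hcomm⟩ := exists_reflect C h2 hsX hs hb i hv hvv
  set M := B - 1 with hM
  have hMa : adj σ G G M = M := by rw [hM, adj_sub, hBa, adj_one K.gram]
  have hMv : M *ᵥ v = 0 := by rw [hM, Matrix.sub_mulVec, hBv, Matrix.one_mulVec, sub_self]
  have hcM : Commute (s : Matrix (Fin (t + 1) → Fin m) (Fin (t + 1) → Fin m) F) (SpinTensor.emb i M) := by
    rw [hM, map_sub, emb_one]
    exact hcomm.sub_right (Commute.one_right _)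
  have hiso : ∀ x, ip σ G (M *ᵥ x) (M *ᵥ x) = 0 → M *ᵥ x = 0 := fun x hx => by
    by_contra h0
    refine hs (C.one s hsX i M v (M *ᵥ x) (phi σ G x) hv hvv h0 hx hMv ?_ hcM)
    rw [phi_mulVec K.gram, hMa]
  obtain ⟨x0, hx0⟩ : ∃ x, M *ᵥ x ≠ 0 := by
    by_contra! h
    refine hBne (sub_eq_zero.1 (ext_mulVec fun x => ?_))
    rw [Matrix.zero_mulVec]; exact h x
  set u := M *ᵥ x0
  have hu : ip σ G u u ≠ 0 := fun h => hx0 (hiso x0 h)
  have hline : ∀ x, ∃ d : F, M *ᵥ x = d • u := fun x => by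
    by_contra! h
    obtain ⟨a, b, h0, hab⟩ := exists_iso_span (K := K) hu h
    rw [← Matrix.mulVec_smul, ← Matrix.mulVec_smul, ← Matrix.mulVec_add] at h0 hab
    exact h0 (hiso _ hab)
  have hMu : M *ᵥ u = (-2 : F) • u := by
    rw [Matrix.mulVec_mulVec, show M * M = (-2 : F) • M by
      rw [hM, mul_sub, sub_mul, hB2, mul_one, one_mul]; module, Matrix.smul_mulVec]
  have hMS : M = (-2 / ip σ G u u) • sqr σ G u := by
    refine ext_mulVec fun x => ?_
    obtain ⟨d, hd⟩ := hline x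
    have h1 : ip σ G (M *ᵥ u) x = ip σ G u (M *ᵥ x) := by rw [ip_mulVec_left K.gram, hMa]
    rw [hMu, hd, ip_smul_left, ip_smul_right, map_neg, map_ofNat] at h1
    rw [Matrix.smul_mulVec, sqr_mulVec, hd, smul_smul, div_mul_eq_mul_div, h1, mul_div_assoc, div_self hu, mul_one]
  refine ⟨u, hu, ?_, ?_⟩
  · show ip σ G v (M *ᵥ x0) = 0
    rw [← hMa, ← ip_mulVec_left K.gram, hMv, ip_zero_left]
  · have h3 : sqr σ G u = (-2 / ip σ G u u)⁻¹ • M := by
      rw [hMS, inv_smul_smul₀ (div_ne_zero (neg_ne_zero.2 h2) hu)]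
    rw [h3, map_smul]
    exact hcM.smul_right _

/-- Two anisotropic vectors whose squares commute with a non-standard element are orthogonal or proportional. -/
theorem orth_of_commute (C : Ctx σ G X) {s : GL (Fin (t + 1) → Fin m) F} (hsX : s ∈ X) (hs : ¬ IsStd s)
    {i : Fin (t + 1)} {u₁ u₂ : Fin m → F} (h1 : ip σ G u₁ u₁ ≠ 0) (hne : ∀ d : F, u₂ ≠ d • u₁)
    (c1 : Commute (s : Matrix (Fin (t + 1) → Fin m) (Fin (t + 1) → Fin m) F) (SpinTensor.emb i (sqr σ G u₁)))
    (c2 : Commute (s : Matrix (Fin (t + 1) → Fin m) (Fin (t + 1) → Fin m) F) (SpinTensor.emb i (sqr σ G u₂))) :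
    ip σ G u₁ u₂ = 0 := by
  have K := C.space
  by_contra hk
  have hk' : ip σ G u₂ u₁ ≠ 0 := fun h => hk (K.gram.ip_eq_zero_symm h)
  obtain ⟨c, hc, hcs'⟩ := K.inv.exists_skew
  have hcs : c + σ c = 0 := by rw [hcs', add_neg_cancel]
  have c12 : Commute (s : Matrix (Fin (t + 1) → Fin m) (Fin (t + 1) → Fin m) F)
      (SpinTensor.emb i (vecMulVec u₁ (phi σ G u₂))) := by
    have h3 := (c1.mul_right c2).smul_right (ip σ G u₁ u₂)⁻¹
    rwa [emb_mul_emb, sqr, sqr, vecMulVec_phi_mul, ← map_smul, inv_smul_smul₀ hk] at h3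
  have c21 : Commute (s : Matrix (Fin (t + 1) → Fin m) (Fin (t + 1) → Fin m) F)
      (SpinTensor.emb i (vecMulVec u₂ (phi σ G u₁))) := by
    have h3 := (c2.mul_right c1).smul_right (ip σ G u₂ u₁)⁻¹
    rwa [emb_mul_emb, sqr, sqr, vecMulVec_phi_mul, ← map_smul, inv_smul_smul₀ hk'] at h3
  obtain ⟨a, b, h0, hab⟩ := exists_iso_span (K := K) h1 hne
  set e := a • u₁ + b • u₂
  have hce : Commute (s : Matrix (Fin (t + 1) → Fin m) (Fin (t + 1) → Fin m) F)
      (SpinTensor.emb i (trv σ G e c)) := by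
    rw [UnitWreath.trv, map_add, emb_one, map_smul, sqr_add, sqr_smul, sqr_smul, phi_smul, phi_smul]
    simp only [Matrix.smul_vecMulVec, Matrix.vecMulVec_smul, smul_smul, map_add, map_smul]
    exact (Commute.one_right _).add_right ((((c1.smul_right _).add_right (c12.smul_right _)).add_right
      (c21.smul_right _)).add_right (c2.smul_right _) |>.smul_right _)
  refine hs (C.root_map s hsX _ (exists_uroot K h0 hab hc hcs i) ?_)
  rw [show s * fac i (K.trv_su hab hcs).gl * s⁻¹ = fac i (K.trv_su hab hcs).gl by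
    rw [mul_inv_eq_iff_eq_mul]
    refine Units.ext ?_
    rw [Units.val_mul, Units.val_mul, val_fac]
    exact hce.eq]
  exact exists_uroot K h0 hab hc hcs i

/-- In odd characteristic every element of the overgroup is standard. -/
theorem isStd_of_odd (C : Ctx σ G X) (h2 : (2 : F) ≠ 0) {g : GL (Fin (t + 1) → Fin m) F} (hg : g ∈ X) :
    IsStd g := by
  classical
  by_contra hgs
  have K := C.space
  have hm := K.three'
  obtain ⟨v0, hv0, hv00⟩ := K.exists_isotropic
  obtain ⟨c, hc, hcs'⟩ := K.inv.exists_skew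
  have hcs : c + σ c = 0 := by rw [hcs', add_neg_cancel]
  set i : Fin (t + 1) := 0
  have hr := exists_uroot (t := t + 1) K hv0 hv00 hc hcs i
  set r := fac i (K.trv_su hv00 hcs).gl
  set s := g * r * g⁻¹
  have hsX : s ∈ X := X.mul_mem (X.mul_mem hg (C.hyp.base i _ _)) (X.inv_mem hg)
  have hs : ¬ IsStd s := fun h => hgs (isStd_of_conj_root C hr hg h)
  have hb := conj_sub_sq (z := g) hr.1
  have next' := fun v (hv : v ≠ 0) (hvv : ip σ G v v = 0) => exists_sqr_commute C h2 hsX hs hb i hv hvv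
  obtain ⟨u₁, hn1, -, c1⟩ := next' v0 hv0 hv00
  obtain ⟨z, hz1, hzz⟩ := K.exists_norm_perp hn1 (μ := -ip σ G u₁ u₁) (by rw [map_neg, K.gram.ip_symm])
  have hz1' := K.gram.ip_eq_zero_symm hz1
  set v := u₁ + z
  have huv : ip σ G u₁ v = ip σ G u₁ u₁ := by rw [ip_add_right, hz1, add_zero]
  have hv : v ≠ 0 := fun h => hn1 (by rw [← huv, h, ip_zero_right])
  obtain ⟨u₂, hn2, hvu, c2⟩ := next' v hv (by
    simp only [v, ip_add_left, ip_add_right, hz1, hz1', hzz]; ring)
  have hne : ∀ d : F, u₂ ≠ d • u₁ := fun d hd => by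
    rw [hd, ip_smul_right] at hvu
    have hd0 : d = 0 := (mul_eq_zero.1 hvu).resolve_right fun h => hn1 (huv ▸ K.gram.ip_eq_zero_symm h)
    exact hn2 (by rw [hd, hd0, zero_smul, ip_zero_left])
  have h12 := orth_of_commute C hsX hs hn1 hne c1 c2
  have h21 := K.gram.ip_eq_zero_symm h12
  by_cases h4 : 4 ≤ m
  · -- the sum of the two squares, with an isotropic vector killed and one in the image
    obtain ⟨l, hl⟩ := K.inv.exists_norm_eq (μ := -ip σ G u₁ u₁ / ip σ G u₂ u₂) (by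
      rw [map_div₀, map_neg, K.gram.ip_symm, K.gram.ip_symm])
    set w := u₁ + l • u₂
    set M := sqr σ G u₁ + sqr σ G u₂
    have hd : bil σ G u₁ u₁ * bil σ G u₂ u₂ - bil σ G u₁ u₂ * σ (bil σ G u₁ u₂) ≠ 0 := by
      simp only [bil_apply, h12, zero_mul, sub_zero]
      exact mul_ne_zero hn1 hn2
    have hW := K.herm.pair_nondeg hd
    obtain ⟨x, hx0, hx⟩ := (K.herm.restrict_herm (K.herm.orth_nondeg hW)).exists_isotropic (by
      have h1 := K.herm.finrank_orth hW
      rw [K.herm.pair_finrank hd, Module.finrank_fintype_fun_eq_card, Fintype.card_fin] at h1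
      omega)
    have hx1 : ip σ G u₁ x = 0 := K.herm.mem_orth.1 x.2 u₁ (Submodule.subset_span (Set.mem_insert _ _))
    have hx2 : ip σ G u₂ x = 0 :=
      K.herm.mem_orth.1 x.2 u₂ (Submodule.subset_span (Set.mem_insert_of_mem _ rfl))
    refine hs (C.one s hsX i M x w (phi σ G ((ip σ G u₁ u₁)⁻¹ • u₁ + (l / ip σ G u₂ u₂) • u₂))
      (fun h => hx0 (Subtype.ext h)) hx ?_ ?_ ?_ ?_ ?_)
    · intro h0
      apply hn1
      have := congrArg (ip σ G u₁) h0
      rwa [ip_add_right, ip_smul_right, h12, mul_zero, add_zero, ip_zero_right] at this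
    · simp only [w, ip_add_left, ip_add_right, ip_smul_left, ip_smul_right, h12, h21]
      rw [eq_div_iff hn2] at hl
      linear_combination hl
    · rw [Matrix.add_mulVec, sqr_mulVec, sqr_mulVec, hx1, hx2, zero_smul, zero_smul, add_zero]
    · have hMa : adj σ G G M = M := by rw [adj_add, adj_sqr K.gram, adj_sqr K.gram]
      rw [← hMa, ← phi_mulVec K.gram]
      congr 1
      simp only [M, w, Matrix.add_mulVec, sqr_mulVec, ip_add_right, ip_smul_right, h12, h21, mul_zero, add_zero,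
        zero_add, inv_mul_cancel₀ hn1, one_smul, div_mul_cancel₀ _ hn2]
    · rw [map_add]; exact c1.add_right c2
  · -- degree three: a third vector
    obtain ⟨z₃, hW1, hW2, hn3⟩ : ∃ z₃, ip σ G u₁ z₃ = 0 ∧ ip σ G u₂ z₃ = 0 ∧ ip σ G z₃ z₃ = 1 := by
      have hd : bil σ G u₁ u₁ * bil σ G u₂ u₂ - bil σ G u₁ u₂ * σ (bil σ G u₁ u₂) ≠ 0 := by
        simp only [bil_apply, h12, zero_mul, sub_zero]
        exact mul_ne_zero hn1 hn2
      have hW := K.herm.pair_nondeg hd
      obtain ⟨z₃, hz, hz3⟩ := K.herm.exists_norm_in (K.herm.orth_nondeg hW) (by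
        have h1 := K.herm.finrank_orth hW
        rw [K.herm.pair_finrank hd, Module.finrank_fintype_fun_eq_card, Fintype.card_fin] at h1
        omega) (map_one σ)
      exact ⟨z₃, K.herm.mem_orth.1 hz u₁ (Submodule.subset_span (Set.mem_insert _ _)),
        K.herm.mem_orth.1 hz u₂ (Submodule.subset_span (Set.mem_insert_of_mem _ rfl)), hz3⟩
    set n1 := ip σ G u₁ u₁ with hN1
    set n2 := ip σ G u₂ u₂ with hN2
    obtain ⟨x, hx, hx0, hxn⟩ : ∃ x : F, σ x = x ∧ x ≠ 0 ∧ n1 + x * n2 ≠ 0 := by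
      by_cases h : n1 + n2 = 0
      · refine ⟨-1, by rw [map_neg, map_one], neg_ne_zero.2 one_ne_zero, fun h' => hn1 ?_⟩
        exact (mul_eq_zero.1 (show (2 : F) * n1 = 0 by linear_combination h + h')).resolve_left h2
      · exact ⟨1, map_one σ, one_ne_zero, by rwa [one_mul]⟩
    obtain ⟨β, hβ⟩ := K.inv.exists_norm_eq hx
    obtain ⟨γ, hγ⟩ := K.inv.exists_norm_eq (μ := -(n1 + x * n2)) (by
      rw [map_neg, map_add, map_mul, hx, hN1, hN2, K.gram.ip_symm, K.gram.ip_symm])
    set y := u₁ + β • u₂ + γ • z₃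
    have hW1' := K.gram.ip_eq_zero_symm hW1
    have hW2' := K.gram.ip_eq_zero_symm hW2
    have hy1 : ip σ G y u₁ = n1 := by
      simp only [y, ip_add_left, ip_smul_left, h21, hW1', mul_zero, add_zero, hN1]
    have hy2 : ip σ G y u₂ = σ β * n2 := by
      simp only [y, ip_add_left, ip_smul_left, h12, hW2', mul_zero, add_zero, zero_add, hN2]
    have hy0 : y ≠ 0 := fun h => hn1 (by rw [← hy1, h, ip_zero_left])
    obtain ⟨u₃, hn3', hyu, c3⟩ := next' y hy0 (by
      have hyy : ip σ G y y = n1 + (β * σ β) * n2 + γ * σ γ := by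
        simp only [y, ip_add_left, ip_add_right, ip_smul_left, ip_smul_right, h12, h21, hW1, hW1', hW2, hW2', hn3,
          hN1, hN2]
        ring
      rw [hyy, hβ, hγ]; ring)
    have hp : ∀ {u}, ip σ G y u ≠ 0 → ∀ d : F, u₃ ≠ d • u := fun {u} hu d hd => by
      rw [hd, ip_smul_right] at hyu
      have hd0 : d = 0 := (mul_eq_zero.1 hyu).resolve_right hu
      exact hn3' (by rw [hd, hd0, zero_smul, ip_zero_left])
    have hβ0 : β ≠ 0 := fun h => hx0 (by rw [← hβ, h, zero_mul])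
    have h13 := orth_of_commute C hsX hs hn1 (hp (by rwa [hy1])) c1 c3
    have h23 := orth_of_commute C hsX hs hn2
      (hp (by rw [hy2]; exact mul_ne_zero (fun h => hβ0 (IsInvol.apply_eq_zero_iff.1 h)) hn2)) c2 c3
    have h33 : ip σ G z₃ u₃ = 0 := by
      rw [show y = u₁ + β • u₂ + γ • z₃ from rfl] at hyu
      simp only [ip_add_left, ip_smul_left, h13, h23, mul_zero, zero_add] at hyu
      refine (mul_eq_zero.1 hyu).resolve_left fun h => hxn ?_
      rw [IsInvol.apply_eq_zero_iff.1 h, zero_mul] at hγ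
      linear_combination hγ
    refine hn3' ?_
    have hli : LinearIndependent F ![u₁, u₂, z₃] := by
      rw [Fintype.linearIndependent_iff]
      intro q hq
      simp only [Fin.sum_univ_three, Matrix.cons_val_zero, Matrix.cons_val_one, Matrix.cons_val_two,
        Matrix.head_cons, Matrix.tail_cons] at hq
      have e1 := congrArg (ip σ G u₁) hq
      have e2 := congrArg (ip σ G u₂) hq
      have e3 := congrArg (ip σ G z₃) hq
      simp [ip_add_right, ip_smul_right, ip_zero_right, h12, h21, hW1, hW1', hW2, hW2', hn3, ← hN1, ← hN2, hn1,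
        hn2] at e1 e2 e3
      intro j; fin_cases j <;> assumption
    obtain ⟨q, hq⟩ := Submodule.mem_span_range_iff_exists_fun F |>.1
      (show u₃ ∈ Submodule.span F (Set.range ![u₁, u₂, z₃]) by
        rw [hli.span_eq_top_of_card_eq_finrank (by
          rw [Module.finrank_fintype_fun_eq_card, Fintype.card_fin, Fintype.card_fin]; omega)]
        exact Submodule.mem_top)
    conv_lhs => arg 4; rw [← hq]
    simp only [Fin.sum_univ_three, Matrix.cons_val_zero, Matrix.cons_val_one, Matrix.cons_val_two,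
      Matrix.head_cons, Matrix.tail_cons, ip_add_right, ip_smul_right, K.gram.ip_eq_zero_symm h13,
      K.gram.ip_eq_zero_symm h23, K.gram.ip_eq_zero_symm h33, mul_zero, add_zero]

end CfsgLib.Geo.UnitWreath
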