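/-
Overgroups in characteristic two.
-/
import Cfsg.Agent.Lib.Geo.UnitWreath.Odd
import Cfsg.Agent.Lib.Geo.TensorWreath.Even

set_option autoImplicit false
set_option linter.unusedSectionVars false

namespace CfsgLib.Geo.UnitWreath

open Matrix CfsgLib.Geo.SpinTensor CfsgLib.Geo.TensorWreath CfsgLib.Classical.Herm

variable {F : Type*} [Field F] [Fintype F] [CharP F 2] {σ : F →+* F} {t m : ℕ} {G : Matrix (Fin m) (Fin m) F}

theorem isURoot_fac (K : Space σ G) {v : Fin m → F} (hv : v ≠ 0) (hvv : ip σ G v v = 0) {c : F} (hc : c ≠ 0)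
    (hcs : σ c = c) (h : (c • phi σ G v) ⬝ᵥ v = 0) (i : Fin t) :
    IsURoot σ G (fac i (TensorWreath.trv v (c • phi σ G v) h)) := by
  have hskew : c + σ c = 0 := by rw [hcs, CharTwo.add_self_eq_zero]
  rw [show TensorWreath.trv v (c • phi σ G v) h = (K.trv_su hvv hskew).gl from Units.ext (by
    show 1 + vecMulVec v (c • phi σ G v) = 1 + c • sqr σ G v
    rw [Matrix.vecMulVec_smul]; rfl)]
  exact exists_uroot K hv hvv hc hskew i

theorem IsURoot.exists_fac (K : Space σ G) {x : GL (Fin t → Fin m) F} (hx : IsURoot σ G x) :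
    ∃ (i : Fin t) (v : Fin m → F) (c : F) (h : (c • phi σ G v) ⬝ᵥ v = 0), v ≠ 0 ∧ ip σ G v v = 0 ∧ c ≠ 0 ∧
      σ c = c ∧ x = fac i (TensorWreath.trv v (c • phi σ G v) h) := by
  obtain ⟨i, v, c, hv, hvv, hc, hcs, e⟩ := hx.shape K
  refine ⟨i, v, c, by rw [smul_dotProduct, phi_dot, hvv, smul_zero], hv, hvv, hc,
    (CharTwo.add_eq_zero.1 hcs).symm, Units.ext ?_⟩
  rw [e, val_fac]
  show SpinTensor.emb i (1 + c • sqr σ G v) = SpinTensor.emb i (1 + vecMulVec v (c • phi σ G v))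
  rw [Matrix.vecMulVec_smul]; rfl

theorem IsURoot.mem {X : Subgroup (GL (Fin t → Fin m) F)} (C : Ctx σ G X) {x : GL (Fin t → Fin m) F}
    (hx : IsURoot σ G x) : x ∈ X := by
  obtain ⟨i, v, c, hv, hvv, hc, hcs, e⟩ := hx.shape C.space
  rw [show x = fac i (C.space.trv_su hvv hcs).gl from Units.ext (by rw [e, val_fac]; rfl)]
  exact C.hyp.base i _ _

/-- A similitude of order two is self-adjoint. -/
theorem adj_eq_of_inv (K : Space σ G) {B : GL (Fin m) F} (hs : Sim σ G (B : Matrix (Fin m) (Fin m) F))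
    (hB : B * B = 1) : adj σ G G (B : Matrix (Fin m) (Fin m) F) = (B : Matrix (Fin m) (Fin m) F) := by
  haveI : Nonempty (Fin m) := ⟨⟨0, by have := K.three'; omega⟩⟩
  have hB' : (B : Matrix (Fin m) (Fin m) F) * (B : Matrix (Fin m) (Fin m) F) = 1 := by
    rw [← Units.val_mul, hB, Units.val_one]
  obtain ⟨μ, -, hμ⟩ := hs
  have h1 : adj σ G G (B : Matrix (Fin m) (Fin m) F) = μ • (B : Matrix (Fin m) (Fin m) F) := by
    rw [← mul_one (adj σ G G _), ← hB', ← mul_assoc, hμ, smul_mul_assoc, one_mul]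
  have h2 := congrArg (adj σ G G) h1
  rw [adj_adj K.gram K.gram, adj_smul, h1, Sim.fixed K.gram hμ, smul_smul] at h2
  obtain ⟨p, q, hpq⟩ : ∃ p q, (B : Matrix (Fin m) (Fin m) F) p q ≠ 0 := by
    by_contra! h
    exact Units.ne_zero B (Matrix.ext h)
  have h3 := congrFun (congrFun h2 p) q
  rw [Matrix.smul_apply, smul_eq_mul] at h3
  have h4 : μ * μ = 1 := mul_right_cancel₀ hpq (by rw [one_mul]; exact h3.symm)
  have h5 : μ = 1 := by
    have h6 : (μ - 1) * (μ - 1) = 0 := by linear_combination h4 + (-μ + 1) * (CharTwo.two_eq_zero (R := F))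
    exact sub_eq_zero.1 (mul_self_eq_zero.1 h6)
  rw [h1, h5, one_smul]

/-- A second square orthogonal to a given one. -/
theorem exists_second (K : Space σ G) {v : Fin m → F} (hv : v ≠ 0) (hvv : ip σ G v v = 0) {c : F} (hc : c ≠ 0)
    (hcs : σ c = c) :
    ∃ (v' : Fin m → F) (c' : F), v' ≠ 0 ∧ ip σ G v' v' = 0 ∧ c' ≠ 0 ∧ σ c' = c' ∧ ip σ G v v' = 0 ∧
      c' • sqr σ G v' ≠ c • sqr σ G v := by
  obtain ⟨f, hvf, hfv, hff, hf0⟩ := K.exists_partner hv hvv
  by_cases hq : Nat.card (fixedSub σ) = 2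
  · obtain ⟨x, hx0, hx, hvx, hxv, hfx, hxf⟩ := K.exists_iso_perp (K.four hq) hvv hvf
    refine ⟨x, c, hx0, hx, hc, hcs, hvx, fun h => hv ?_⟩
    have h1 := congrArg (· *ᵥ f) h
    simp only [Matrix.smul_mulVec, sqr_mulVec, hxf, hvf, zero_smul, one_smul, smul_zero] at h1
    exact (smul_eq_zero.1 h1.symm).resolve_left hc
  · obtain ⟨l, hl0, hl1, hls⟩ := K.exists_fixed_ne hq
    refine ⟨v, l * c, hv, hvv, mul_ne_zero hl0 hc, by rw [map_mul, hls, hcs], hvv, fun h => hl1 ?_⟩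
    have h1 := congrArg (· *ᵥ f) h
    simp only [Matrix.smul_mulVec, sqr_mulVec, hvf, one_smul] at h1
    obtain ⟨a, ha⟩ := Function.ne_iff.1 hv
    have h2 := congrFun h1 a
    simp only [Pi.smul_apply, smul_eq_mul] at h2
    exact mul_right_cancel₀ (mul_ne_zero hc ha) (by rw [one_mul, ← mul_assoc]; exact h2)

/-- An element which is carried to a given image of a self-adjoint element of square zero. -/
theorem image_of_conj (K : Space σ G) {N : Matrix (Fin m) (Fin m) F} {x₂ v₁ f : Fin m → F} {c₁ : F}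
    (hvf : ip σ G (N *ᵥ x₂) f = 1) (hfv : ip σ G f (N *ᵥ x₂) = 1)
    {g : GL (Fin m) F} (hg : Sim σ G (g : Matrix (Fin m) (Fin m) F))
    (hgN : (g : Matrix (Fin m) (Fin m) F) * N = N * (g : Matrix (Fin m) (Fin m) F))
    (e : (g : Matrix (Fin m) (Fin m) F) * (c₁ • sqr σ G v₁) * ((g⁻¹ : GL (Fin m) F) : Matrix (Fin m) (Fin m) F) =
      (1 : F) • sqr σ G (N *ᵥ x₂)) :
    ∃ x, N *ᵥ x = v₁ ∧ c₁ * ip σ G x (N *ᵥ x) = ip σ G x₂ (N *ᵥ x₂) := by
  obtain ⟨ν, hν0, hν⟩ := hg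
  have hgi : ((g⁻¹ : GL (Fin m) F) : Matrix (Fin m) (Fin m) F) =
      ν⁻¹ • adj σ G G (g : Matrix (Fin m) (Fin m) F) :=
    left_inv_eq_right_inv g.inv_mul (by
      rw [mul_smul_comm, Sim.mul_adj K.gram hν0 hν, smul_smul, inv_mul_cancel₀ hν0, one_smul])
  set v₂ := N *ᵥ x₂ with hv₂def
  set w := (g : Matrix (Fin m) (Fin m) F) *ᵥ v₁
  rw [one_smul, hgi, mul_smul_comm, mul_smul_comm, smul_mul_assoc, sqr, Matrix.mul_vecMulVec, Matrix.vecMulVec_mul,
    ← phi_mulVec K.gram, smul_smul] at e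
  replace e : (ν⁻¹ * c₁) • sqr σ G w = sqr σ G v₂ := e
  have h1 := congrArg (· *ᵥ f) e
  simp only [Matrix.smul_mulVec, sqr_mulVec, hvf, one_smul, smul_smul] at h1
  set b := ν⁻¹ * c₁ * ip σ G w f
  have hv₂ : v₂ ≠ 0 := fun h => one_ne_zero (hvf.symm.trans (by rw [h, ip_zero_left]))
  have hb : b ≠ 0 := fun h => hv₂ (by rw [← h1, h, zero_smul])
  have hw : w = b⁻¹ • v₂ := by rw [← h1, inv_smul_smul₀ hb]
  have hn : ν⁻¹ * c₁ * (b⁻¹ * σ b⁻¹) = 1 := by
    have h2 := congrArg (fun M => ip σ G f (M *ᵥ f)) e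
    simp only [hw, sqr_smul, Matrix.smul_mulVec, sqr_mulVec, hvf, one_smul, ip_smul_right, hfv, mul_one] at h2
    exact h2
  set x₁ := b⁻¹ • (((g⁻¹ : GL (Fin m) F) : Matrix (Fin m) (Fin m) F) *ᵥ x₂)
  have hgNi : N * ((g⁻¹ : GL (Fin m) F) : Matrix (Fin m) (Fin m) F) =
      ((g⁻¹ : GL (Fin m) F) : Matrix (Fin m) (Fin m) F) * N := by
    calc _ = ((g⁻¹ : GL (Fin m) F) : Matrix (Fin m) (Fin m) F) * ((g : Matrix (Fin m) (Fin m) F) * N) *
          ((g⁻¹ : GL (Fin m) F) : Matrix (Fin m) (Fin m) F) := by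
          rw [← mul_assoc ((g⁻¹ : GL (Fin m) F) : Matrix (Fin m) (Fin m) F), Units.inv_mul, one_mul]
      _ = _ := by rw [hgN, mul_assoc, mul_assoc, Units.mul_inv, mul_one]
  have hgx : (g : Matrix (Fin m) (Fin m) F) *ᵥ x₁ = b⁻¹ • x₂ := by
    simp only [x₁, Matrix.mulVec_smul, Matrix.mulVec_mulVec, Units.mul_inv, Matrix.one_mulVec]
  have hx₁ : N *ᵥ x₁ = v₁ := by
    calc N *ᵥ x₁ = b⁻¹ • (((g⁻¹ : GL (Fin m) F) : Matrix (Fin m) (Fin m) F) *ᵥ v₂) := by
          simp only [x₁, v₂, Matrix.mulVec_smul, Matrix.mulVec_mulVec, hgNi]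
      _ = ((g⁻¹ : GL (Fin m) F) : Matrix (Fin m) (Fin m) F) *ᵥ w := by rw [hw, Matrix.mulVec_smul]
      _ = v₁ := by simp only [w, Matrix.mulVec_mulVec, Units.inv_mul, Matrix.one_mulVec]
  refine ⟨x₁, hx₁, ?_⟩
  have h3 : ip σ G ((g : Matrix (Fin m) (Fin m) F) *ᵥ x₁) ((g : Matrix (Fin m) (Fin m) F) *ᵥ v₁) =
      ν * ip σ G x₁ v₁ := by
    rw [ip_mulVec_left K.gram, Matrix.mulVec_mulVec v₁, hν, Matrix.smul_mulVec, Matrix.one_mulVec, ip_smul_right]
  rw [hgx, show (g : Matrix (Fin m) (Fin m) F) *ᵥ v₁ = b⁻¹ • v₂ from hw, ip_smul_left, ip_smul_right] at h3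
  rw [hx₁]
  linear_combination (-(ν⁻¹ * c₁)) * h3 + ip σ G x₂ v₂ * hn + (-(c₁ * ip σ G x₁ v₁)) * (inv_mul_cancel₀ hν0)

/-- Two roots killed by a self-adjoint element of square zero, not conjugate under its centraliser. -/
theorem exists_pair (K : Space σ G) {N : Matrix (Fin m) (Fin m) F} (hN0 : N ≠ 0) (hNa : adj σ G G N = N)
    (hN2 : N * N = 0) :
    ∃ (v₁ : Fin m → F) (c₁ : F) (v₂ : Fin m → F) (c₂ : F), v₁ ≠ 0 ∧ ip σ G v₁ v₁ = 0 ∧ c₁ ≠ 0 ∧ σ c₁ = c₁ ∧
      N *ᵥ v₁ = 0 ∧ v₂ ≠ 0 ∧ ip σ G v₂ v₂ = 0 ∧ c₂ ≠ 0 ∧ σ c₂ = c₂ ∧ N *ᵥ v₂ = 0 ∧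
      ∀ g : GL (Fin m) F, Sim σ G (g : Matrix (Fin m) (Fin m) F) →
        (g : Matrix (Fin m) (Fin m) F) * N = N * (g : Matrix (Fin m) (Fin m) F) →
        (g : Matrix (Fin m) (Fin m) F) * (c₁ • sqr σ G v₁) * ((g⁻¹ : GL (Fin m) F) : Matrix (Fin m) (Fin m) F) ≠
          c₂ • sqr σ G v₂ := by
  have hNN : ∀ x, N *ᵥ (N *ᵥ x) = 0 := fun x => by rw [Matrix.mulVec_mulVec, hN2, Matrix.zero_mulVec]
  have hsymm : ∀ x y, ip σ G (N *ᵥ x) y = ip σ G x (N *ᵥ y) := fun x y => by rw [ip_mulVec_left K.gram, hNa]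
  have hiso : ∀ x, ip σ G (N *ᵥ x) (N *ᵥ x) = 0 := fun x => by rw [hsymm, hNN, ip_zero_right]
  have hwd : ∀ x y, N *ᵥ x = N *ᵥ y → ip σ G x (N *ᵥ x) = ip σ G y (N *ᵥ y) := fun x y h => by
    rw [h, ← hsymm, h, hsymm]
  obtain ⟨x₂, hQ⟩ : ∃ x, ip σ G x (N *ᵥ x) ≠ 0 := by
    by_contra! h
    refine hN0 (ext_mulVec fun y => K.gram.ip_ext fun x => ?_)
    rw [Matrix.zero_mulVec, ip_zero_right]
    obtain ⟨a, ha⟩ := K.inv.exists_ne
    have e1 := h (x + y)
    have e2 := h (x + a • y)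
    simp only [Matrix.mulVec_add, Matrix.mulVec_smul, ip_add_left, ip_add_right, ip_smul_left, ip_smul_right, h,
      mul_zero, add_zero, zero_add] at e1 e2
    have h3 : (a - σ a) * ip σ G x (N *ᵥ y) = 0 := by linear_combination e2 - σ a * e1
    exact (mul_eq_zero.1 h3).resolve_left (sub_ne_zero.2 (Ne.symm ha))
  set v₂ := N *ᵥ x₂
  have hv₂ : v₂ ≠ 0 := fun h => hQ (by rw [h, ip_zero_right])
  obtain ⟨f, hvf, hfv, hff, hf0⟩ := K.exists_partner hv₂ (hiso x₂)
  by_cases hq : Nat.card (fixedSub σ) = 2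
  swap
  · obtain ⟨l, hl0, hl1, hls⟩ := K.exists_fixed_ne hq
    refine ⟨v₂, l, v₂, 1, hv₂, hiso x₂, hl0, hls, hNN x₂, hv₂, hiso x₂, one_ne_zero, map_one σ, hNN x₂,
      fun g hg hgN e => ?_⟩
    obtain ⟨x, hx, hxQ⟩ := image_of_conj K hvf hfv hg hgN e
    rw [hwd x x₂ hx] at hxQ
    exact hl1 (mul_right_cancel₀ hQ (by rw [one_mul]; exact hxQ))
  by_cases hz : ∃ x₁, N *ᵥ x₁ ≠ 0 ∧ ip σ G x₁ (N *ᵥ x₁) = 0
  · obtain ⟨x₁, hx₁0, hx₁⟩ := hz
    refine ⟨N *ᵥ x₁, 1, v₂, 1, hx₁0, hiso x₁, one_ne_zero, map_one σ, hNN x₁, hv₂, hiso x₂, one_ne_zero, map_one σ,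
      hNN x₂, fun g hg hgN e => hQ ?_⟩
    obtain ⟨x, hx, hxQ⟩ := image_of_conj K hvf hfv hg hgN e
    rw [← hxQ, hwd x x₁ hx, hx₁, mul_zero]
  push Not at hz
  set Q := ip σ G x₂ (N *ᵥ x₂)
  have hQs : σ Q = Q := by rw [K.gram.ip_symm]; exact hsymm x₂ x₂
  -- the image is a line
  have hline : ∀ y, N *ᵥ y = (ip σ G x₂ (N *ᵥ y) / Q) • v₂ := fun y => by
    set k := ip σ G x₂ (N *ᵥ y)
    set y' := y - (k / Q) • x₂
    have hy' : ip σ G x₂ (N *ᵥ y') = 0 := by
      rw [Matrix.mulVec_sub, Matrix.mulVec_smul, ip_sub_right, ip_smul_right, div_mul_cancel₀ _ hQ, sub_self]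
    have hy'' : ip σ G y' (N *ᵥ x₂) = 0 := by rw [← hsymm]; exact K.gram.ip_eq_zero_symm hy'
    by_contra hne
    have hNy' : N *ᵥ y' ≠ 0 := by rw [Matrix.mulVec_sub, Matrix.mulVec_smul, sub_ne_zero]; exact hne
    have hQ' := hz y' hNy'
    obtain ⟨l, hl⟩ := K.inv.exists_norm_eq (μ := -Q / ip σ G y' (N *ᵥ y')) (by
      rw [map_div₀, map_neg, hQs, K.gram.ip_symm, hsymm])
    have hne2 : N *ᵥ (x₂ + l • y') ≠ 0 := fun h => hQ (by
      have h1 := congrArg (ip σ G x₂) h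
      rwa [Matrix.mulVec_add, Matrix.mulVec_smul, ip_add_right, ip_smul_right, hy', mul_zero, add_zero,
        ip_zero_right] at h1)
    refine hz _ hne2 ?_
    simp only [Matrix.mulVec_add, Matrix.mulVec_smul, ip_add_left, ip_add_right, ip_smul_left, ip_smul_right, hy',
      hy'']
    rw [eq_div_iff hQ'] at hl
    linear_combination hl
  obtain ⟨x, hx0, hx, hvx, hxv, hfx, hxf⟩ := K.exists_iso_perp (K.four hq) (hiso x₂) hvf
  have hNx : N *ᵥ x = 0 := by rw [hline x, ← hsymm, hvx, zero_div, zero_smul]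
  refine ⟨x, 1, v₂, 1, hx0, hx, one_ne_zero, map_one σ, hNx, hv₂, hiso x₂, one_ne_zero, map_one σ, hNN x₂,
    fun g hg hgN e => hx0 ?_⟩
  obtain ⟨y, hy, -⟩ := image_of_conj K hvf hfv hg hgN e
  rw [hline y] at hy
  have h1 := congrArg (ip σ G f) hy
  rw [ip_smul_right, hfv, mul_one, hfx] at h1
  rw [← hy, h1, zero_smul]

variable {X : Subgroup (GL (Fin (t + 1) → Fin m) F)}

/-- The centraliser of a one-factor involution is standard. -/
theorem std_of_commute_inv (C : Ctx σ G X) {y : GL (Fin (t + 1) → Fin m) F} (hy : y ∈ X) {i : Fin (t + 1)}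
    {B : GL (Fin m) F} (hsim : Sim σ G (B : Matrix (Fin m) (Fin m) F)) (hB : B * B = 1) (hB1 : B ≠ 1)
    (hc : Commute y (fac i B)) : IsStd y := by
  have K := C.space
  set N := (B : Matrix (Fin m) (Fin m) F) - 1
  have hN2 : N * N = 0 := TensorWreath.sub_one_sq hB
  have hNa : adj σ G G N = N := by rw [adj_sub, adj_eq_of_inv K hsim hB, adj_one K.gram]
  obtain ⟨x, hx⟩ : ∃ x, N *ᵥ x ≠ 0 := by
    by_contra! h
    exact hB1 (Units.ext (sub_eq_zero.1 (ext_mulVec fun x => by rw [Matrix.zero_mulVec]; exact h x)))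
  have hiso : ip σ G (N *ᵥ x) (N *ᵥ x) = 0 := by
    rw [ip_mulVec_left K.gram, hNa, Matrix.mulVec_mulVec, hN2, Matrix.zero_mulVec, ip_zero_right]
  refine C.one y hy i N (N *ᵥ x) (N *ᵥ x) (phi σ G x) hx hiso hx hiso ?_ ?_ ?_
  · rw [Matrix.mulVec_mulVec, hN2, Matrix.zero_mulVec]
  · rw [phi_mulVec K.gram, hNa]
  · rw [map_sub, emb_one, ← val_fac]
    exact (Commute.sub_right (congrArg Units.val hc.eq) (Commute.one_right _))

/-- Roots commuting with a set which a non-standard element centralises. -/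
theorem root_conj (C : Ctx σ G X) (S : Set (GL (Fin (t + 1) → Fin m) F)) {y : GL (Fin (t + 1) → Fin m) F} (hy : y ∈ X)
    (hys : ¬ IsStd y) (hyS : ∀ z ∈ S, Commute z y) {r r₀ : GL (Fin (t + 1) → Fin m) F} (hr : IsURoot σ G r)
    (hr₀ : IsURoot σ G r₀) (hrS : ∀ z ∈ S, Commute z r) (hr₀S : ∀ z ∈ S, Commute z r₀) :
    ∃ h ∈ X, IsStd h ∧ (∀ z ∈ S, Commute z h) ∧ (h * r₀ * h⁻¹ = r ∨
      ((∀ l A B, r = fac l A → h * r₀ * h⁻¹ = fac l B → False) ∧
        ∃ s ∈ X, ¬ IsStd s ∧ (∀ z ∈ S, Commute z s) ∧ Commute s (r * (h * r₀ * h⁻¹)))) := by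
  have hrX := hr.mem C
  have hr₀X := hr₀.mem C
  set s := y * r₀ * y⁻¹
  have hsX : s ∈ X := X.mul_mem (X.mul_mem hy hr₀X) (X.inv_mem hy)
  have hs : ¬ IsStd s := fun h => hys (isStd_of_conj_root C hr₀ hy h)
  have hs2 : s * s = 1 := by
    rw [show s * s = y * (r₀ * r₀) * y⁻¹ by simp only [s]; group, TensorWreath.root_sq hr₀.1, mul_one, mul_inv_cancel]
  have hsS : ∀ z ∈ S, Commute z s := fun z hz =>
    ((hyS z hz).mul_right (hr₀S z hz)).mul_right (hyS z hz).inv_right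
  obtain ⟨z₀, hz₀, hP, hor⟩ := exists_two_power (TensorWreath.root_sq hr.1) hs2
  haveI : Fact (Nat.Prime 2) := ⟨Nat.prime_two⟩
  have hz₀X : z₀ ∈ X := (Subgroup.zpowers_le.2 (X.mul_mem hrX hsX)) hz₀
  have hzS : ∀ z ∈ S, Commute z z₀ := fun z hz => by
    obtain ⟨k, rfl⟩ := Subgroup.mem_zpowers_iff.1 hz₀
    exact ((hrS z hz).mul_right (hsS z hz)).zpow_right k
  have hPX : Subgroup.closure {r, z₀ * s * z₀⁻¹} ≤ X := (Subgroup.closure_le X).2 (by
    rintro x (rfl | rfl)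
    · exact hrX
    · exact X.mul_mem (X.mul_mem hz₀X hsX) (X.inv_mem hz₀X))
  have hstd := std_of_pGroup C hP hPX hr (Subgroup.subset_closure (Set.mem_insert _ _)) _
    (Subgroup.subset_closure (Set.mem_insert_of_mem _ rfl))
  have e : z₀ * s * z₀⁻¹ = z₀ * y * r₀ * (z₀ * y)⁻¹ := by simp only [s]; group
  rw [e] at hstd hor
  have hhX : z₀ * y ∈ X := X.mul_mem hz₀X hy
  have hh := isStd_of_conj_root C hr₀ hhX hstd
  refine ⟨z₀ * y, hhX, hh, fun z hz => (hzS z hz).mul_right (hyS z hz), ?_⟩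
  rcases hor with hor | ⟨u, hu1, hu2, -, hus, n, hu, -⟩
  · exact Or.inl hor
  right
  set r' := z₀ * y * r₀ * (z₀ * y)⁻¹
  have hpos : ∀ l A B, r = fac l A → r' = fac l B → False := by
    intro l A B hA hB
    have husim : Sim σ (gramT G (t + 1)) (u : Matrix (Fin (t + 1) → Fin m) (Fin (t + 1) → Fin m) F) := by
      refine C.hyp.sim u ?_
      rw [hu]; exact X.pow_mem (X.mul_mem hrX (X.mul_mem (X.mul_mem hhX hr₀X) (X.inv_mem hhX))) _
    rw [hA, hB, ← map_mul, ← map_pow] at hu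
    rw [hu] at husim
    refine hs (std_of_commute_inv C hsX (i := l) (B := (A * B) ^ 2 ^ n) (sim_of_fac C.space husim) ?_ (fun h1 => hu1 (by rw [hu, h1, map_one]))
      (hu ▸ hus.symm))
    exact fac_injective C.space.three' l (by rw [map_mul, ← hu, hu2, map_one])
  refine ⟨hpos, s, hsX, hs, hsS, ?_⟩
  have hr' : IsURoot σ G r' := isURoot_of_conj C hr₀ hhX hstd
  obtain ⟨i, v, φ, hvφ, -, -, hi⟩ := hr.1.exists_fac
  obtain ⟨k, w, ψ, hwψ, -, -, hk⟩ := hr'.1.exists_fac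
  have hcomm : Commute r r' := by
    by_cases hik : i = k
    · subst hik; exact (hpos i _ _ hi hk).elim
    · rw [hi, hk]; exact fac_commute hik _ _
  have hqq : (r * r') * (r * r') = 1 := by
    rw [hcomm.symm.mul_mul_mul_comm, TensorWreath.root_sq hr.1, TensorWreath.root_sq hr'.1, one_mul]
  rcases n with _ | n
  · rw [pow_zero, pow_one] at hu
    exact hu ▸ hus.symm
  · exact absurd (by rw [hu, pow_succ', pow_mul, pow_two, hqq, one_pow]) hu1


/-- The centraliser of a product of two roots on different factors is standard. -/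
theorem std_of_commute_two (C : Ctx σ G X) {y : GL (Fin (t + 1) → Fin m) F} (hy : y ∈ X) {r₁ r₂ : GL (Fin (t + 1) → Fin m) F}
    (h₁ : IsURoot σ G r₁) (h₂ : IsURoot σ G r₂) (hpos : ∀ l A B, r₁ = fac l A → r₂ = fac l B → False)
    (hc : Commute y (r₁ * r₂)) : IsStd y := by
  classical
  by_contra hys
  have K := C.space
  have hm := K.three'
  obtain ⟨i, v, c, hvφ, hv, hvv, hc0, hcs, rfl⟩ := h₁.exists_fac K
  obtain ⟨j, w, d, hwψ, hw, hww, hd0, hds, rfl⟩ := h₂.exists_fac K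
  have hij : i ≠ j := fun e => by subst e; exact hpos _ _ _ rfl rfl
  have hφ : c • phi σ G v ≠ 0 := smul_ne_zero hc0 (K.gram.phi_ne_zero hv)
  set T := TensorWreath.trv v (c • phi σ G v) hvφ
  set U := TensorWreath.trv w (d • phi σ G w) hwψ
  obtain ⟨v', c', hv'0, hv'v, hc'0, hc's, hvv', hne⟩ := exists_second K hv hvv hc0 hcs
  have hv'φ : (c' • phi σ G v') ⬝ᵥ v' = 0 := by rw [smul_dotProduct, phi_dot, hv'v, smul_zero]
  set T' := TensorWreath.trv v' (c' • phi σ G v') hv'φ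
  have hTT' : Commute T T' := by
    refine Units.ext ?_
    show (1 + Matrix.vecMulVec v (c • phi σ G v)) * (1 + Matrix.vecMulVec v' (c' • phi σ G v')) =
      (1 + Matrix.vecMulVec v' (c' • phi σ G v')) * (1 + Matrix.vecMulVec v (c • phi σ G v))
    simp only [add_mul, mul_add, one_mul, mul_one, Matrix.vecMulVec_smul, smul_mul_assoc, mul_smul_comm,
      vecMulVec_phi_mul, hvv', K.gram.ip_eq_zero_symm hvv', zero_smul, smul_zero, add_zero]
    abel
  have hT'T : T' ≠ T := fun e => hne (by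
    have h1 := add_left_cancel (show 1 + Matrix.vecMulVec v' (c' • phi σ G v') = 1 + Matrix.vecMulVec v (c • phi σ G v)
      from congrArg Units.val e)
    rwa [Matrix.vecMulVec_smul, Matrix.vecMulVec_smul] at h1)
  have hr₀ : IsURoot σ G (fac i T') := isURoot_fac K hv'0 hv'v hc'0 hc's _ i
  obtain ⟨h, hhX, hh, hhS, hor⟩ := root_conj C {fac i T * fac j U} hy hys
    (by rintro z rfl; exact hc.symm) h₁ hr₀
    (by rintro z rfl; exact ((Commute.refl _).mul_left (fac_commute hij T U).symm))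
    (by rintro z rfl; exact ((hTT'.map (fac i)).mul_left (fac_commute hij T' U).symm))
  obtain ⟨π, gs, eh⟩ := hh.hasPerm
  have hcw : Commute h (fac i T * fac j U) := (hhS _ rfl).symm
  rcases TensorWreath.perm_roots hm eh hij hvφ hwψ hv hφ hcw with ⟨hπ, hfix⟩ | ⟨hπ, hmove⟩
  · rcases hor with e | ⟨hp, -⟩
    · rw [← hfix] at e
      exact hT'T (fac_injective hm i (mul_left_cancel (mul_right_cancel e)))
    · refine hp i T (gs i * T' * (gs i)⁻¹) rfl ?_
      rw [conj_fac eh, hπ]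
  · have hr' : h * fac i T' * h⁻¹ = fac j (gs j * T' * (gs j)⁻¹) := by rw [conj_fac eh, hπ]
    have hU : gs j * T * (gs j)⁻¹ = U := fac_injective hm j (by rw [← hmove, conj_fac eh, hπ])
    set U' := gs j * T' * (gs j)⁻¹
    rcases hor with e | ⟨-, s, hsX, hs, hsS, hsc⟩
    · rw [hr'] at e
      obtain ⟨c, hc'⟩ := pureGL_eq hm (show pureGL (Function.update 1 i T) = pureGL (Function.update 1 j U') from
        e.symm) i
      rw [Function.update_self, Function.update_of_ne hij, Pi.one_apply, Units.val_one] at hc'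
      exact trv_not_scalar hm hvφ hv hφ c hc'
    · rw [hr'] at hsc
      have hUU' : Commute U U' := by rw [← hU]; exact hTT'.map (MulAut.conj (gs j))
      have hne' : U * U' ≠ 1 := fun e => by
        have h1 : U⁻¹ = U' := inv_eq_of_mul_eq_one_right e
        rw [inv_eq_of_mul_eq_one_right (fac_injective hm j (by rw [map_mul, TensorWreath.root_sq h₂.1, map_one])), ← hU] at h1
        exact hT'T (mul_left_cancel (mul_right_cancel h1)).symm
      have hsw : Commute s (fac i T * fac j U) := (hsS _ rfl).symm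
      have key : fac i T * fac j U * (fac i T * fac j U') = fac j (U * U') := by
        rw [(fac_commute hij T U).eq, mul_assoc, ← mul_assoc (fac i T), TensorWreath.root_sq h₁.1, one_mul, ← map_mul]
      have hroot : IsRoot (h * fac i T' * h⁻¹) := hr₀.1.conj hh
      rw [hr'] at hroot
      refine hs (std_of_commute_inv C hsX (i := j) ?_ ?_ hne' (key ▸ hsw.mul_right hsc))
      · refine sim_of_fac K (l := j) (C.hyp.sim _ ?_)
        rw [← key, ← hr']
        exact X.mul_mem (X.mul_mem (h₁.mem C) (h₂.mem C))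
          (X.mul_mem (h₁.mem C) (X.mul_mem (X.mul_mem hhX (hr₀.mem C)) (X.inv_mem hhX)))
      refine fac_injective hm j ?_
      rw [map_mul, map_mul, map_one, (hUU'.map (fac j)).symm.mul_mul_mul_comm, TensorWreath.root_sq hroot, mul_one, TensorWreath.root_sq h₂.1]

/-- In characteristic two every element of the overgroup is standard. -/
theorem isStd_of_even (C : Ctx σ G X) {g₀ : GL (Fin (t + 1) → Fin m) F} (hg₀ : g₀ ∈ X) : IsStd g₀ := by
  classical
  have K := C.space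
  have hm := K.three'
  haveI : NeZero m := ⟨by omega⟩
  haveI : Fact (Nat.Prime 2) := ⟨Nat.prime_two⟩
  obtain ⟨v₀, hv₀, hv₀₀⟩ := K.exists_isotropic
  obtain ⟨i, j, hij⟩ : ∃ i j : Fin (t + 1), i ≠ j :=
    ⟨⟨0, by omega⟩, ⟨1, by have := C.two; omega⟩, by simp [Fin.ext_iff]⟩
  have h01 : ((1 : F) • phi σ G v₀) ⬝ᵥ v₀ = 0 := by rw [smul_dotProduct, phi_dot, hv₀₀, smul_zero]
  have hφ₀ : (1 : F) • phi σ G v₀ ≠ 0 := smul_ne_zero one_ne_zero (K.gram.phi_ne_zero hv₀)
  set T := TensorWreath.trv v₀ ((1 : F) • phi σ G v₀) h01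
  set r := fac i T
  have hr : IsURoot σ G r := isURoot_fac K hv₀ hv₀₀ one_ne_zero (map_one σ) h01 i
  have hrj : IsURoot σ G (fac j T) := isURoot_fac K hv₀ hv₀₀ one_ne_zero (map_one σ) h01 j
  set w := r * fac j T
  have hpos : ∀ l A B, r = fac l A → fac j T = fac l B → False := by
    intro l A B hA hB
    by_cases hli : l = i
    · subst hli
      obtain ⟨c, hc⟩ := pureGL_eq hm (show pureGL (Function.update 1 j T) = pureGL (Function.update 1 l B) from hB) j
      rw [Function.update_self, Function.update_of_ne hij.symm, Pi.one_apply, Units.val_one] at hc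
      exact trv_not_scalar hm h01 hv₀ hφ₀ c hc
    · obtain ⟨c, hc⟩ := pureGL_eq hm (show pureGL (Function.update 1 i T) = pureGL (Function.update 1 l A) from hA) i
      rw [Function.update_self, Function.update_of_ne (Ne.symm hli), Pi.one_apply, Units.val_one] at hc
      exact trv_not_scalar hm h01 hv₀ hφ₀ c hc
  have hw2 : w * w = 1 := by
    rw [show w * w = r * r * (fac j T * fac j T) from (fac_commute hij T T).symm.mul_mul_mul_comm _ _,
      TensorWreath.root_sq hr.1, TensorWreath.root_sq hrj.1, one_mul]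
  have hwX : w ∈ X := X.mul_mem (hr.mem C) (hrj.mem C)
  by_cases hall : ∀ g ∈ X, IsStd (g * w * g⁻¹)
  · obtain ⟨x, d, hx0, hx, hd, H, hH, hHi, hHg⟩ := K.isolate
      (P := fun A => ∃ H : GL (Fin m) F, (H : Matrix (Fin m) (Fin m) F) = 1 + A ∧
        IsIso σ (gramT G (t + 1)) (fac i H : Matrix (Fin (t + 1) → Fin m) (Fin (t + 1) → Fin m) F) ∧
        ∀ g ∈ X, IsStd (g * fac i H * g⁻¹)) (fun A B => by
        rintro ⟨H, hH, hHi, hHg⟩ ⟨H', hH', hH'i, hH'g⟩ hAB
        refine ⟨H * H', ?_, ?_, fun g hg => ?_⟩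
        · rw [Units.val_mul, hH, hH', mul_add, mul_one, add_mul, one_mul, hAB, add_zero, add_assoc]
        · rw [map_mul, Units.val_mul]; exact IsIso.mul (isGram_gramT K.gram _) hHi hH'i
        · rw [map_mul, show g * (fac i H * fac i H') * g⁻¹ = (g * fac i H * g⁻¹) * (g * fac i H' * g⁻¹) by group]
          exact (hHg g hg).mul (hH'g g hg)) hv₀ hv₀₀ (fun e' he'0 he' hee' => by
        obtain ⟨h, hh, hhe⟩ := K.move_iso hv₀ he'0 hv₀₀ he'
        have e1 : fac i (T * (hh.gl * T * hh.gl⁻¹)) = w * (fac i hh.gl * w * (fac i hh.gl)⁻¹) := by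
          have hcj : ∀ A, Commute (fac i A) (fac j T) := fun A => fac_commute hij A T
          rw [show fac i hh.gl * w * (fac i hh.gl)⁻¹ = fac i (hh.gl * T * hh.gl⁻¹) * fac j T by
            show fac i hh.gl * (fac i T * fac j T) * (fac i hh.gl)⁻¹ = _
            rw [map_mul, map_mul, map_inv, mul_assoc, mul_assoc (fac i T), ← (hcj hh.gl).inv_left.eq]
            simp only [mul_assoc]]
          rw [show w * (fac i (hh.gl * T * hh.gl⁻¹) * fac j T) =
              fac i T * fac i (hh.gl * T * hh.gl⁻¹) * (fac j T * fac j T) from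
            (hcj (hh.gl * T * hh.gl⁻¹)).symm.mul_mul_mul_comm _ _, TensorWreath.root_sq hrj.1, mul_one, ← map_mul]
        refine ⟨T * (hh.gl * T * hh.gl⁻¹), ?_, ?_, fun g hg => ?_⟩
        · show (1 + Matrix.vecMulVec v₀ ((1 : F) • phi σ G v₀)) *
            (h * (1 + Matrix.vecMulVec v₀ ((1 : F) • phi σ G v₀)) * adj σ G G h) = _
          rw [one_smul, mul_add h, mul_one, add_mul h, hh.mul_adj, show h * vecMulVec v₀ (phi σ G v₀) * adj σ G G h =
            sqr σ G e' by rw [← hhe]; exact hh.conj_sqr K.gram v₀]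
          show (1 + sqr σ G v₀) * (1 + sqr σ G e') = _
          rw [mul_add, mul_one, add_mul, one_mul, show sqr σ G v₀ * sqr σ G e' = 0 by
            rw [sqr, sqr, vecMulVec_phi_mul, hee', zero_smul], add_zero,
            show sqr σ G e' - sqr σ G v₀ = sqr σ G e' + sqr σ G v₀ by
              ext a b; exact CharTwo.sub_eq_add _ _]
          abel
        · rw [e1]
          simp only [Units.val_mul]
          have hG := isGram_gramT K.gram (t + 1)
          have hwi : IsIso σ (gramT G (t + 1)) (w : Matrix (Fin (t + 1) → Fin m) (Fin (t + 1) → Fin m) F) := by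
            rw [Units.val_mul]; exact IsIso.mul hG hr.2 hrj.2
          exact IsIso.mul hG hwi (IsIso.conj hG (isIso_fac K.gram hh i).sim hwi)
        · rw [e1, show g * (w * (fac i hh.gl * w * (fac i hh.gl)⁻¹)) * g⁻¹ =
            (g * w * g⁻¹) * (g * fac i hh.gl * w * (g * fac i hh.gl)⁻¹) by group]
          exact (hall g hg).mul (hall _ (X.mul_mem hg (C.hyp.base i h hh))))
    have hxφ : (d • phi σ G x) ⬝ᵥ x = 0 := by rw [smul_dotProduct, phi_dot, hx, smul_zero]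
    have hHr : IsRoot (fac i H) := by
      rw [show H = TensorWreath.trv x (d • phi σ G x) hxφ from Units.ext (by
        rw [hH]; show _ = 1 + Matrix.vecMulVec x _; rw [Matrix.vecMulVec_smul]; rfl)]
      exact isRoot_fac_trv i hxφ hx0 (smul_ne_zero hd (K.gram.phi_ne_zero hx0))
    exact isStd_of_conj_root C ⟨hHr, hHi⟩ hg₀ (hHg g₀ hg₀)
  exfalso
  push Not at hall
  obtain ⟨g, hg, hx⟩ := hall
  set x := g * w * g⁻¹
  have hxX : x ∈ X := X.mul_mem (X.mul_mem hg hwX) (X.inv_mem hg)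
  have hx2 : x * x = 1 := by
    rw [show x * x = g * (w * w) * g⁻¹ by simp only [x]; group, hw2, mul_one, mul_inv_cancel]
  obtain ⟨z, hz, hP, hor⟩ := exists_two_power (TensorWreath.root_sq hr.1) hx2
  have hrX := hr.mem C
  have hzX : z ∈ X := (Subgroup.zpowers_le.2 (X.mul_mem hrX hxX)) hz
  set y := z * g
  have hyX : y ∈ X := X.mul_mem hzX hg
  have e : z * x * z⁻¹ = y * w * y⁻¹ := by simp only [x, y]; group
  rw [e] at hP hor
  have hPX : Subgroup.closure {r, y * w * y⁻¹} ≤ X := (Subgroup.closure_le X).2 (by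
    rintro a (rfl | rfl)
    · exact hrX
    · exact X.mul_mem (X.mul_mem hyX hwX) (X.inv_mem hyX))
  have hPstd := std_of_pGroup C hP hPX hr (Subgroup.subset_closure (Set.mem_insert _ _))
  have hx'P : y * w * y⁻¹ ∈ Subgroup.closure {r, y * w * y⁻¹} :=
    Subgroup.subset_closure (Set.mem_insert_of_mem _ rfl)
  rcases hor with hor | ⟨u, hu1, hu2, hur, hux, n, hu, hn⟩
  · have h1 : y⁻¹ * r * y⁻¹⁻¹ = w := by rw [← hor]; group
    have hw : IsRoot w := h1 ▸ (isURoot_of_conj C hr (X.inv_mem hyX) (h1 ▸ hr.isStd.mul hrj.isStd)).1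
    obtain ⟨l, v', φ', hl, -, -, hwl⟩ := hw.exists_fac
    have hmul : pureGL (Function.update (1 : Fin (t + 1) → GL (Fin m) F) i T * Function.update (1 : Fin (t + 1) → GL (Fin m) F) j T) =
        pureGL (Function.update 1 l (TensorWreath.trv v' φ' hl)) := by
      rw [← pureGL_mul]; exact hwl
    by_cases hli : l = i
    · subst hli
      obtain ⟨c, hc⟩ := pureGL_eq hm hmul j
      rw [Pi.mul_apply, Function.update_self, Function.update_of_ne hij.symm, Function.update_of_ne hij.symm,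
        Pi.one_apply, one_mul, Units.val_one] at hc
      exact trv_not_scalar hm h01 hv₀ hφ₀ c hc
    · obtain ⟨c, hc⟩ := pureGL_eq hm hmul i
      rw [Pi.mul_apply, Function.update_self, Function.update_of_ne hij, Function.update_of_ne (Ne.symm hli),
        Pi.one_apply, mul_one, Units.val_one] at hc
      exact trv_not_scalar hm h01 hv₀ hφ₀ c hc
  have hu_perm : HasPerm u 1 := by
    have hr1 := hr.1.hasPerm_one
    rcases n with _ | n
    · have hcomm := hn rfl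
      rw [hu, pow_zero, pow_one]
      have h1 : Commute (y⁻¹ * r * y) w := by
        have h2 := hcomm.map (MulAut.conj y⁻¹)
        simp only [MulAut.conj_apply, inv_inv] at h2
        rwa [show y⁻¹ * (y * w * y⁻¹) * y = w by group] at h2
      have h3 : IsStd (y⁻¹ * r * y⁻¹⁻¹) := by
        rw [inv_inv]
        exact std_of_commute_two C (X.mul_mem (X.mul_mem (X.inv_mem hyX) hrX) hyX) hr hrj hpos h1
      have hys : IsStd y := by simpa using (isStd_of_conj_root C hr (X.inv_mem hyX) h3).inv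
      obtain ⟨π, hπ⟩ := hys.hasPerm
      have hw1 : HasPerm w 1 := by
        have := (hasPerm_fac (F := F) i T).mul (hasPerm_fac j T)
        rwa [one_mul] at this
      have := hr1.mul ((hπ.mul hw1).mul hπ.inv)
      rwa [mul_one, mul_inv_cancel, one_mul] at this
    · obtain ⟨π, hπ⟩ := (hPstd _ hx'P).hasPerm
      have h2 : (y * w * y⁻¹) * (y * w * y⁻¹) = 1 := by
        rw [show (y * w * y⁻¹) * (y * w * y⁻¹) = y * (w * w) * y⁻¹ by group, hw2, mul_one, mul_inv_cancel]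
      have hπ2 : π * π = 1 := by
        have h3 := hπ.mul hπ
        rw [h2] at h3
        exact h3.unique hm hasPerm_one
      have h4 := (hr1.mul hπ).pow (2 ^ (n + 1))
      rw [one_mul, show π ^ 2 ^ (n + 1) = 1 by rw [pow_succ', pow_mul, pow_two, hπ2, one_pow]] at h4
      rw [hu]
      exact h4
  obtain ⟨gs, hgs⟩ := hu_perm
  rw [permGL_one, mul_one] at hgs
  have hsq : ∀ l, ∃ d : F, d ≠ 0 ∧ ((gs l * gs l : GL (Fin m) F) : Matrix (Fin m) (Fin m) F) = (d * d) • 1 := by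
    intro l
    have h1 : pureGL (gs * gs) = pureGL (1 : Fin (t + 1) → GL (Fin m) F) := by
      rw [← pureGL_mul, ← hgs, hu2, pureGL_one]
    obtain ⟨c, hc⟩ := pureGL_eq hm h1 l
    rw [Pi.one_apply, Units.val_one, Pi.mul_apply] at hc
    have hc0 : c ≠ 0 := fun h => Units.ne_zero (gs l * gs l) (by rw [hc, h, zero_smul])
    obtain ⟨d, hd⟩ := FiniteField.isSquare_of_char_two (ringChar.eq F 2) c
    exact ⟨d, fun h => hc0 (by rw [hd, h, mul_zero]), by rw [hc, hd]⟩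
  choose d hd0 hd using hsq
  let bs : Fin (t + 1) → GL (Fin m) F := fun l =>
    Units.mk ((d l)⁻¹ • (gs l : Matrix (Fin m) (Fin m) F)) ((d l)⁻¹ • (gs l : Matrix (Fin m) (Fin m) F))
      (by rw [smul_mul_smul_comm, ← Units.val_mul, hd, smul_smul, ← mul_inv, inv_mul_cancel₀ (mul_ne_zero (hd0 l) (hd0 l)), one_smul])
      (by rw [smul_mul_smul_comm, ← Units.val_mul, hd, smul_smul, ← mul_inv, inv_mul_cancel₀ (mul_ne_zero (hd0 l) (hd0 l)), one_smul])
  have hbs2 : ∀ l, bs l * bs l = 1 := fun l => Units.ext (bs l).val_inv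
  have hbu : u = pureGL bs := by
    have h1 : (u : Matrix (Fin (t + 1) → Fin m) (Fin (t + 1) → Fin m) F) =
        (∏ l, d l) • (pureGL bs : Matrix (Fin (t + 1) → Fin m) (Fin (t + 1) → Fin m) F) := by
      rw [hgs]
      ext a b
      show ∏ l, (gs l : Matrix (Fin m) (Fin m) F) (a l) (b l) =
        (∏ l, d l) * ∏ l, ((d l)⁻¹ • (gs l : Matrix (Fin m) (Fin m) F)) (a l) (b l)
      rw [← Finset.prod_mul_distrib]
      exact Finset.prod_congr rfl fun l _ => by rw [Matrix.smul_apply, smul_eq_mul, mul_inv_cancel_left₀ (hd0 l)]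
    have h2 : pureGL bs * pureGL bs = 1 := by
      rw [pureGL_mul, show bs * bs = 1 from funext hbs2, pureGL_one]
    have h3 := congrArg Units.val hu2
    rw [Units.val_mul, h1, smul_mul_smul_comm, ← Units.val_mul, h2, Units.val_one] at h3
    have h4 := congrFun (congrFun h3 (fun _ => 0)) (fun _ => 0)
    simp at h4
    have h5 : (∏ l, d l) = 1 := by
      have h6 : ((∏ l, d l) - 1) * ((∏ l, d l) - 1) = 0 := by
        linear_combination h4 + (-(∏ l, d l) + 1) * (CharTwo.two_eq_zero (R := F))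
      exact sub_eq_zero.1 (mul_self_eq_zero.1 h6)
    exact Units.ext (by rw [h1, h5, one_smul])
  obtain ⟨l, hl⟩ : ∃ l, bs l ≠ 1 := by
    by_contra! h
    exact hu1 (by rw [hbu, show bs = 1 from funext h, pureGL_one])
  set B := (bs l : Matrix (Fin m) (Fin m) F)
  set N := B - 1
  have hN2 : N * N = 0 := sub_one_sq (hbs2 l)
  have hN0 : N ≠ 0 := fun h => hl (Units.ext (sub_eq_zero.1 h))
  have huX : u ∈ X := by
    rw [hu]; exact X.pow_mem (X.mul_mem hrX (X.mul_mem (X.mul_mem hyX hwX) (X.inv_mem hyX))) _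
  have hBa : adj σ G G B = B := adj_eq_of_inv K (sim_of_pure K (hbu ▸ C.hyp.sim u huX) l) (hbs2 l)
  have hNa : adj σ G G N = N := by rw [adj_sub, hBa, adj_one K.gram]
  obtain ⟨v₁, c₁, v₂, c₂, hv₁, hv₁₁, hc₁, hc₁s, hNv₁, hv₂, hv₂₂, hc₂, hc₂s, hNv₂, hno⟩ := exists_pair K hN0 hNa hN2
  have hd₁ : (c₁ • phi σ G v₁) ⬝ᵥ v₁ = 0 := by rw [smul_dotProduct, phi_dot, hv₁₁, smul_zero]
  have hd₂ : (c₂ • phi σ G v₂) ⬝ᵥ v₂ = 0 := by rw [smul_dotProduct, phi_dot, hv₂₂, smul_zero]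
  set T₁ := TensorWreath.trv v₁ (c₁ • phi σ G v₁) hd₁
  set T₂ := TensorWreath.trv v₂ (c₂ • phi σ G v₂) hd₂
  have hr₁ := isURoot_fac (t := t + 1) K hv₁ hv₁₁ hc₁ hc₁s hd₁ l
  have hr₂ := isURoot_fac (t := t + 1) K hv₂ hv₂₂ hc₂ hc₂s hd₂ l
  have hcomm : ∀ (v : Fin m → F) (c : F) (hd : (c • phi σ G v) ⬝ᵥ v = 0), N *ᵥ v = 0 →
      Commute u (fac l (TensorWreath.trv v (c • phi σ G v) hd)) := by
    intro v c hd hNv
    have hBv : B *ᵥ v = v := by
      rw [show B = N + 1 by simp [N], Matrix.add_mulVec, Matrix.one_mulVec, hNv, zero_add]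
    have hφB : (c • phi σ G v) ᵥ* B = c • phi σ G v := by
      rw [Matrix.smul_vecMul, ← hBa, ← phi_mulVec K.gram, hBv]
    have hc : Commute (bs l) (TensorWreath.trv v (c • phi σ G v) hd) := by
      refine Units.ext ?_
      show B * (1 + Matrix.vecMulVec v _) = (1 + Matrix.vecMulVec v _) * B
      rw [mul_add, mul_one, add_mul, one_mul, Matrix.mul_vecMulVec, hBv, Matrix.vecMulVec_mul, hφB]
    rw [hbu]
    show pureGL bs * fac l _ = fac l _ * pureGL bs
    rw [fac_apply, pureGL_mul, pureGL_mul]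
    congr 1
    funext k
    by_cases hk : k = l
    · subst hk; simpa using hc.eq
    · simp [Function.update_of_ne hk]
  obtain ⟨h, hhX, hh, hhS, hor'⟩ := root_conj C {u} hxX hx (by rintro a rfl; exact hux) hr₂ hr₁
    (by rintro a rfl; exact hcomm _ _ _ hNv₂) (by rintro a rfl; exact hcomm _ _ _ hNv₁)
  rcases hor' with heq | ⟨hp, s, hsX, hs, -, hsc⟩
  swap
  · exact hs (std_of_commute_two C hsX hr₂ (hr₁.conj K.gram hh (C.hyp.sim h hhX)) hp hsc)
  obtain ⟨π, hs', eh⟩ := hh.hasPerm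
  rw [conj_fac eh] at heq
  have hπl : π l = l := by
    by_contra hπ
    obtain ⟨c, hc⟩ := pureGL_eq hm (show pureGL (Function.update 1 l T₂) =
      pureGL (Function.update 1 (π l) (hs' (π l) * T₁ * (hs' (π l))⁻¹)) from heq.symm) l
    rw [Function.update_self, Function.update_of_ne (Ne.symm hπ), Pi.one_apply, Units.val_one] at hc
    exact trv_not_scalar hm hd₂ hv₂ (smul_ne_zero hc₂ (K.gram.phi_ne_zero hv₂)) c hc
  rw [hπl] at heq
  set g₁ := hs' l
  have hG : g₁ * T₁ * g₁⁻¹ = T₂ := fac_injective hm l heq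
  have hGB : g₁ * bs l = bs l * g₁ := by
    have h1 : h * pureGL bs * h⁻¹ = pureGL bs := by
      rw [← hbu, (hhS u rfl).symm.eq, mul_inv_cancel_right]
    rw [conj_pureGL eh] at h1
    obtain ⟨c, hc⟩ := pureGL_eq hm h1 l
    rw [show π⁻¹ l = l from π.injective (by simp [hπl])] at hc
    have h2 : (((g₁ * bs l * g₁⁻¹) * (g₁ * bs l * g₁⁻¹) : GL (Fin m) F) : Matrix (Fin m) (Fin m) F) = (c * c) • 1 := by
      rw [Units.val_mul, hc, smul_mul_smul_comm, ← Units.val_mul, hbs2, Units.val_one]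
    rw [show (g₁ * bs l * g₁⁻¹) * (g₁ * bs l * g₁⁻¹) = g₁ * (bs l * bs l) * g₁⁻¹ by group, hbs2, mul_one, mul_inv_cancel,
      Units.val_one] at h2
    have h3 := congrFun (congrFun h2 0) 0
    simp at h3
    have hc1 : c = 1 := by
      have h6 : (c - 1) * (c - 1) = 0 := by linear_combination -h3 + (-c + 1) * (CharTwo.two_eq_zero (R := F))
      exact sub_eq_zero.1 (mul_self_eq_zero.1 h6)
    rw [hc1, one_smul] at hc
    exact mul_inv_eq_iff_eq_mul.1 (Units.ext hc)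
  have hNG : (g₁ : Matrix (Fin m) (Fin m) F) * N = N * (g₁ : Matrix (Fin m) (Fin m) F) := by
    rw [sub_mul, mul_sub, one_mul, mul_one, ← Units.val_mul, ← Units.val_mul, hGB]
  refine hno g₁ (sim_of_hasPerm K eh (C.hyp.sim h hhX) l) hNG ?_
  have h1 : (g₁ : Matrix (Fin m) (Fin m) F) * (1 + Matrix.vecMulVec v₁ (c₁ • phi σ G v₁)) *
      ((g₁⁻¹ : GL (Fin m) F) : Matrix (Fin m) (Fin m) F) = 1 + Matrix.vecMulVec v₂ (c₂ • phi σ G v₂) :=
    congrArg Units.val hG
  rw [mul_add, mul_one, add_mul, Units.mul_inv, Matrix.vecMulVec_smul, Matrix.vecMulVec_smul] at h1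
  exact add_left_cancel h1

end CfsgLib.Geo.UnitWreath
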