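/-
An overgroup without monomial elements consists of standard elements.
-/
import Cfsg.Agent.Lib.Geo.UnitWreath.Even

set_option autoImplicit false

namespace CfsgLib.Geo.UnitWreath

open Matrix CfsgLib.Geo.SpinTensor CfsgLib.Geo.TensorWreath

variable {F : Type*} [Field F] [Fintype F] {σ : F →+* F} {m : ℕ} {G : Matrix (Fin m) (Fin m) F}

/-- Without monomial elements every element of the overgroup is standard. -/
theorem isStd_of_noZ (K : Space σ G) {t : ℕ} (ht : 1 ≤ t) (X : Subgroup (GL (Fin t → Fin m) F))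
    (H : Hyp σ G X) (hX : NoZ σ G X) : ∀ y ∈ X, IsStd y := by
  induction t, ht using Nat.le_induction with
  | base => exact fun y _ => isStd_fin_one y
  | succ t ht IH =>
    intro y hy
    have C : Ctx σ G X := H.ctx_of K hX IH ht
    rcases eq_or_ne (2 : F) 0 with h2 | h2
    · haveI : CharP F 2 := CharTwo.of_one_ne_zero_of_two_eq_zero one_ne_zero h2
      exact isStd_of_even C hy
    · exact isStd_of_odd C h2 hy

/-- A non-standard element yields a monomial element on two or more factors. -/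
theorem exists_mono_of_not_std (K : Space σ G) {t : ℕ} (ht : 1 ≤ t) {X : Subgroup (GL (Fin t → Fin m) F)}
    (H : Hyp σ G X) {y : GL (Fin t → Fin m) F} (hy : y ∈ X) (hys : ¬ IsStd y) :
    ∃ x ∈ X, ∃ (J : Finset (Fin t)) (e : Fin t → Fin m → F) (c : F), 2 ≤ J.card ∧
      (∀ l, e l ≠ 0 ∧ ip σ G (e l) (e l) = 0) ∧ c ≠ 0 ∧
      (x : Matrix (Fin t → Fin m) (Fin t → Fin m) F) = 1 + c • mono σ G e J := by
  by_contra h
  refine hys (isStd_of_noZ K ht X H (fun x hx J e c hJ he hc ex => h ⟨x, hx, J, e, c, hJ, he, hc, ex⟩) y hy)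

end CfsgLib.Geo.UnitWreath
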