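/-
Monomial elements grow to all the factors.
-/
import Cfsg.Agent.Lib.Geo.UnitWreath.Main

set_option autoImplicit false
set_option linter.unusedSectionVars false

namespace CfsgLib.Geo.UnitWreath

open Matrix CfsgLib.Geo.SpinTensor CfsgLib.Geo.TensorWreath

variable {F : Type*} [Field F] {σ : F →+* F} {t m : ℕ} {G : Matrix (Fin m) (Fin m) F}

/-- The group has a monomial element on a set of factors. -/
def HasMono (σ : F →+* F) (G : Matrix (Fin m) (Fin m) F) (X : Subgroup (GL (Fin t → Fin m) F))
    (J : Finset (Fin t)) : Prop :=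
  ∃ x ∈ X, ∃ (e : Fin t → Fin m → F) (c : F), (∀ l, e l ≠ 0 ∧ ip σ G (e l) (e l) = 0) ∧ c ≠ 0 ∧
    (x : Matrix (Fin t → Fin m) (Fin t → Fin m) F) = 1 + c • mono σ G e J

theorem emb_mul_pure (l : Fin t) (A : Matrix (Fin m) (Fin m) F) (g : Fin t → Matrix (Fin m) (Fin m) F) :
    SpinTensor.emb l A * SpinTensor.pure g = SpinTensor.pure (Function.update g l (A * g l)) := by
  rw [emb_eq_pure, pure_mul]
  congr 1
  funext k
  by_cases hk : k = l
  · subst hk; simp
  · simp [Function.update_of_ne hk]

theorem pure_mul_emb' (l : Fin t) (A : Matrix (Fin m) (Fin m) F) (g : Fin t → Matrix (Fin m) (Fin m) F) :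
    SpinTensor.pure g * SpinTensor.emb l A = SpinTensor.pure (Function.update g l (g l * A)) := by
  rw [emb_eq_pure, pure_mul]
  congr 1
  funext k
  by_cases hk : k = l
  · subst hk; simp
  · simp [Function.update_of_ne hk]

theorem pure_update (l : Fin t) (A : Matrix (Fin m) (Fin m) F) (g : Fin t → Matrix (Fin m) (Fin m) F) :
    SpinTensor.pure (Function.update g l A) = SpinTensor.pure (Function.update g l 1) * SpinTensor.emb l A := by
  rw [pure_mul_emb', Function.update_idem, Function.update_self, one_mul]

theorem pure_update_add (l : Fin t) (A B : Matrix (Fin m) (Fin m) F) (g : Fin t → Matrix (Fin m) (Fin m) F) :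
    SpinTensor.pure (Function.update g l (A + B)) =
      SpinTensor.pure (Function.update g l A) + SpinTensor.pure (Function.update g l B) := by
  rw [pure_update, pure_update l A, pure_update l B, map_add, mul_add]

theorem pure_update_smul (l : Fin t) (c : F) (A : Matrix (Fin m) (Fin m) F) (g : Fin t → Matrix (Fin m) (Fin m) F) :
    SpinTensor.pure (Function.update g l (c • A)) = c • SpinTensor.pure (Function.update g l A) := by
  rw [pure_update, pure_update l A, map_smul, mul_smul_comm]

/-- The commutator of two unipotent elements of square zero with vanishing triple products. -/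
theorem commutator_one_add {n : Type} [Fintype n] [DecidableEq n] {A B : Matrix n n F} (hA : A * A = 0)
    (hB : B * B = 0) (hABA : A * B * A = 0) (hBAB : B * A * B = 0) :
    (1 + A) * (1 + B) * (1 - A) * (1 - B) = 1 + (A * B - B * A) := by
  simp only [add_mul, mul_add, sub_mul, mul_sub, one_mul, mul_one, hA, hB, hABA, hBAB, zero_mul, sub_zero, add_zero,
    mul_assoc A B B, mul_zero]
  abel

theorem val_inv_one_add {n : Type} [Fintype n] [DecidableEq n] {x : GL n F} {W : Matrix n n F}
    (e : (x : Matrix n n F) = 1 + W) (h : W * W = 0) : ((x⁻¹ : GL n F) : Matrix n n F) = 1 - W :=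
  Units.inv_eq_of_mul_eq_one_right (by rw [e]; exact one_add_mul_one_sub h)

variable {X : Subgroup (GL (Fin t → Fin m) F)} (H : Hyp σ G X) (K : Space σ G)
include H K

/-- The vectors of a monomial element can be any isotropic ones. -/
theorem HasMono.vectors [Finite F] {J : Finset (Fin t)} (h : HasMono σ G X J) (f : Fin t → Fin m → F)
    (hf : ∀ l, f l ≠ 0 ∧ ip σ G (f l) (f l) = 0) :
    ∃ x ∈ X, ∃ c : F, c ≠ 0 ∧ (x : Matrix (Fin t → Fin m) (Fin t → Fin m) F) = 1 + c • mono σ G f J := by
  classical
  obtain ⟨x, hx, e, c, he, hc, ex⟩ := h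
  suffices key : ∀ s : Finset (Fin t), ∃ x ∈ X, (x : Matrix (Fin t → Fin m) (Fin t → Fin m) F) =
      1 + c • mono σ G (fun l => if l ∈ s then f l else e l) J by
    obtain ⟨y, hy, ey⟩ := key Finset.univ
    exact ⟨y, hy, c, hc, by simpa using ey⟩
  intro s
  induction s using Finset.induction with
  | empty => exact ⟨x, hx, by simpa using ex⟩
  | @insert a s ha ih =>
    obtain ⟨y, hy, ey⟩ := ih
    obtain ⟨u, hu, hue⟩ := K.move_iso (he a).1 (hf a).1 (he a).2 (hf a).2
    refine ⟨fac a hu.gl * y * (fac a hu.gl)⁻¹, X.mul_mem (X.mul_mem (H.base a u hu) hy) (X.inv_mem (H.base a u hu)),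
      ?_⟩
    rw [← map_inv, Units.val_mul, Units.val_mul, val_fac, val_fac, hu.val_gl, hu.val_gl_inv, ey, mul_add, mul_one,
      add_mul, emb_mul_emb, hu.mul_adj, emb_one, mul_smul_comm, smul_mul_assoc, mono, mono, emb_mul_pure,
      pure_mul_emb', Function.update_idem, Function.update_self]
    congr 3
    funext l
    by_cases hl : l = a
    · subst hl
      rw [Function.update_self]
      by_cases hJ : l ∈ J
      · simp only [hJ, ha, if_true, if_false, Finset.mem_insert_self]
        rw [hu.conj_sqr K.gram, hue]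
      · simp only [hJ, if_false, mul_one, hu.mul_adj]
    · simp [Function.update_of_ne hl, Finset.mem_insert, hl]

/-- A permutation in the group moves the monomial elements. -/
theorem HasMono.perm {J : Finset (Fin t)} (h : HasMono σ G X J) {g : GL (Fin t → Fin m) F} (hg : g ∈ X)
    {π : Equiv.Perm (Fin t)} (hπ : HasPerm g π) : HasMono σ G X (J.map π.toEmbedding) := by
  classical
  obtain ⟨x, hx, e, c, he, hc, ex⟩ := h
  obtain ⟨gs, eg⟩ := hπ
  haveI : Nonempty (Fin m) := ⟨⟨0, by have := K.three'; omega⟩⟩
  have hsim := fun l => sim_of_hasPerm K eg (H.sim g hg) l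
  choose ν hν0 hν using hsim
  have hinv : ∀ l, (((gs l)⁻¹ : GL (Fin m) F) : Matrix (Fin m) (Fin m) F) =
      (ν l)⁻¹ • adj σ G G (gs l : Matrix (Fin m) (Fin m) F) := fun l =>
    left_inv_eq_right_inv (gs l).inv_mul (by
      rw [mul_smul_comm, Sim.mul_adj K.gram (hν0 l) (hν l), smul_smul, inv_mul_cancel₀ (hν0 l), one_smul])
  refine ⟨g * x * g⁻¹, X.mul_mem (X.mul_mem hg hx) (X.inv_mem hg),
    fun l => (gs l : Matrix (Fin m) (Fin m) F) *ᵥ e (π⁻¹ l),
    c * ∏ l, (if π⁻¹ l ∈ J then (ν l)⁻¹ else 1), fun l => ⟨gl_mulVec_ne_zero _ (he _).1, ?_⟩,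
    mul_ne_zero hc (Finset.prod_ne_zero_iff.2 fun l _ => by split_ifs <;> simp [hν0]), ?_⟩
  · rw [ip_mulVec_left K.gram, Matrix.mulVec_mulVec, hν, Matrix.smul_mulVec, Matrix.one_mulVec, ip_smul_right,
      (he _).2, mul_zero]
  have hp : ((permGL m F π : GL (Fin t → Fin m) F) : Matrix (Fin t → Fin m) (Fin t → Fin m) F) = SpinTensor.perm π :=
    rfl
  have hpi : (((permGL m F π)⁻¹ : GL (Fin t → Fin m) F) : Matrix (Fin t → Fin m) (Fin t → Fin m) F) =
      SpinTensor.perm π⁻¹ := by
    have : (permGL m F π)⁻¹ = permGL m F π⁻¹ := inv_eq_of_mul_eq_one_right (by rw [permGL_mul, mul_inv_cancel,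
      permGL_one])
    rw [this]; rfl
  rw [eg, show pureGL gs * permGL m F π * x * (pureGL gs * permGL m F π)⁻¹ =
      pureGL gs * (permGL m F π * x * (permGL m F π)⁻¹) * pureGL gs⁻¹ by rw [← pureGL_inv]; group,
    Units.val_mul, Units.val_mul, Units.val_mul, Units.val_mul, hp, hpi, ex, mul_add (SpinTensor.perm π), mul_one,
    add_mul (SpinTensor.perm π), perm_mul, mul_inv_cancel, perm_one, mul_smul_comm, smul_mul_assoc, mono,
    perm_mul_pure, mul_assoc (SpinTensor.pure _), perm_mul, mul_inv_cancel, perm_one, mul_one, mul_add, mul_one,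
    add_mul, ← Units.val_mul, pureGL_mul, mul_inv_cancel, pureGL_one, Units.val_one, mul_smul_comm, smul_mul_assoc,
    mul_smul, add_right_inj]
  congr 1
  show SpinTensor.pure (fun l => (gs l : Matrix (Fin m) (Fin m) F)) * SpinTensor.pure _ *
    SpinTensor.pure (fun l => (((gs l)⁻¹ : GL (Fin m) F) : Matrix (Fin m) (Fin m) F)) = _
  rw [pure_mul, pure_mul, mono]
  ext a b
  rw [pure_apply, Matrix.smul_apply, pure_apply, smul_eq_mul, ← Finset.prod_mul_distrib]
  refine Finset.prod_congr rfl fun l _ => ?_
  have hl : l ∈ J.map π.toEmbedding ↔ π⁻¹ l ∈ J := by simp [Equiv.Perm.inv_def, Finset.mem_map_equiv]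
  by_cases hJ : π⁻¹ l ∈ J
  · rw [if_pos hJ, if_pos hJ, if_pos (hl.2 hJ), ← smul_eq_mul (ν l)⁻¹, ← Matrix.smul_apply]
    congr 1
    rw [hinv, mul_smul_comm, sqr, Matrix.mul_vecMulVec, Matrix.vecMulVec_mul, ← phi_mulVec K.gram]
    rfl
  · rw [if_neg hJ, if_neg hJ, if_neg (fun h => hJ (hl.1 h)), mul_one, Units.mul_inv, one_mul]

/-- A monomial element on one more factor. -/
theorem HasMono.grow [Finite F] (ht : 3 ≤ t) {J : Finset (Fin t)} (hJ2 : 2 ≤ J.card) (h : HasMono σ G X J) {b : Fin t}
    (hb : b ∉ J) : HasMono σ G X (insert b J) := by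
  classical
  obtain ⟨a, ha⟩ : J.Nonempty := Finset.card_pos.1 (by omega)
  have hab : a ≠ b := fun h => hb (h ▸ ha)
  obtain ⟨e, he0, he⟩ := K.exists_isotropic
  obtain ⟨f, hef, hfe, hff, hf0⟩ := K.exists_partner he0 he
  obtain ⟨g, hg, hgp⟩ := H.perms ht (Equiv.swap a b)
  obtain ⟨x, hx, c, hc, ex⟩ := h.vectors H K (fun _ => e) fun _ => ⟨he0, he⟩
  obtain ⟨y, hy, d, hd, ey⟩ := (h.perm H K hg hgp).vectors H K (fun l => if l = b then e else f) fun l => by
    split_ifs
    · exact ⟨he0, he⟩
    · exact ⟨hf0, hff⟩
  set J' := J.map (Equiv.swap a b).toEmbedding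
  have hJ' : ∀ l, l ∈ J' ↔ (l = b ∨ (l ∈ J ∧ l ≠ a)) := by
    intro l
    rw [Finset.mem_map_equiv, Equiv.symm_swap]
    by_cases h1 : l = a
    · subst h1; simp [Equiv.swap_apply_left, hb, hab]
    by_cases h2 : l = b
    · subst h2; simp [Equiv.swap_apply_right, ha]
    simp [Equiv.swap_apply_of_ne_of_ne h1 h2, h1, h2]
  set L := J.erase a
  set E := sqr σ G e
  set P := vecMulVec e (phi σ G f)
  set Q := vecMulVec f (phi σ G e)
  have hEF : E * sqr σ G f = P := by simp only [E, P, sqr, vecMulVec_phi_mul, hef, one_smul]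
  have hFE : sqr σ G f * E = Q := by simp only [E, Q, sqr, vecMulVec_phi_mul, hfe, one_smul]
  have hEE : E * E = 0 := by simp only [E, sqr_mul_self, he, zero_smul]
  set gT : Matrix (Fin m) (Fin m) F → Finset (Fin t) → Fin t → Matrix (Fin m) (Fin m) F :=
    fun R rest l => if l ∈ rest then R else if l ∈ insert b J then E else 1 with hgT
  -- the first commutator
  set A := c • mono σ G (fun _ => e) J
  set B := d • mono σ G (fun l => if l = b then e else f) J'
  have hA2 : A * A = 0 := by
    simp only [A, smul_mul_smul_comm, mono_sq (J := J) ⟨a, ha⟩ fun _ _ => he, smul_zero]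
  have hB2 : B * B = 0 := by
    simp only [B, smul_mul_smul_comm, mono_sq (J := J') ⟨b, (hJ' b).2 (Or.inl rfl)⟩ (e := fun l => if l = b then e else f)
      (fun l _ => by split_ifs <;> assumption), smul_zero]
  have hABA : A * B * A = 0 := by
    simp only [A, B, smul_mul_smul_comm, mono, pure_mul]
    rw [pure_eq_zero a (by simp [ha, hJ', hab]; exact hEE), smul_zero]
  have hBAB : B * A * B = 0 := by
    simp only [A, B, smul_mul_smul_comm, mono, pure_mul]
    rw [pure_eq_zero b (by simp [hb, hJ']; exact hEE), smul_zero]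
  have start : ∃ x ∈ X, ∃ α β : F, α ≠ 0 ∧ β ≠ 0 ∧ (x : Matrix (Fin t → Fin m) (Fin t → Fin m) F) =
      1 + (α • SpinTensor.pure (gT P L) + β • SpinTensor.pure (gT Q L)) := by
    refine ⟨x * y * x⁻¹ * y⁻¹, X.mul_mem (X.mul_mem (X.mul_mem hx hy) (X.inv_mem hx)) (X.inv_mem hy), c * d,
      -(c * d), mul_ne_zero hc hd, neg_ne_zero.2 (mul_ne_zero hc hd), ?_⟩
    rw [Units.val_mul, Units.val_mul, Units.val_mul, val_inv_one_add ex hA2, val_inv_one_add ey hB2, ex, ey,
      commutator_one_add hA2 hB2 hABA hBAB, neg_smul, ← sub_eq_add_neg]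
    simp only [A, B, smul_mul_smul_comm, mono, pure_mul, mul_comm d c]
    congr 4 <;>
      · funext l
        simp only [hgT, L, Finset.mem_erase, Finset.mem_insert, hJ']
        by_cases h1 : l = a
        · subst h1; simp [ha, hab]; rfl
        by_cases h2 : l = b
        · subst h2; simp [hb, h1]; rfl
        by_cases h3 : l ∈ J
        · simp [h1, h2, h3]; first | exact hEF | exact hFE
        · simp [h1, h2, h3]
  -- shrinking the mixed slots to one
  have hskew := K.inv.exists_skew
  obtain ⟨lam, hlam, hlam'⟩ := hskew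
  have hlam2 : lam + σ lam = 0 := by rw [hlam', add_neg_cancel]
  have step : ∀ rest ⊆ L, rest.Nonempty →
      (∃ x ∈ X, ∃ α β : F, α ≠ 0 ∧ β ≠ 0 ∧ (x : Matrix (Fin t → Fin m) (Fin t → Fin m) F) =
        1 + (α • SpinTensor.pure (gT P rest) + β • SpinTensor.pure (gT Q rest))) →
      HasMono σ G X (insert b J) := by
    intro rest
    induction rest using Finset.strongInduction with
    | _ rest ih =>
    rintro hrest ⟨l, hl⟩ ⟨x, hx, α, β, hα, hβ, ex⟩
    have hlL : l ∈ J ∧ l ≠ a := by
      have := hrest hl; rw [Finset.mem_erase] at this; exact ⟨this.2, this.1⟩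
    have hla : a ∉ rest := fun h => by
      have := hrest h; rw [Finset.mem_erase] at this; exact this.1 rfl
    rcases (rest.erase l).eq_empty_or_nonempty with hone | hne
    · -- one mixed slot
      have hrl : rest = {l} := by rw [← Finset.insert_erase hl, hone]; rfl
      subst hrl
      set M := mono σ G (fun _ => e) ((insert b J).erase l)
      have hM : ∀ R, SpinTensor.pure (gT R {l}) = M * SpinTensor.emb l R := by
        intro R
        simp only [M, mono]
        rw [pure_mul_emb']
        congr 1
        funext k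
        by_cases hk : k = l
        · subst hk; simp [hgT]
        · simp [hgT, Function.update_of_ne hk, hk, E]
      have hMM : M * M = 0 := mono_sq ⟨a, by simp [hlL.2.symm, ha]⟩ fun _ _ => he
      have hMl : ∀ N, M * SpinTensor.emb l N = SpinTensor.emb l N * M :=
        fun N => mono_mul_emb _ (Finset.notMem_erase _ _) N
      let S : AddSubgroup (Matrix (Fin t → Fin m) (Fin t → Fin m) F) :=
        { carrier := {D | (∀ k, k ≠ l → ∀ A' : Matrix (Fin m) (Fin m) F,
              SpinTensor.emb k A' * D = D * SpinTensor.emb k A') ∧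
            ∃ x ∈ X, (x : Matrix (Fin t → Fin m) (Fin t → Fin m) F) = 1 + M * D}
          zero_mem' := ⟨fun k _ A' => by simp, 1, X.one_mem, by simp⟩
          add_mem' := fun {u v} => by
            rintro ⟨hu, x, hx, ex⟩ ⟨hv, y, hy, ey⟩
            refine ⟨fun k hk A' => by rw [mul_add, add_mul, hu k hk, hv k hk], x * y, X.mul_mem hx hy, ?_⟩
            have hMu : u * M = M * u := (comm_mono fun k hk => hu k (Finset.ne_of_mem_erase hk)).symm
            rw [Units.val_mul, ex, ey, mul_add (1 + M * u), mul_one, add_mul, one_mul, mul_assoc,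
              ← mul_assoc u, hMu, mul_assoc, ← mul_assoc M M, hMM, zero_mul, add_zero, mul_add M, add_assoc]
          neg_mem' := fun {u} => by
            rintro ⟨hu, x, hx, ex⟩
            refine ⟨fun k hk A' => by rw [mul_neg, neg_mul, hu k hk], x⁻¹, X.inv_mem hx, ?_⟩
            have hMu : u * M = M * u := (comm_mono fun k hk => hu k (Finset.ne_of_mem_erase hk)).symm
            rw [val_inv_one_add ex (by rw [mul_assoc, ← mul_assoc u, hMu, mul_assoc, ← mul_assoc, hMM, zero_mul]),
              mul_neg, sub_eq_add_neg] }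
      have hmem : SpinTensor.emb l (α • P + β • Q) ∈ S := ⟨fun k hk A' => emb_comm_ne hk _ _, x, hx, by
        rw [ex, hM, hM, map_add, map_smul, map_smul, mul_add, mul_smul_comm, mul_smul_comm]⟩
      have hns : ∀ q : F, SpinTensor.emb l (α • P + β • Q) ≠ q • 1 := by
        intro q hq
        rw [← emb_one l, ← map_smul] at hq
        have h1 := emb_injective K.three' l hq
        obtain ⟨z, hez, hfz, hzz⟩ := K.exists_norm_perp_pair he hef (map_one σ)
        have h2 := congrArg (· *ᵥ z) h1
        simp only [Matrix.add_mulVec, Matrix.smul_mulVec, P, Q, Matrix.vecMulVec_mulVec, phi_dot, hez, hfz,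
          MulOpposite.op_zero, zero_smul, smul_zero, add_zero, Matrix.one_mulVec] at h2
        have hz0 : z ≠ 0 := fun h => by rw [h, ip_zero_left] at hzz; exact zero_ne_one hzz
        rw [(smul_eq_zero.1 h2.symm).resolve_right hz0, zero_smul] at h1
        have h3 := congrArg (· *ᵥ e) h1
        simp only [Matrix.add_mulVec, Matrix.smul_mulVec, P, Q, Matrix.vecMulVec_mulVec, phi_dot, he, hfe,
          MulOpposite.op_zero, MulOpposite.op_one, one_smul, zero_smul, smul_zero, add_zero,
          Matrix.zero_mulVec] at h3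
        exact he0 ((smul_eq_zero.1 h3).resolve_left hα)
      obtain ⟨J₁, e₁, c₁, hJ1, hJ2', hiso, hc₁, ⟨-, z, hz, ez⟩⟩ := K.exists_mono {l} S
        (fun k hk u hu D => by
          rw [Finset.mem_singleton] at hk
          subst hk
          rintro ⟨hD, x, hx, ex⟩
          refine ⟨fun l' hl' A' => ?_, fac k hu.gl * x * (fac k hu.gl)⁻¹,
            X.mul_mem (X.mul_mem (H.base _ u hu) hx) (X.inv_mem (H.base _ u hu)), ?_⟩
          · rw [← mul_assoc, ← mul_assoc, emb_comm_ne hl', mul_assoc (SpinTensor.emb k u), hD l' hl',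
              mul_assoc (SpinTensor.emb k u * D), ← emb_comm_ne hl']
            simp only [mul_assoc]
          · rw [← map_inv, Units.val_mul, Units.val_mul, val_fac, val_fac, hu.val_gl, hu.val_gl_inv, ex, mul_add,
              mul_one, add_mul, emb_mul_emb, hu.mul_adj, emb_one, ← mul_assoc, ← hMl]
            simp only [mul_assoc])
        (fun D hD k hk A' => hD.1 k (by simpa using hk) A') _ hmem hns
      obtain rfl : J₁ = {l} := (Finset.subset_singleton_iff.1 hJ2').resolve_left hJ1.ne_empty
      refine ⟨z, hz, Function.update (fun _ => e) l (e₁ l), c₁, fun k => ?_, hc₁, ?_⟩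
      · by_cases hk : k = l
        · subst hk; simpa using hiso k
        · simpa [Function.update_of_ne hk] using ⟨he0, he⟩
      · rw [ez, mono_singleton, mul_smul_comm]
        congr 2
        conv_rhs => rw [← Finset.insert_erase (show l ∈ insert b J from Finset.mem_insert_of_mem hlL.1),
          mono_insert _ (Finset.notMem_erase _ _), Function.update_self]
        congr 1
        exact mono_congr fun k hk => by rw [Function.update_of_ne (Finset.ne_of_mem_erase hk)]
    · -- conjugate by a transvection at a mixed slot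
      have hT := K.trv_su he hlam2
      set T := UnitWreath.trv σ G e lam
      refine ih (rest.erase l) (Finset.erase_ssubset hl) ((Finset.erase_subset _ _).trans hrest) hne
        ⟨fac l hT.gl * x * (fac l hT.gl)⁻¹ * x⁻¹,
          X.mul_mem (X.mul_mem (X.mul_mem (H.base l T hT) hx) (X.inv_mem (H.base l T hT))) (X.inv_mem hx),
          -(lam * α), lam * β, neg_ne_zero.2 (mul_ne_zero hlam hα), mul_ne_zero hlam hβ, ?_⟩
      set W := α • SpinTensor.pure (gT P rest) + β • SpinTensor.pure (gT Q rest)
      have hgl : ∀ R, gT R rest l = R := fun R => by simp [hgT, hl]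
      have herase : ∀ R, Function.update (gT R rest) l E = gT R (rest.erase l) := fun R => by
        funext k
        by_cases hk : k = l
        · subst hk; simp [hgT, hlL.1]
        · simp [hgT, Function.update_of_ne hk, hk]
      have hTP : T * P * adj σ G G T = P + (-lam) • E := by
        refine ext_mulVec fun z => ?_
        simp only [T, UnitWreath.trv, adj_add, adj_one K.gram, adj_smul, adj_sqr K.gram, hlam', ← Matrix.mulVec_mulVec,
          Matrix.add_mulVec, Matrix.one_mulVec, Matrix.smul_mulVec, sqr_mulVec, P, E, Matrix.vecMulVec_mulVec,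
          phi_dot, ip_add_right, ip_smul_right, op_smul_eq_smul, hfe, he]
        funext i
        simp
        ring
      have hTQ : T * Q * adj σ G G T = Q + lam • E := by
        refine ext_mulVec fun z => ?_
        simp only [T, UnitWreath.trv, adj_add, adj_one K.gram, adj_smul, adj_sqr K.gram, hlam', ← Matrix.mulVec_mulVec,
          Matrix.add_mulVec, Matrix.one_mulVec, Matrix.smul_mulVec, sqr_mulVec, Q, E, Matrix.vecMulVec_mulVec,
          phi_dot, ip_add_right, ip_smul_right, op_smul_eq_smul, hef, he]
        funext i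
        simp
      have hconj : ∀ R k, T * R * adj σ G G T = R + k • E →
          SpinTensor.emb l T * SpinTensor.pure (gT R rest) * SpinTensor.emb l (adj σ G G T) =
            SpinTensor.pure (gT R rest) + k • SpinTensor.pure (gT R (rest.erase l)) := fun R k hk => by
        rw [emb_mul_pure, pure_mul_emb', Function.update_idem, Function.update_self, hgl, hk, pure_update_add,
          pure_update_smul, herase]
        congr 2
        exact Function.update_eq_self_iff.2 (hgl R).symm
      set W' := SpinTensor.emb l T * W * SpinTensor.emb l (adj σ G G T)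
      have hW' : W' = W + (α • ((-lam) • SpinTensor.pure (gT P (rest.erase l))) +
          β • (lam • SpinTensor.pure (gT Q (rest.erase l)))) := by
        simp only [W', W, mul_add, add_mul, mul_smul_comm, smul_mul_assoc, hconj P _ hTP, hconj Q _ hTQ, smul_add]
        abel
      have hz : ∀ R R' s s', a ∉ s → a ∉ s' → SpinTensor.pure (gT R s) * SpinTensor.pure (gT R' s') = 0 := by
        intro R R' s s' hs hs'
        rw [pure_mul]
        refine pure_eq_zero a ?_
        simp [hgT, hs, hs', ha, hEE]
      have hla' : a ∉ rest.erase l := fun h => hla (Finset.mem_of_mem_erase h)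
      have hWW : W * W = 0 := by
        simp only [W, mul_add, add_mul, smul_mul_smul_comm, hz _ _ _ _ hla hla, smul_zero, add_zero]
      have hW'W : W' * W = 0 := by
        rw [hW']
        simp only [W, mul_add, add_mul, smul_mul_smul_comm, smul_smul, hz _ _ _ _ hla hla, hz _ _ _ _ hla' hla,
          smul_zero, add_zero]
      rw [← map_inv, Units.val_mul, Units.val_mul, Units.val_mul, val_inv_one_add ex hWW, val_fac, val_fac,
        hT.val_gl, hT.val_gl_inv, ex, mul_add, mul_one, add_mul, emb_mul_emb, hT.mul_adj, emb_one]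
      show (1 + W') * (1 - W) = _
      rw [mul_sub, mul_one, add_mul, one_mul, hW'W, add_zero, hW', smul_smul, smul_smul, mul_neg, mul_comm α,
        mul_comm β]
      abel
  have hne : L.Nonempty := Finset.card_pos.1 (by rw [Finset.card_erase_of_mem ha]; omega)
  exact step L Finset.Subset.rfl hne start

/-- A non-standard element yields a monomial element on all the factors. -/
theorem hasMono_univ [Finite F] (ht : 2 ≤ t) {y : GL (Fin t → Fin m) F} (hy : y ∈ X) (hys : ¬ IsStd y) :
    HasMono σ G X Finset.univ := by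
  classical
  haveI : Fintype F := Fintype.ofFinite F
  obtain ⟨x, hx, J, e, c, hJ, he, hc, ex⟩ := exists_mono_of_not_std K (by omega) H hy hys
  suffices key : ∀ n, ∀ J : Finset (Fin t), 2 ≤ J.card → t ≤ J.card + n → HasMono σ G X J →
      HasMono σ G X Finset.univ from key t J hJ (by omega) ⟨x, hx, e, c, he, hc, ex⟩
  intro n
  induction n with
  | zero =>
    intro J _ hn h
    rwa [← Finset.eq_univ_of_card J (by
      have := J.card_le_univ; rw [Fintype.card_fin] at this ⊢; omega)]
  | succ n ih =>
    intro J hJ2 hn h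
    by_cases hu : J = Finset.univ
    · rwa [← hu]
    obtain ⟨b, hb⟩ : ∃ b, b ∉ J := by
      by_contra! h'
      exact hu (Finset.eq_univ_of_forall h')
    have hlt : J.card < t := by
      have := Finset.card_lt_univ_of_notMem hb; rwa [Fintype.card_fin] at this
    exact ih (insert b J) (by rw [Finset.card_insert_of_notMem hb]; omega)
      (by rw [Finset.card_insert_of_notMem hb]; omega) (h.grow H K (by omega) hJ2 hb)

end CfsgLib.Geo.UnitWreath
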