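/-
Roots on one factor of two give all the transvections.
-/
import Cfsg.Agent.Lib.Geo.UnitWreath.Grow

set_option autoImplicit false
set_option linter.unusedSectionVars false

namespace CfsgLib.Geo.UnitWreath

open Matrix CfsgLib.Geo.TensorLinear
open scoped Kronecker

variable {F : Type*} [Field F] {σ : F →+* F}

/-- The group has all the transvections at a vector. -/
def HasTv (σ : F →+* F) {ι : Type} [Fintype ι] [DecidableEq ι] (Γ : Matrix ι ι F) (X : Subgroup (GL ι F))
    (x : ι → F) : Prop :=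
  ∀ c : F, c + σ c = 0 → ∃ g ∈ X, (g : Matrix ι ι F) = 1 + c • sqr σ Γ x

section Generic

variable {ι : Type} [Fintype ι] [DecidableEq ι] {Γ : Matrix ι ι F} {X : Subgroup (GL ι F)} (hΓ : IsGram σ Γ)
include hΓ

theorem HasTv.of_smul {x : ι → F} {a : F} (ha : a ≠ 0) (h : HasTv σ Γ X (a • x)) : HasTv σ Γ X x := by
  intro c hc
  have hn : a * σ a ≠ 0 := mul_ne_zero ha ((map_ne_zero σ).2 ha)
  obtain ⟨g, hg, e⟩ := h (c / (a * σ a)) (by
    rw [map_div₀, map_mul, hΓ.invol, mul_comm (σ a) a, ← add_div, hc, zero_div])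
  exact ⟨g, hg, by rw [e, sqr_smul, smul_smul, div_mul_cancel₀ _ hn]⟩

theorem HasTv.move_sim {x : ι → F} {g : GL ι F} (hg : g ∈ X) {ν : F} (hν0 : ν ≠ 0) (hν' : σ ν = ν)
    (hν : adj σ Γ Γ (g : Matrix ι ι F) * (g : Matrix ι ι F) = ν • 1) (h : HasTv σ Γ X x) :
    HasTv σ Γ X ((g : Matrix ι ι F) *ᵥ x) := by
  intro c hc
  obtain ⟨u, hu, e⟩ := h (ν * c) (by rw [map_mul, hν', ← mul_add, hc, mul_zero])
  refine ⟨g * u * g⁻¹, X.mul_mem (X.mul_mem hg hu) (X.inv_mem hg), ?_⟩
  have hgi : ((g⁻¹ : GL ι F) : Matrix ι ι F) = ν⁻¹ • adj σ Γ Γ (g : Matrix ι ι F) :=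
    left_inv_eq_right_inv g.inv_mul (by
      rw [mul_smul_comm, Sim.mul_adj hΓ hν0 hν, smul_smul, inv_mul_cancel₀ hν0, one_smul])
  rw [Units.val_mul, Units.val_mul, e, mul_add, mul_one, add_mul, Units.mul_inv, hgi, mul_smul_comm, mul_smul_comm,
    smul_mul_assoc, sqr, Matrix.mul_vecMulVec, Matrix.vecMulVec_mul, ← phi_mulVec hΓ, smul_smul,
    inv_mul_cancel_left₀ hν0]
  rfl

theorem HasTv.move {x : ι → F} {g : GL ι F} (hg : g ∈ X) (hi : IsIso σ Γ (g : Matrix ι ι F))
    (h : HasTv σ Γ X x) : HasTv σ Γ X ((g : Matrix ι ι F) *ᵥ x) :=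
  h.move_sim hΓ hg one_ne_zero (map_one σ) (by rw [one_smul]; exact hi)

end Generic

/-- The vectors connected by isometries of the group. -/
def Linked (σ : F →+* F) {ι : Type} [Fintype ι] [DecidableEq ι] (Γ : Matrix ι ι F) (X : Subgroup (GL ι F))
    (x y : ι → F) : Prop :=
  ∃ g ∈ X, IsIso σ Γ (g : Matrix ι ι F) ∧ (g : Matrix ι ι F) *ᵥ x = y

section Linked

variable {ι : Type} [Fintype ι] [DecidableEq ι] {Γ : Matrix ι ι F} {X : Subgroup (GL ι F)} (hΓ : IsGram σ Γ)
include hΓ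

theorem Linked.trans {x y z : ι → F} (h : Linked σ Γ X x y) (h' : Linked σ Γ X y z) : Linked σ Γ X x z := by
  obtain ⟨g, hg, hi, e⟩ := h
  obtain ⟨g', hg', hi', e'⟩ := h'
  refine ⟨g' * g, X.mul_mem hg' hg, ?_, ?_⟩
  · rw [Units.val_mul]; exact IsIso.mul hΓ hi' hi
  · rw [Units.val_mul, ← Matrix.mulVec_mulVec, e, e']

theorem Linked.symm {x y : ι → F} (h : Linked σ Γ X x y) : Linked σ Γ X y x := by
  obtain ⟨g, hg, hi, e⟩ := h
  exact ⟨g⁻¹, X.inv_mem hg, IsIso.inv hΓ hi, by rw [← e, Matrix.mulVec_mulVec, Units.inv_mul, Matrix.one_mulVec]⟩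

theorem Linked.ip_eq {x y : ι → F} (h : Linked σ Γ X x y) : ip σ Γ y y = ip σ Γ x x := by
  obtain ⟨g, -, hi, e⟩ := h
  rw [← e, ip_mulVec_left hΓ, Matrix.mulVec_mulVec, hi, Matrix.one_mulVec]

theorem Linked.hasTv {x y : ι → F} (h : Linked σ Γ X x y) (hy : HasTv σ Γ X y) : HasTv σ Γ X x := by
  obtain ⟨g, hg, hi, e⟩ := h.symm hΓ
  exact e ▸ hy.move hΓ hg hi

end Linked

section TwoFactors

variable {α β : Type} [Fintype α] [DecidableEq α] [Fintype β] [DecidableEq β]
variable {GA : Matrix α α F} {GB : Matrix β β F}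

theorem phi_pt (a : α → F) (b : β → F) :
    phi σ (GA ⊗ₖ GB) (pt a b) = pt (phi σ GA a) (phi σ GB b) := by
  funext p
  simp only [phi, pt, Matrix.vecMul, dotProduct, Function.comp_apply, Fintype.sum_prod_type, Finset.sum_mul_sum,
    Matrix.kroneckerMap_apply, map_mul]
  exact Finset.sum_congr rfl fun i _ => Finset.sum_congr rfl fun j _ => by ring

theorem ip_pt (a a' : α → F) (b b' : β → F) :
    ip σ (GA ⊗ₖ GB) (pt a b) (pt a' b') = ip σ GA a a' * ip σ GB b b' := by
  rw [ip, phi_pt, ip, ip]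
  simp only [pt, dotProduct, Fintype.sum_prod_type, Finset.sum_mul_sum]
  exact Finset.sum_congr rfl fun i _ => Finset.sum_congr rfl fun j _ => by ring

theorem sqr_pt (a : α → F) (b : β → F) :
    sqr σ (GA ⊗ₖ GB) (pt a b) = sqr σ GA a ⊗ₖ sqr σ GB b := by
  rw [sqr, phi_pt]
  ext p q
  simp [sqr, pt, Matrix.vecMulVec_apply]
  ring

theorem pt_add_left (a a' : α → F) (b : β → F) : pt (a + a') b = pt a b + pt a' b := by
  funext p; simp [pt, add_mul]

theorem pt_add_right (a : α → F) (b b' : β → F) : pt a (b + b') = pt a b + pt a b' := by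
  funext p; simp [pt, mul_add]

theorem pt_smul_left (c : F) (a : α → F) (b : β → F) : pt (c • a) b = c • pt a b := by
  funext p; simp [pt, mul_assoc]

theorem pt_smul_right (c : F) (a : α → F) (b : β → F) : pt a (c • b) = c • pt a b := by
  funext p; simp [pt, mul_left_comm]

theorem pt_zero_left (b : β → F) : pt (0 : α → F) b = 0 := by funext p; simp [pt]

theorem pt_zero_right (a : α → F) : pt a (0 : β → F) = 0 := by funext p; simp [pt]

theorem kron_sqr_pt (M : Matrix α α F) (e : β → F) (a : α → F) (b : β → F) :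
    (M ⊗ₖ sqr σ GB e) *ᵥ pt a b = ip σ GB e b • pt (M *ᵥ a) e := by
  rw [TensorWreath.kron_mulVec_pt, sqr_mulVec, pt_smul_right]

variable (Y : Subgroup (GL (α × β) F))

/-- All the roots at the isotropic vectors of the second factor. -/
def HasRoots (σ : F →+* F) (GA : Matrix α α F) (GB : Matrix β β F) (Y : Subgroup (GL (α × β) F)) : Prop :=
  ∀ e : β → F, e ≠ 0 → ip σ GB e e = 0 → ∀ M : Matrix α α F, adj σ GA GA M = -M →
    ∃ g ∈ Y, (g : Matrix (α × β) (α × β) F) = 1 + M ⊗ₖ sqr σ GB e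

variable {Y} (hA : IsGram σ GA) (KB : Space σ GB) (hY : HasRoots σ GA GB Y)
include hA KB hY

theorem linked_step {e f : β → F} (he0 : e ≠ 0) (he : ip σ GB e e = 0) (hef : ip σ GB e f = 1)
    {A B v : α → F} (hB : B ≠ 0) (hv : ip σ GA B v + ip σ GA v B = 0) {R : α × β → F}
    (hR : ∀ M : Matrix α α F, (M ⊗ₖ sqr σ GB e) *ᵥ R = 0) :
    Linked σ (GA ⊗ₖ GB) Y (pt A e + pt B f + R) (pt (A + v) e + pt B f + R) := by
  obtain ⟨y, hy⟩ : ∃ y, ip σ GA y B = 1 := by
    by_contra! h
    have hz : ∀ z, ip σ GA z B = 0 := fun z => by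
      by_contra h0
      refine h ((σ (ip σ GA z B))⁻¹ • z) ?_
      rw [ip_smul_left, map_inv₀, hA.invol, inv_mul_cancel₀ h0]
    exact hB (hA.ip_ext fun z => by rw [hz, ip_zero_right])
  set k := ip σ GA v B
  have hk : σ k = ip σ GA B v := hA.ip_symm v B
  set M := vecMulVec v (phi σ GA y) - vecMulVec y (phi σ GA v) + k • sqr σ GA y
  have hMa : adj σ GA GA M = -M := by
    rw [adj_add, adj_sub, adj_smul, adj_vecMulVec hA, adj_vecMulVec hA, adj_sqr hA, hk,
      show ip σ GA B v = -k from eq_neg_of_add_eq_zero_left hv]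
    module
  have hMB : M *ᵥ B = v := by
    simp only [M, Matrix.add_mulVec, Matrix.sub_mulVec, Matrix.smul_mulVec, sqr_mulVec, Matrix.vecMulVec_mulVec,
      phi_dot, hy, op_smul_eq_smul, one_smul]
    module
  obtain ⟨g, hg, eg⟩ := hY e he0 he M hMa
  refine ⟨g, hg, ?_, ?_⟩
  · have hG := hA.kronecker KB.gram
    rw [IsIso, eg, adj_add, adj_one hG, adj_kronecker hA KB.gram, hMa, adj_sqr KB.gram,
      show (-M) ⊗ₖ sqr σ GB e = -(M ⊗ₖ sqr σ GB e) by ext p q; simp]
    rw [← sub_eq_add_neg, sub_mul, one_mul, mul_add, mul_one, ← Matrix.mul_kronecker_mul, sqr_mul_self, he, zero_smul,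
      Matrix.kronecker_zero, add_zero, add_sub_cancel_right]
  · rw [eg, Matrix.add_mulVec, Matrix.one_mulVec, Matrix.mulVec_add, Matrix.mulVec_add, hR, kron_sqr_pt, kron_sqr_pt,
      he, hef, zero_smul, one_smul, zero_add, add_zero, hMB, pt_add_left]
    abel

variable {e f : β → F} (he0 : e ≠ 0) (hf0 : f ≠ 0) (he : ip σ GB e e = 0) (hff : ip σ GB f f = 0)
  (hef : ip σ GB e f = 1) {R : α × β → F} (hRe : ∀ M : Matrix α α F, (M ⊗ₖ sqr σ GB e) *ᵥ R = 0)
  (hRf : ∀ M : Matrix α α F, (M ⊗ₖ sqr σ GB f) *ᵥ R = 0)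
include he0 hf0 he hff hef hRe hRf

theorem linked_left {A A' B : α → F} (hB : B ≠ 0)
    (h : ip σ GA A B + ip σ GA B A = ip σ GA A' B + ip σ GA B A') :
    Linked σ (GA ⊗ₖ GB) Y (pt A e + pt B f + R) (pt A' e + pt B f + R) := by
  have := linked_step hA KB hY he0 he hef (A := A) (v := A' - A) hB (R := R) (by
    rw [ip_sub_left, ip_sub_right]; linear_combination -h) hRe
  rwa [add_sub_cancel] at this

theorem linked_right {A B B' : α → F} (hA0 : A ≠ 0)
    (h : ip σ GA A B + ip σ GA B A = ip σ GA A B' + ip σ GA B' A) :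
    Linked σ (GA ⊗ₖ GB) Y (pt A e + pt B f + R) (pt A e + pt B' f + R) := by
  have hfe : ip σ GB f e = 1 := by rw [← KB.gram.ip_symm, hef, map_one]
  rw [add_comm (pt A e) (pt B f), add_comm (pt A e) (pt B' f)]
  exact linked_left hA KB hY hf0 he0 hff he hfe hRf hRe hA0 (by linear_combination h)

theorem linked_hop (h3 : 3 ≤ Fintype.card α) {A A' B B' : α → F} (hB : B ≠ 0) (hB' : B' ≠ 0)
    (hind : ∀ c : F, B' ≠ c • B) (σinv : Classical.Herm.IsInvol σ)
    (h : ip σ GA A B + ip σ GA B A = ip σ GA A' B' + ip σ GA B' A') :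
    Linked σ (GA ⊗ₖ GB) Y (pt A e + pt B f + R) (pt A' e + pt B' f + R) := by
  have hAB := hA.kronecker KB.gram
  have hphi : ∀ c : F, phi σ GA B' ≠ c • phi σ GA B := fun c hc => hind (σ c) (by
    refine sub_eq_zero.1 (hA.phi_injective ?_)
    rw [phi_sub, phi_smul, hA.invol, hc, sub_self])
  have hphi' : ∀ c : F, phi σ GA B ≠ c • phi σ GA B' := fun c hc => by
    rcases eq_or_ne c 0 with h0 | h0
    · exact hA.phi_ne_zero hB (by rw [hc, h0, zero_smul])
    · exact hphi c⁻¹ (by rw [hc, inv_smul_smul₀ h0])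
  obtain ⟨y₂, hy2, hy2'⟩ : ∃ y, ip σ GA B y = 0 ∧ ip σ GA B' y = 1 := by
    obtain ⟨χ, h1, h2⟩ := CfsgLib.Geo.exists_functional (phi σ GA B) (phi σ GA B') fun hm => by
      obtain ⟨d, hd⟩ := Submodule.mem_span_singleton.1 hm
      exact hphi d hd.symm
    exact ⟨χ, by rw [ip, dotProduct_comm]; exact h1, by rw [ip, dotProduct_comm]; exact h2⟩
  obtain ⟨y₁, hy1, hy1'⟩ : ∃ y, ip σ GA B' y = 0 ∧ ip σ GA B y = 1 := by
    obtain ⟨χ, h1, h2⟩ := CfsgLib.Geo.exists_functional (phi σ GA B') (phi σ GA B) fun hm => by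
      obtain ⟨d, hd⟩ := Submodule.mem_span_singleton.1 hm
      exact hphi' d hd.symm
    exact ⟨χ, by rw [ip, dotProduct_comm]; exact h1, by rw [ip, dotProduct_comm]; exact h2⟩
  obtain ⟨p, hp0, hp⟩ := TensorLinear.exists_perp ![phi σ GA B, phi σ GA B'] (show 2 < Fintype.card α by omega)
  have hpB : ip σ GA B p = 0 := by rw [ip, dotProduct_comm]; exact hp 0
  have hpB' : ip σ GA B' p = 0 := by rw [ip, dotProduct_comm]; exact hp 1
  obtain ⟨a, ha⟩ := σinv.exists_trace_eq (μ := ip σ GA A B + ip σ GA B A) (by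
    rw [map_add, hA.ip_symm, hA.ip_symm, add_comm])
  set A₁ := a • (y₁ + y₂) + p
  have h1 : ip σ GA B A₁ = a := by
    rw [ip_add_right, ip_smul_right, ip_add_right, hy1', hy2, hpB, add_zero, add_zero, mul_one]
  have h2 : ip σ GA B' A₁ = a := by
    rw [ip_add_right, ip_smul_right, ip_add_right, hy1, hy2', hpB', zero_add, add_zero, mul_one]
  have h1' : ip σ GA A₁ B = σ a := by rw [← h1, hA.ip_symm]
  have h2' : ip σ GA A₁ B' = σ a := by rw [← h2, hA.ip_symm]
  have hA1 : A₁ ≠ 0 := fun h0 => by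
    have ha0 : a = 0 := by rw [← h1, h0, ip_zero_right]
    simp only [A₁, ha0, zero_smul, zero_add] at h0
    exact hp0 h0
  refine ((linked_left hA KB hY he0 hf0 he hff hef hRe hRf hB (A' := A₁) ?_).trans hAB
    (linked_right hA KB hY he0 hf0 he hff hef hRe hRf hA1 (B' := B') ?_)).trans hAB
    (linked_left hA KB hY he0 hf0 he hff hef hRe hRf hB' ?_)
  · rw [h1, h1']; linear_combination -ha
  · rw [h1, h1', h2, h2']
  · rw [h2, h2', ← h]; linear_combination ha

theorem linked_pair (h3 : 3 ≤ Fintype.card α) (σinv : Classical.Herm.IsInvol σ) {A A' B B' : α → F}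
    (h0 : A ≠ 0 ∨ B ≠ 0) (h0' : A' ≠ 0 ∨ B' ≠ 0)
    (h : ip σ GA A B + ip σ GA B A = ip σ GA A' B' + ip σ GA B' A') :
    Linked σ (GA ⊗ₖ GB) Y (pt A e + pt B f + R) (pt A' e + pt B' f + R) := by
  have hAB := hA.kronecker KB.gram
  have norm : ∀ A B : α → F, A ≠ 0 ∨ B ≠ 0 → ∃ B₁ : α → F, B₁ ≠ 0 ∧
      ip σ GA A B + ip σ GA B A = ip σ GA A B₁ + ip σ GA B₁ A ∧
      Linked σ (GA ⊗ₖ GB) Y (pt A e + pt B f + R) (pt A e + pt B₁ f + R) := by
    intro A B h0
    by_cases hB : B = 0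
    · have hA0 : A ≠ 0 := h0.resolve_right (by simp [hB])
      obtain ⟨p, hp0, hp⟩ := TensorLinear.exists_perp ![phi σ GA A, phi σ GA A]
        (show 2 < Fintype.card α by omega)
      have hp1 : ip σ GA A p = 0 := by rw [ip, dotProduct_comm]; exact hp 0
      have he' : ip σ GA A B + ip σ GA B A = ip σ GA A p + ip σ GA p A := by
        rw [hB, ip_zero_left, ip_zero_right, hp1, hA.ip_eq_zero_symm hp1]
      exact ⟨p, hp0, he', linked_right hA KB hY he0 hf0 he hff hef hRe hRf hA0 he'⟩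
    · refine ⟨B, hB, rfl, 1, Y.one_mem, ?_, by rw [Units.val_one, Matrix.one_mulVec]⟩
      rw [Units.val_one]
      exact IsIso.one hAB
  obtain ⟨B₁, hB₁, e₁, l₁⟩ := norm A B h0
  obtain ⟨B₂, hB₂, e₂, l₂⟩ := norm A' B' h0'
  obtain ⟨χ, hχ0, hχ⟩ := TensorLinear.exists_perp ![B₁, B₂] (show 2 < Fintype.card α by omega)
  obtain ⟨C, hC⟩ := TensorLinear.exists_dual hχ0
  have hind : ∀ (D : α → F), D = B₁ ∨ D = B₂ → ∀ c : F, C ≠ c • D := fun D hD c hc => by
    have hD0 : χ ⬝ᵥ D = 0 := by rcases hD with rfl | rfl; exacts [hχ 0, hχ 1]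
    rw [hc, smul_dotProduct, dotProduct_comm, hD0, smul_zero] at hC
    exact zero_ne_one hC
  have hC0 : C ≠ 0 := fun h => hind B₁ (Or.inl rfl) 0 (by rw [h, zero_smul])
  obtain ⟨y, hy⟩ : ∃ y, ip σ GA C y = 1 := by
    obtain ⟨z, hz⟩ := TensorLinear.exists_dual (hA.phi_ne_zero hC0)
    exact ⟨z, by rw [ip, dotProduct_comm]; exact hz⟩
  obtain ⟨a, ha⟩ := σinv.exists_trace_eq (μ := ip σ GA A B + ip σ GA B A) (by
    rw [map_add, hA.ip_symm, hA.ip_symm, add_comm])
  have hm : ip σ GA A B + ip σ GA B A = ip σ GA (a • y) C + ip σ GA C (a • y) := by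
    rw [ip_smul_left, ip_smul_right, ← hA.ip_symm C y, hy, map_one, mul_one, mul_one, add_comm]
    linear_combination -ha
  refine (((l₁.trans hAB (linked_hop hA KB hY he0 hf0 he hff hef hRe hRf h3 hB₁ hC0 (hind B₁ (Or.inl rfl)) σinv
    (A' := a • y) (e₁.symm.trans hm))).trans hAB
    ((linked_hop hA KB hY he0 hf0 he hff hef hRe hRf h3 hB₂ hC0 (hind B₂ (Or.inr rfl)) σinv
      (A := A') (A' := a • y) (by rw [← e₂, ← h, hm])).symm hAB))).trans hAB (l₂.symm hAB)

end TwoFactors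

section All

variable {α β : Type} [Fintype α] [DecidableEq α] [Fintype β] [DecidableEq β]
variable {GA : Matrix α α F} {GB : Matrix β β F} {Y : Subgroup (GL (α × β) F)}
variable (hA : IsGram σ GA) (KB : Space σ GB) (hY : HasRoots σ GA GB Y)
include hA KB hY

/-- Two orthogonal components merge into one. -/
theorem linked_plane (h3 : 3 ≤ Fintype.card α) {u w : β → F} (hu : ip σ GB u u = 1) (hw : ip σ GB w w = 1)
    (huw : ip σ GB u w = 0) {R : α × β → F}
    (hR : ∀ z : β → F, (∃ p q : F, z = p • u + q • w) → ∀ M : Matrix α α F, (M ⊗ₖ sqr σ GB z) *ᵥ R = 0)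
    {a b a' b' : α → F} (h0 : a ≠ 0 ∨ b ≠ 0) (h0' : a' ≠ 0 ∨ b' ≠ 0)
    (h : ip σ GA a a + ip σ GA b b = ip σ GA a' a' + ip σ GA b' b') [Finite F] :
    Linked σ (GA ⊗ₖ GB) Y (pt a u + pt b w + R) (pt a' u + pt b' w + R) := by
  have hwu : ip σ GB w u = 0 := KB.gram.ip_eq_zero_symm huw
  obtain ⟨s, hs⟩ := KB.inv.exists_norm_eq (μ := -1) (by rw [map_neg, map_one])
  obtain ⟨l, hl⟩ := KB.inv.exists_trace_eq (μ := -1) (by rw [map_neg, map_one])
  have hs0 : s ≠ 0 := fun h0 => by rw [h0, zero_mul] at hs; exact one_ne_zero (neg_eq_zero.1 hs.symm)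
  set e := u + s • w with hedef
  set f := u + l • e with hfdef
  have he : ip σ GB e e = 0 := by
    simp only [hedef, ip_add_left, ip_add_right, ip_smul_left, ip_smul_right, hu, hw, huw, hwu]
    linear_combination hs
  have heu : ip σ GB e u = 1 := by
    simp only [hedef, ip_add_left, ip_smul_left, hu, hwu, mul_zero, add_zero]
  have hue : ip σ GB u e = 1 := by rw [← KB.gram.ip_symm, heu, map_one]
  have hef : ip σ GB e f = 1 := by rw [hfdef, ip_add_right, ip_smul_right, heu, he, mul_zero, add_zero]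
  have hff : ip σ GB f f = 0 := by
    simp only [hfdef, ip_add_left, ip_add_right, ip_smul_left, ip_smul_right, hu, he, heu, hue]
    linear_combination hl
  have he0 : e ≠ 0 := fun h0 => by rw [h0, ip_zero_left] at heu; exact zero_ne_one heu
  have hf0 : f ≠ 0 := fun h0 => by rw [h0, ip_zero_right] at hef; exact zero_ne_one hef
  have hcoord : ∀ x y : α → F, pt x u + pt y w =
      pt (s⁻¹ • ((1 + l) • y) - l • x) e + pt (x - s⁻¹ • y) f := by
    intro x y
    funext p
    simp only [pt, hfdef, hedef, Pi.add_apply, Pi.sub_apply, Pi.smul_apply, smul_eq_mul]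
    field_simp
    ring
  have hnorm : ∀ x y : α → F, ip σ GA (s⁻¹ • ((1 + l) • y) - l • x) (x - s⁻¹ • y) +
      ip σ GA (x - s⁻¹ • y) (s⁻¹ • ((1 + l) • y) - l • x) = ip σ GA x x + ip σ GA y y := by
    intro x y
    have hAB := hA.kronecker KB.gram
    have e1 : ip σ (GA ⊗ₖ GB) (pt x u + pt y w) (pt x u + pt y w) = ip σ GA x x + ip σ GA y y := by
      simp only [ip_add_left, ip_add_right, ip_pt, hu, hw, huw, hwu]; ring
    rw [hcoord] at e1
    simp only [ip_add_left, ip_add_right, ip_pt, he, hff, hef, show ip σ GB f e = 1 by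
      rw [← KB.gram.ip_symm, hef, map_one]] at e1
    rw [← e1]
    simp only [ip_sub_left, ip_sub_right, ip_smul_left, ip_smul_right]
    ring
  have hne : ∀ x y : α → F, x ≠ 0 ∨ y ≠ 0 → s⁻¹ • ((1 + l) • y) - l • x ≠ 0 ∨ x - s⁻¹ • y ≠ 0 := by
    intro x y h0
    by_contra! hc
    have h1 := hcoord x y
    rw [hc.1, hc.2, pt_zero_left, pt_zero_left, add_zero] at h1
    have hy : y = 0 := by
      funext i
      obtain ⟨j, hj⟩ := Function.ne_iff.1 (show w ≠ 0 from fun h => by
        rw [h, ip_zero_left] at hw; exact zero_ne_one hw)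
      have hxy : x i = s⁻¹ * y i := by
        have := congrFun hc.2 i
        simpa [sub_eq_zero] using this
      have hxy' : s⁻¹ * ((1 + l) * y i) = l * x i := by
        have := congrFun hc.1 i
        simpa [sub_eq_zero] using this
      rw [hxy] at hxy'
      exact (mul_eq_zero.1 (show s⁻¹ * y i = 0 by linear_combination hxy')).resolve_left (inv_ne_zero hs0)
    have hx : x = 0 := by
      have := hc.2
      rwa [hy, smul_zero, sub_zero] at this
    exact h0.elim (fun h => h hx) (fun h => h hy)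
  rw [hcoord, hcoord]
  exact linked_pair hA KB hY he0 hf0 he hff hef (hR e ⟨1, s, by rw [one_smul]⟩)
    (hR f ⟨1 + l, l * s, by rw [hfdef, hedef]; module⟩) h3 KB.inv (hne a b h0) (hne a' b' h0')
    (by rw [hnorm, hnorm, h])

/-- Every isotropic vector carries all the transvections. -/
theorem hasTv_of_roots [Finite F] (h3 : 3 ≤ Fintype.card α) {x : α × β → F}
    (hx : ip σ (GA ⊗ₖ GB) x x = 0) : HasTv σ (GA ⊗ₖ GB) Y x := by
  classical
  have hAB := hA.kronecker KB.gram
  obtain ⟨b, hb⟩ := KB.herm.exists_orthonormal_basis (Module.finrank_fintype_fun_eq_card (R := F) (η := β))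
  simp only [bil_apply] at hb
  have hb2 := KB.three
  rcases eq_or_ne x 0 with hx0 | hx0
  · intro c _
    refine ⟨1, Y.one_mem, ?_⟩
    rw [hx0, show sqr σ (GA ⊗ₖ GB) (0 : α × β → F) = 0 by rw [sqr, Matrix.zero_vecMulVec], smul_zero, add_zero,
      Units.val_one]
  obtain ⟨a, rfl⟩ : ∃ a : Fin (Fintype.card β) → α → F, ∑ j, pt (a j) (b j) = x := by
    refine ⟨fun j i => b.repr (fun q => x (i, q)) j, ?_⟩
    funext p
    have := congrFun (b.sum_repr fun q => x (p.1, q)) p.2
    simp only [Finset.sum_apply, Pi.smul_apply, smul_eq_mul] at this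
    simpa [pt] using this
  -- merge everything into one component
  have key : ∀ (n : ℕ) (a : Fin (Fintype.card β) → α → F), (Finset.univ.filter fun j => a j ≠ 0).card ≤ n →
      ∑ j, pt (a j) (b j) ≠ 0 → ∃ (j₀ : Fin (Fintype.card β)) (c : α → F), c ≠ 0 ∧
        Linked σ (GA ⊗ₖ GB) Y (∑ j, pt (a j) (b j)) (pt c (b j₀)) := by
    intro n
    induction n with
    | zero =>
      intro a hn hne
      refine absurd (Finset.sum_eq_zero fun j _ => ?_) hne
      have : a j = 0 := by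
        by_contra h
        have := Finset.card_pos.2 (⟨j, Finset.mem_filter.2 ⟨Finset.mem_univ j, h⟩⟩ :
          (Finset.univ.filter fun j => a j ≠ 0).Nonempty)
        omega
      rw [this, pt_zero_left]
    | succ n ih =>
      intro a hn hne
      obtain ⟨j, hj⟩ : ∃ j, a j ≠ 0 := by
        by_contra! h
        exact hne (Finset.sum_eq_zero fun j _ => by rw [h j, pt_zero_left])
      by_cases hk : ∃ k, k ≠ j ∧ a k ≠ 0
      swap
      · push Not at hk
        refine ⟨j, a j, hj, 1, Y.one_mem, by rw [Units.val_one]; exact IsIso.one hAB, ?_⟩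
        rw [Units.val_one, Matrix.one_mulVec]
        exact Finset.sum_eq_single j (fun k _ hkj => by rw [hk k hkj, pt_zero_left])
          (fun h => absurd (Finset.mem_univ j) h)
      obtain ⟨k, hkj, hk⟩ := hk
      -- the merged component
      obtain ⟨c, hc0, hc⟩ : ∃ c : α → F, c ≠ 0 ∧ ip σ GA c c = ip σ GA (a j) (a j) + ip σ GA (a k) (a k) := by
        set τ := ip σ GA (a j) (a j) + ip σ GA (a k) (a k)
        have hτ : σ τ = τ := by rw [map_add, hA.ip_symm, hA.ip_symm]
        have KA : Classical.Herm.IsHerm (bil σ GA) := ⟨KB.inv, hA.ip_symm, fun _ h => hA.ip_nondeg h⟩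
        rcases eq_or_ne τ 0 with h0 | h0
        · obtain ⟨c, hc0, hc⟩ := KA.exists_isotropic (by rw [Module.finrank_fintype_fun_eq_card]; omega)
          exact ⟨c, hc0, by rw [h0]; exact hc⟩
        · obtain ⟨c, -, hc⟩ := KA.exists_norm_in (U := ⊤) (fun y _ h => hA.ip_nondeg fun z => h z trivial)
            (by rw [finrank_top, Module.finrank_fintype_fun_eq_card]; omega) hτ
          exact ⟨c, fun h => h0 (by rw [← hc, h]; exact ip_zero_left _), hc⟩
      set a₁ := Function.update (Function.update a j c) k 0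
      have hR : ∀ z : β → F, (∃ p q : F, z = p • b j + q • b k) → ∀ M : Matrix α α F,
          (M ⊗ₖ sqr σ GB z) *ᵥ (∑ l ∈ (Finset.univ.erase j).erase k, pt (a l) (b l)) = 0 := by
        rintro z ⟨p, q, rfl⟩ M
        rw [Matrix.mulVec_sum]
        refine Finset.sum_eq_zero fun l hl => ?_
        obtain ⟨hlk, hlj⟩ : l ≠ k ∧ l ≠ j := by simpa using hl
        rw [kron_sqr_pt, ip_add_left, ip_smul_left, ip_smul_left, hb, hb, if_neg hlj.symm, if_neg hlk.symm,
          mul_zero, mul_zero, add_zero, zero_smul]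
      have hsplit : ∀ a' : Fin (Fintype.card β) → α → F, (∀ l, l ≠ j → l ≠ k → a' l = a l) →
          ∑ l, pt (a' l) (b l) = pt (a' j) (b j) + pt (a' k) (b k) +
            ∑ l ∈ (Finset.univ.erase j).erase k, pt (a l) (b l) := by
        intro a' ha'
        rw [← Finset.add_sum_erase _ _ (Finset.mem_univ j),
          ← Finset.add_sum_erase _ _ (Finset.mem_erase.2 ⟨hkj, Finset.mem_univ k⟩), add_assoc]
        congr 2
        refine Finset.sum_congr rfl fun l hl => ?_
        obtain ⟨hlk, hlj⟩ : l ≠ k ∧ l ≠ j := by simpa using hl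
        rw [ha' l hlj hlk]
      have hlink : Linked σ (GA ⊗ₖ GB) Y (∑ l, pt (a l) (b l)) (∑ l, pt (a₁ l) (b l)) := by
        rw [hsplit a (fun _ _ _ => rfl), hsplit a₁ (fun l h1 h2 => by
          simp [a₁, Function.update_of_ne h1, Function.update_of_ne h2])]
        refine linked_plane hA KB hY h3 (by rw [hb, if_pos rfl]) (by rw [hb, if_pos rfl])
          (by rw [hb, if_neg hkj.symm]) hR (Or.inl hj) (Or.inl (by simp [a₁, Function.update_of_ne hkj.symm, hc0])) ?_
        simp [a₁, Function.update_of_ne hkj.symm, hc, ip_zero_left]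
      have hn1 : (Finset.univ.filter fun l => a₁ l ≠ 0).card ≤ n := by
        have hsub : (Finset.univ.filter fun l => a₁ l ≠ 0) ⊆ (Finset.univ.filter fun l => a l ≠ 0).erase k := by
          intro l hl
          simp only [Finset.mem_filter, Finset.mem_univ, true_and] at hl
          have hlk : l ≠ k := fun h => hl (by simp [a₁, h])
          refine Finset.mem_erase.2 ⟨hlk, Finset.mem_filter.2 ⟨Finset.mem_univ l, ?_⟩⟩
          by_cases hlj : l = j
          · rw [hlj]; exact hj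
          · simpa [a₁, Function.update_of_ne hlk, Function.update_of_ne hlj] using hl
        have h1 := Finset.card_le_card hsub
        rw [Finset.card_erase_of_mem (Finset.mem_filter.2 ⟨Finset.mem_univ k, hk⟩)] at h1
        omega
      obtain ⟨j₀, d, hd0, hd⟩ := ih a₁ hn1 (fun h0 => hne (by
        obtain ⟨g, -, -, eg⟩ := hlink.symm hAB
        rw [← eg, h0, Matrix.mulVec_zero]))
      exact ⟨j₀, d, hd0, hlink.trans hAB hd⟩
  obtain ⟨j₀, c, hc0, hlink⟩ := key _ a le_rfl hx0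
  refine hlink.hasTv hAB ?_
  have hcc : ip σ GA c c = 0 := by
    have := hlink.ip_eq hAB
    rwa [hx, ip_pt, hb, if_pos rfl, mul_one] at this
  obtain ⟨k, hk⟩ : ∃ k, k ≠ j₀ := by
    haveI : Nontrivial (Fin (Fintype.card β)) := Fin.nontrivial_iff_two_le.2 (by omega)
    exact exists_ne j₀
  obtain ⟨s, hs⟩ := KB.inv.exists_norm_eq (μ := -1) (by rw [map_neg, map_one])
  set e := b j₀ + s • b k
  have he : ip σ GB e e = 0 := by
    simp only [e, ip_add_left, ip_add_right, ip_smul_left, ip_smul_right, hb, hk, hk.symm, if_true, if_false]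
    linear_combination hs
  have he0 : e ≠ 0 := fun h => by
    have h1 := congrArg (ip σ GB (b j₀)) h
    simp only [e, ip_add_right, ip_smul_right, hb, hk.symm, if_true, if_false, mul_zero, add_zero,
      ip_zero_right] at h1
    exact one_ne_zero h1
  have hl : Linked σ (GA ⊗ₖ GB) Y (pt c (b j₀) + pt 0 (b k) + 0) (pt c (b j₀) + pt (s • c) (b k) + 0) :=
    linked_plane hA KB hY h3 (by rw [hb, if_pos rfl]) (by rw [hb, if_pos rfl]) (by rw [hb, if_neg hk.symm])
      (fun _ _ M => Matrix.mulVec_zero _) (Or.inl hc0) (Or.inl hc0) (by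
        rw [ip_smul_left, ip_smul_right, hcc, ip_zero_left]; ring)
  rw [pt_zero_left, add_zero, add_zero, add_zero, pt_smul_left, ← pt_smul_right, ← pt_add_right] at hl
  refine hl.hasTv hAB fun d hd => ?_
  obtain ⟨g, hg, eg⟩ := hY e he0 he (d • sqr σ GA c) (by
    rw [adj_smul, adj_sqr hA, show σ d = -d from eq_neg_of_add_eq_zero_right hd, neg_smul])
  exact ⟨g, hg, by rw [eg, sqr_pt, Matrix.smul_kronecker]⟩

end All

end CfsgLib.Geo.UnitWreath
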