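/-
An overgroup with a non-standard element has all the transvections.
-/
import Cfsg.Agent.Lib.Geo.UnitWreath.Trans

set_option autoImplicit false
set_option linter.unusedSectionVars false

namespace CfsgLib.Geo.UnitWreath

open Matrix CfsgLib.Geo.SpinTensor CfsgLib.Geo.TensorWreath
open scoped Kronecker

variable {F : Type*} [Field F] {σ : F →+* F} {t m : ℕ} {G : Matrix (Fin m) (Fin m) F}

theorem vecMulVec_pvec (ξ η : Fin t → Fin m → F) :
    vecMulVec (pvec ξ) (pvec η) = SpinTensor.pure fun l => vecMulVec (ξ l) (η l) := by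
  ext a b
  simp only [Matrix.vecMulVec_apply, pvec, pure_apply]
  rw [← Finset.prod_mul_distrib]

theorem phi_pvec (ξ : Fin t → Fin m → F) :
    phi σ (gramT G t) (pvec ξ) = pvec fun l => phi σ G (ξ l) := by
  funext c
  simp only [phi, Matrix.vecMul, dotProduct, Function.comp_apply, pvec, gramT, pure_apply, map_prod,
    ← Finset.prod_mul_distrib]
  rw [← Fintype.prod_sum (f := fun l p => σ (ξ l p) * G p (c l))]

theorem ip_pvec (ξ η : Fin t → Fin m → F) :
    ip σ (gramT G t) (pvec ξ) (pvec η) = ∏ l, ip σ G (ξ l) (η l) := by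
  rw [ip, phi_pvec]
  simp only [dotProduct, pvec, ← Finset.prod_mul_distrib]
  rw [← Fintype.prod_sum (f := fun l p => phi σ G (ξ l) p * η l p)]
  rfl

theorem sqr_pvec (ξ : Fin t → Fin m → F) :
    sqr σ (gramT G t) (pvec ξ) = SpinTensor.pure fun l => sqr σ G (ξ l) := by
  rw [sqr, phi_pvec, vecMulVec_pvec]; rfl

theorem pvec_update_smul (ξ : Fin t → Fin m → F) (l : Fin t) (a : F) (v : Fin m → F) :
    pvec (Function.update ξ l (a • v)) = a • pvec (Function.update ξ l v) := by
  funext c
  simp only [pvec, Pi.smul_apply, smul_eq_mul]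
  rw [← Finset.mul_prod_erase _ _ (Finset.mem_univ l), ← Finset.mul_prod_erase _ _ (Finset.mem_univ l)]
  simp only [Function.update_self, Pi.smul_apply, smul_eq_mul]
  rw [Finset.prod_congr rfl (g := fun x => Function.update ξ l v x (c x)) fun x hx => by
    rw [Function.update_of_ne (Finset.ne_of_mem_erase hx), Function.update_of_ne (Finset.ne_of_mem_erase hx)]]
  ring

theorem pvec_update_add (ξ : Fin t → Fin m → F) (l : Fin t) (v w : Fin m → F) :
    pvec (Function.update ξ l (v + w)) = pvec (Function.update ξ l v) + pvec (Function.update ξ l w) := by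
  funext c
  simp only [pvec, Pi.add_apply]
  have h : ∀ u : Fin m → F, ∏ x, Function.update ξ l u x (c x) = u (c l) * ∏ x ∈ Finset.univ.erase l, ξ x (c x) :=
    fun u => by
      rw [← Finset.mul_prod_erase _ _ (Finset.mem_univ l), Function.update_self]
      congr 1
      exact Finset.prod_congr rfl fun x hx => by rw [Function.update_of_ne (Finset.ne_of_mem_erase hx)]
  rw [h, h, h, Pi.add_apply, add_mul]

theorem emb_mulVec_pvec (l : Fin t) (u : Matrix (Fin m) (Fin m) F) (ξ : Fin t → Fin m → F) :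
    SpinTensor.emb l u *ᵥ pvec ξ = pvec (Function.update ξ l (u *ᵥ ξ l)) := by
  rw [emb_eq_pure, pure_mulVec]
  congr 1
  funext k
  by_cases hk : k = l
  · subst hk; simp
  · simp [Function.update_of_ne hk]

theorem pvec_ne_zero {ξ : Fin t → Fin m → F} (h : ∀ l, ξ l ≠ 0) : pvec ξ ≠ 0 := by
  choose c hc using fun l => Function.ne_iff.1 (h l)
  exact Function.ne_iff.2 ⟨c, Finset.prod_ne_zero_iff.2 fun l _ => hc l⟩

theorem pvec_eq_zero {ξ : Fin t → Fin m → F} {l : Fin t} (h : ξ l = 0) : pvec ξ = 0 := by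
  funext c
  exact Finset.prod_eq_zero (Finset.mem_univ l) (by rw [h]; rfl)

/-- Moving by a transvection. -/
theorem HasTv.add {ι : Type} [Fintype ι] [DecidableEq ι] {Γ : Matrix ι ι F} {X : Subgroup (GL ι F)}
    (hΓ : IsGram σ Γ) {x y : ι → F} (hx : HasTv σ Γ X x) (hxx : ip σ Γ x x = 0) (hy : HasTv σ Γ X y) {c : F}
    (hc : c + σ c = 0) : HasTv σ Γ X (y + (c * ip σ Γ x y) • x) := by
  obtain ⟨g, hg, e⟩ := hx c hc
  have hi : IsIso σ Γ (g : Matrix ι ι F) := by
    rw [IsIso, e, adj_add, adj_one hΓ, adj_smul, adj_sqr hΓ, add_mul, one_mul, mul_add, mul_one, smul_mul_smul_comm,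
      sqr_mul_self, hxx, zero_smul, smul_zero, add_zero, add_assoc, ← add_smul, hc, zero_smul, add_zero]
  have := hy.move hΓ hg hi
  rwa [e, Matrix.add_mulVec, Matrix.one_mulVec, Matrix.smul_mulVec, sqr_mulVec, smul_smul] at this

variable {X : Subgroup (GL (Fin t → Fin m) F)}

/-- All the transvections at the pure vectors with a given set of isotropic slots. -/
def HasPattern (σ : F →+* F) (G : Matrix (Fin m) (Fin m) F) (X : Subgroup (GL (Fin t → Fin m) F))
    (A : Finset (Fin t)) : Prop :=
  ∀ ξ : Fin t → Fin m → F, (∀ l ∈ A, ξ l ≠ 0 ∧ ip σ G (ξ l) (ξ l) = 0) → (∀ l ∉ A, ip σ G (ξ l) (ξ l) ≠ 0) →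
    HasTv σ (gramT G t) X (pvec ξ)

variable (H : Hyp σ G X) (K : Space σ G)
include H K

theorem HasTv.slot {ξ : Fin t → Fin m → F} {l : Fin t} {u : Matrix (Fin m) (Fin m) F} (hu : SUnit σ G u)
    (h : HasTv σ (gramT G t) X (pvec ξ)) :
    HasTv σ (gramT G t) X (pvec (Function.update ξ l (u *ᵥ ξ l))) := by
  have := h.move (isGram_gramT K.gram t) (H.base l u hu) (isIso_fac K.gram hu l)
  rwa [val_fac, hu.val_gl, emb_mulVec_pvec] at this

/-- One pure vector suffices for a pattern. -/
theorem hasPattern_of_one [Finite F] {A : Finset (Fin t)} {ξ : Fin t → Fin m → F}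
    (hA : ∀ l ∈ A, ξ l ≠ 0 ∧ ip σ G (ξ l) (ξ l) = 0) (hA' : ∀ l ∉ A, ip σ G (ξ l) (ξ l) ≠ 0)
    (h : HasTv σ (gramT G t) X (pvec ξ)) : HasPattern σ G X A := by
  classical
  intro η hη hη'
  suffices key : ∀ s : Finset (Fin t), HasTv σ (gramT G t) X (pvec fun l => if l ∈ s then η l else ξ l) by
    simpa using key Finset.univ
  intro s
  induction s using Finset.induction with
  | empty => simpa using h
  | @insert a s ha ih =>
    set ζ : Fin t → Fin m → F := fun l => if l ∈ s then η l else ξ l
    have hζa : ζ a = ξ a := by simp [ζ, ha]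
    rw [show (fun l => if l ∈ insert a s then η l else ξ l) = Function.update ζ a (η a) by
      funext l
      by_cases hl : l = a
      · subst hl; simp
      · simp [ζ, Function.update_of_ne hl, hl]]
    by_cases haA : a ∈ A
    · obtain ⟨u, hu, hue⟩ := K.move_iso (hA a haA).1 (hη a haA).1 (hA a haA).2 (hη a haA).2
      rw [← hue, ← hζa]
      exact ih.slot H K hu
    · have h1 := hA' a haA
      have h2 := hη' a haA
      obtain ⟨k, hk⟩ := K.inv.exists_norm_eq (μ := ip σ G (η a) (η a) / ip σ G (ξ a) (ξ a)) (by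
        rw [map_div₀, K.gram.ip_symm, K.gram.ip_symm])
      have hk0 : k ≠ 0 := fun h0 => by
        rw [h0, zero_mul] at hk
        exact div_ne_zero h2 h1 hk.symm
      have hn : ip σ G (k • ξ a) (k • ξ a) = ip σ G (η a) (η a) := by
        rw [ip_smul_left, ip_smul_right, ← mul_assoc, mul_comm (σ k), hk, div_mul_cancel₀ _ h1]
      have h3 : HasTv σ (gramT G t) X (pvec (Function.update ζ a (k • ξ a))) := by
        rw [pvec_update_smul]
        refine HasTv.of_smul (isGram_gramT K.gram t) (inv_ne_zero hk0) ?_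
        rw [inv_smul_smul₀ hk0, ← hζa, Function.update_eq_self]
        exact ih
      obtain ⟨u, hu, hue⟩ := K.move_aniso (x := k • ξ a) (y := η a) (by rw [hn]; exact h2) hn
      have h4 := h3.slot H K (l := a) hu
      rwa [Function.update_idem, Function.update_self, hue] at h4

/-- A monomial element on all the factors gives the pattern of all factors. -/
theorem hasPattern_univ [Finite F] (ht : 1 ≤ t) (h : HasMono σ G X Finset.univ) :
    HasPattern σ G X Finset.univ := by
  classical
  obtain ⟨x, hx, e, c, he, hc0, ex⟩ := h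
  have hΓ := isGram_gramT K.gram t
  haveI : Nonempty (Fin t → Fin m) := ⟨fun _ => ⟨0, by have := K.three'; omega⟩⟩
  set v := pvec e
  have hv0 : v ≠ 0 := pvec_ne_zero fun l => (he l).1
  have hm : mono σ G e Finset.univ = sqr σ (gramT G t) v := by rw [sqr_pvec, mono]; simp
  rw [hm] at ex
  obtain ⟨l₀⟩ : Nonempty (Fin t) := ⟨⟨0, by omega⟩⟩
  have hvv : ip σ (gramT G t) v v = 0 := by
    rw [ip_pvec]; exact Finset.prod_eq_zero (Finset.mem_univ l₀) (he l₀).2
  have hS0 : sqr σ (gramT G t) v ≠ 0 := by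
    obtain ⟨a, ha⟩ := Function.ne_iff.1 hv0
    obtain ⟨b, hb⟩ := Function.ne_iff.1 (hΓ.phi_ne_zero hv0)
    exact fun h0 => mul_ne_zero ha hb (congrFun (congrFun h0 a) b)
  -- the coefficient is skew
  obtain ⟨μ, -, hμ⟩ := H.sim x hx
  rw [ex, adj_add, adj_one hΓ, adj_smul, adj_sqr hΓ, add_mul, one_mul, mul_add, mul_one, smul_mul_smul_comm,
    sqr_mul_self, hvv, zero_smul, smul_zero, add_zero, add_assoc, ← add_smul] at hμ
  have h1 : (μ - 1) • sqr σ (gramT G t) v = 0 := by
    have := congrArg (· * sqr σ (gramT G t) v) hμ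
    simp only [add_mul, one_mul, smul_mul_assoc, sqr_mul_self, hvv, zero_smul, smul_zero, add_zero] at this
    rw [sub_smul, one_smul, ← this, sub_self]
  have hμ1 : μ = 1 := sub_eq_zero.1 ((smul_eq_zero.1 h1).resolve_right hS0)
  rw [hμ1, one_smul, add_eq_left] at hμ
  have hskew : c + σ c = 0 := (smul_eq_zero.1 hμ).resolve_right hS0
  refine hasPattern_of_one H K (fun l _ => he l) (fun l hl => absurd (Finset.mem_univ l) hl) fun d hd => ?_
  rcases eq_or_ne d 0 with hd0 | hd0
  · exact ⟨1, X.one_mem, by rw [hd0, zero_smul, add_zero, Units.val_one]⟩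
  obtain ⟨k, hk⟩ := K.inv.exists_norm_eq (μ := d / c) (by
    rw [map_div₀, eq_neg_of_add_eq_zero_right hd, eq_neg_of_add_eq_zero_right hskew, neg_div_neg_eq])
  have hk0 : k ≠ 0 := fun h0 => by rw [h0, zero_mul] at hk; exact div_ne_zero hd0 hc0 hk.symm
  obtain ⟨u, hu, hue⟩ := K.move_iso (he l₀).1 (smul_ne_zero hk0 (he l₀).1) (he l₀).2
    (e' := k • e l₀) (by rw [ip_smul_left, ip_smul_right, (he l₀).2, mul_zero, mul_zero])
  set g := fac l₀ hu.gl
  refine ⟨g * x * g⁻¹, X.mul_mem (X.mul_mem (H.base l₀ u hu) hx) (X.inv_mem (H.base l₀ u hu)), ?_⟩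
  have hgv : (g : Matrix (Fin t → Fin m) (Fin t → Fin m) F) *ᵥ v = k • v := by
    rw [val_fac, hu.val_gl, emb_mulVec_pvec, hue, pvec_update_smul, Function.update_eq_self]
  have hgi : ((g⁻¹ : GL (Fin t → Fin m) F) : Matrix (Fin t → Fin m) (Fin t → Fin m) F) =
      adj σ (gramT G t) (gramT G t) (g : Matrix (Fin t → Fin m) (Fin t → Fin m) F) :=
    left_inv_eq_right_inv g.inv_mul (mul_eq_one_comm.1 (isIso_fac K.gram hu l₀))
  rw [Units.val_mul, Units.val_mul, ex, mul_add, mul_one, add_mul, Units.mul_inv, hgi, mul_smul_comm, smul_mul_assoc,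
    sqr, Matrix.mul_vecMulVec, Matrix.vecMulVec_mul, ← phi_mulVec hΓ, hgv]
  show 1 + c • sqr σ (gramT G t) (k • v) = _
  rw [sqr_smul, smul_smul, hk, mul_div_cancel₀ _ hc0]
  rfl

/-- One isotropic slot fewer. -/
theorem HasPattern.erase [Finite F] {A : Finset (Fin t)} (hA2 : 2 ≤ A.card) (h : HasPattern σ G X A) {p : Fin t}
    (hp : p ∈ A) : HasPattern σ G X (A.erase p) := by
  classical
  have hΓ := isGram_gramT K.gram t
  obtain ⟨e, he0, he⟩ := K.exists_isotropic
  obtain ⟨f, hef, hfe, hff, hf0⟩ := K.exists_partner he0 he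
  obtain ⟨z, hez, hfz, hzz⟩ := K.exists_norm_perp_pair he hef (μ := -1) (by rw [map_neg, map_one])
  have hze := K.gram.ip_eq_zero_symm hez
  have hzf := K.gram.ip_eq_zero_symm hfz
  obtain ⟨u, hu⟩ := K.exists_norm (map_one σ)
  obtain ⟨β, hβ⟩ := K.inv.exists_trace_eq (μ := 1) (map_one σ)
  obtain ⟨c, hc0, hc'⟩ := K.inv.exists_skew
  have hc : c + σ c = 0 := by rw [hc', add_neg_cancel]
  obtain ⟨γ, hγ⟩ := K.inv.exists_trace_eq (μ := (β + c) * σ (β + c)) (K.inv.norm_mem _)
  set b := e + β • f + z
  set b' := e - b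
  set d := e + γ • f + σ (β + c) • z
  set f' := f + c • d
  have hb : ip σ G b b = 0 := by
    simp only [b, ip_add_left, ip_add_right, ip_smul_left, ip_smul_right, he, hff, hef, hfe, hez, hze, hfz, hzf, hzz]
    linear_combination hβ
  have hfb : ip σ G f b = 1 := by
    simp only [b, ip_add_right, ip_smul_right, hfe, hff, hfz, mul_zero, add_zero]
  have hb' : ip σ G b' b' = -1 := by
    simp only [b', b, ip_sub_left, ip_sub_right, ip_add_left, ip_add_right, ip_smul_left, ip_smul_right, he, hff, hef,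
      hfe, hez, hze, hfz, hzf, hzz]
    ring
  have hdd : ip σ G d d = 0 := by
    simp only [d, ip_add_left, ip_add_right, ip_smul_left, ip_smul_right, he, hff, hef, hfe, hez, hze, hfz, hzf, hzz,
      K.gram.invol]
    linear_combination hγ
  have hfd : ip σ G f d = 1 := by
    simp only [d, ip_add_right, ip_smul_right, hfe, hff, hfz, mul_zero, add_zero]
  have hdb' : ip σ G d b' = c := by
    simp only [d, b', b, ip_sub_right, ip_add_left, ip_add_right, ip_smul_left, ip_smul_right, he, hff, hef, hfe, hez,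
      hze, hfz, hzf, hzz, K.gram.invol]
    ring
  have hfb' : ip σ G f b' = 0 := by rw [ip_sub_right, hfe, hfb, sub_self]
  have hf'b' : ip σ G f' b' = σ c * c := by
    rw [ip_add_left, ip_smul_left, hfb', hdb', zero_add]
  have hf'f' : ip σ G f' f' = 0 := by
    simp only [f', ip_add_left, ip_add_right, ip_smul_left, ip_smul_right, hff, hdd, hfd,
      show ip σ G d f = 1 by rw [← K.gram.ip_symm, hfd, map_one]]
    linear_combination hc
  have hscc : σ c * c ≠ 0 := mul_ne_zero ((map_ne_zero σ).2 hc0) hc0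
  have hf'0 : f' ≠ 0 := fun h0 => hscc (by rw [← hf'b', h0, ip_zero_left])
  have hb0 : b ≠ 0 := fun h0 => zero_ne_one (show (0 : F) = 1 by rw [← hfb, h0, ip_zero_right])
  have hd0 : d ≠ 0 := fun h0 => zero_ne_one (show (0 : F) = 1 by rw [← hfd, h0, ip_zero_right])
  -- the vectors
  set base : (Fin m → F) → Fin t → Fin m → F := fun o l => if l ∈ A then o else u
  let V : (Fin m → F) → (Fin m → F) → (Fin t → Fin m) → F := fun a o => pvec (Function.update (base o) p a)
  have hV : ∀ a o, a ≠ 0 → ip σ G a a = 0 → o ≠ 0 → ip σ G o o = 0 → HasTv σ (gramT G t) X (V a o) := by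
    intro a o ha haa ho hoo
    refine h _ (fun l hl => ?_) (fun l hl => ?_)
    · by_cases hlp : l = p
      · subst hlp; simpa using ⟨ha, haa⟩
      · simpa [base, Function.update_of_ne hlp, hl] using ⟨ho, hoo⟩
    · have hlp : l ≠ p := fun h => hl (h ▸ hp)
      simp [base, Function.update_of_ne hlp, hl, hu]
  have hn : (A.erase p).Nonempty := Finset.card_pos.1 (by rw [Finset.card_erase_of_mem hp]; omega)
  have hip : ∀ a a' o o', ip σ (gramT G t) (V a o) (V a' o') =
      ip σ G a a' * (ip σ G o o') ^ (A.erase p).card := by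
    intro a a' o o'
    rw [ip_pvec, ← Finset.mul_prod_erase _ _ (Finset.mem_univ p), Function.update_self, Function.update_self]
    congr 1
    rw [← Finset.prod_const, ← Finset.prod_subset (Finset.erase_subset_erase p (Finset.subset_univ A))
      (fun l hl hlA => ?_)]
    · refine Finset.prod_congr rfl fun l hl => ?_
      simp [base, Function.update_of_ne (Finset.ne_of_mem_erase hl), Finset.mem_of_mem_erase hl]
    · have hlp := Finset.ne_of_mem_erase hl
      have hlA' : l ∉ A := fun h => hlA (Finset.mem_erase.2 ⟨hlp, h⟩)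
      simp [base, Function.update_of_ne hlp, hlA', hu]
  have hzero : (0 : F) ^ (A.erase p).card = 0 := zero_pow (Finset.card_pos.2 hn).ne'
  have hadd : ∀ a a' o, V a o + V a' o = V (a + a') o := fun a a' o => (pvec_update_add _ _ _ _).symm
  have hsm : ∀ (k : F) a o, k • V a o = V (k • a) o := fun k a o => (pvec_update_smul _ _ _ _).symm
  -- the four moves
  have z1 : HasTv σ (gramT G t) X (V f f + c • V e e) := by
    have := (hV e e he0 he he0 he).add hΓ (by rw [hip, he, zero_mul]) (hV f f hf0 hff hf0 hff) hc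
    rwa [hip, hef, one_pow, mul_one, mul_one] at this
  have z2 : HasTv σ (gramT G t) X (V f f + c • V b' e) := by
    have := (hV b e hb0 hb he0 he).add hΓ (by rw [hip, hb, zero_mul]) z1 (c := -c)
      (by rw [map_neg, ← neg_add, hc, neg_zero])
    rw [ip_add_right, ip_smul_right, hip, hip, hef, he, hzero, one_pow, mul_one, mul_zero, mul_zero, add_zero,
      show ip σ G b f = 1 by rw [← K.gram.ip_symm, hfb, map_one], mul_one, add_assoc, neg_smul, ← smul_neg,
      ← smul_add] at this
    rw [show -V b e = V (-b) e by rw [← neg_one_smul F (V b e), hsm, neg_one_smul], hadd, ← sub_eq_add_neg] at this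
    exact this
  have z3 : HasTv σ (gramT G t) X (V f' f + c • V b' e) := by
    have := (hV d f hd0 hdd hf0 hff).add hΓ (by rw [hip, hdd, zero_mul]) z2 (c := c⁻¹)
      (by rw [map_inv₀, hc', inv_neg, add_neg_cancel])
    rw [ip_add_right, ip_smul_right, hip, hip, hff, hfe, hzero, one_pow, mul_zero, zero_add, mul_one, hdb',
      inv_mul_cancel_left₀ hc0, hsm c d, add_right_comm, hadd] at this
    exact this
  have z4 : HasTv σ (gramT G t) X (c • V b' e) := by
    have hcc : -(c * (σ c * c))⁻¹ + σ (-(c * (σ c * c))⁻¹) = 0 := by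
      rw [map_neg, map_inv₀, map_mul, map_mul, K.gram.invol, mul_comm c (σ c), hc', neg_mul, neg_mul,
        show -(c * c) = -(c * c) from rfl]
      field_simp
      ring
    have := (hV f' f hf'0 hf'f' hf0 hff).add hΓ (by rw [hip, hf'f', zero_mul]) z3 hcc
    rw [ip_add_right, ip_smul_right, hip, hip, hff, hfe, hzero, one_pow, mul_zero, zero_add, mul_one, hf'b',
      neg_mul, inv_mul_cancel₀ (mul_ne_zero hc0 hscc), neg_one_smul, add_right_comm, add_neg_cancel, zero_add] at this
    exact this
  refine hasPattern_of_one H K (ξ := Function.update (base e) p b') (fun l hl => ?_) (fun l hl => ?_)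
    (z4.of_smul hΓ hc0)
  · simpa [base, Function.update_of_ne (Finset.ne_of_mem_erase hl), Finset.mem_of_mem_erase hl] using ⟨he0, he⟩
  · by_cases hlp : l = p
    · subst hlp; simp [hb']
    · have hlA : l ∉ A := fun h => hl (Finset.mem_erase.2 ⟨hlp, h⟩)
      simp [base, Function.update_of_ne hlp, hlA, hu]

/-- Every pattern with an isotropic slot occurs. -/
theorem hasPattern_all [Finite F] (ht : 1 ≤ t) (h : HasMono σ G X Finset.univ) {A : Finset (Fin t)}
    (hA : A.Nonempty) : HasPattern σ G X A := by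
  classical
  suffices key : ∀ n, ∀ A : Finset (Fin t), A.Nonempty → t ≤ A.card + n → HasPattern σ G X A from
    key t A hA (by omega)
  intro n
  induction n with
  | zero =>
    intro A _ hn
    rw [Finset.eq_univ_of_card A (by
      have := A.card_le_univ; rw [Fintype.card_fin] at this ⊢; omega)]
    exact hasPattern_univ H K ht h
  | succ n ih =>
    intro A hA hn
    by_cases hu : A = Finset.univ
    · rw [hu]; exact hasPattern_univ H K ht h
    obtain ⟨b, hb⟩ : ∃ b, b ∉ A := by
      by_contra! h'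
      exact hu (Finset.eq_univ_of_forall h')
    have hcard : (insert b A).card = A.card + 1 := Finset.card_insert_of_notMem hb
    have h1 := (ih (insert b A) (Finset.insert_nonempty b A) (by omega)).erase H K
      (by have := hA.card_pos; omega) (Finset.mem_insert_self b A)
    rwa [Finset.erase_insert hb] at h1

end CfsgLib.Geo.UnitWreath
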