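/-
All the isotropic vectors of the tensor power carry transvections.
-/
import Cfsg.Agent.Lib.Geo.UnitWreath.Gen

set_option autoImplicit false
set_option linter.unusedSectionVars false

namespace CfsgLib.Geo.UnitWreath

open Matrix CfsgLib.Geo.SpinTensor CfsgLib.Geo.TensorWreath
open scoped Kronecker

variable {F : Type*} [Field F] {σ : F →+* F} {m : ℕ} {G : Matrix (Fin m) (Fin m) F}

/-- The squares span all the matrices. -/
theorem mem_of_sqr_mem (K : Space σ G) {S : Submodule F (Matrix (Fin m) (Fin m) F)}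
    (h : ∀ x, sqr σ G x ∈ S) (M : Matrix (Fin m) (Fin m) F) : M ∈ S := by
  obtain ⟨w, hw⟩ := K.inv.exists_ne
  have h2 : ∀ a b, vecMulVec a (phi σ G b) ∈ S := by
    intro a b
    set U := vecMulVec a (phi σ G b)
    set W := vecMulVec b (phi σ G a)
    have e1 : U + W ∈ S := by
      have : U + W = sqr σ G (a + b) - sqr σ G a - sqr σ G b := by rw [sqr_add]; abel
      rw [this]
      exact S.sub_mem (S.sub_mem (h _) (h _)) (h _)
    have e2 : σ w • U + w • W ∈ S := by
      have : σ w • U + w • W = sqr σ G (a + w • b) - sqr σ G a - (w * σ w) • sqr σ G b := by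
        rw [sqr_add, sqr_smul, phi_smul, Matrix.smul_vecMulVec, Matrix.vecMulVec_smul]; abel
      rw [this]
      exact S.sub_mem (S.sub_mem (h _) (h _)) (S.smul_mem _ (h _))
    have e3 : U = (w - σ w)⁻¹ • (w • (U + W) - (σ w • U + w • W)) := by
      rw [eq_inv_smul_iff₀ (sub_ne_zero.2 (Ne.symm hw))]; module
    rw [e3]
    exact S.smul_mem _ (S.sub_mem (S.smul_mem _ e1) e2)
  rw [Matrix.matrix_eq_sum_single M]
  refine S.sum_mem fun a _ => S.sum_mem fun b _ => ?_
  obtain ⟨y, hy⟩ := K.gram.exists_phi (Pi.single b (M a b))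
  have h3 := h2 (Pi.single a 1) y
  rw [hy] at h3
  convert h3 using 1
  ext p q
  rw [Matrix.vecMulVec_apply, Matrix.single_apply, Pi.single_apply, Pi.single_apply]
  by_cases h1 : p = a
  · by_cases h2 : q = b
    · rw [if_pos h1, if_pos h2, if_pos ⟨h1.symm, h2.symm⟩, one_mul]
    · rw [if_neg h2, if_neg fun h => h2 h.2.symm, mul_zero]
  · rw [if_neg h1, if_neg fun h => h1 h.1.symm, zero_mul]

/-- The squares of pure vectors span all the matrices of the tensor power. -/
theorem mem_of_pure_sqr_mem (K : Space σ G) {t : ℕ} {S : Submodule F (Matrix (Fin t → Fin m) (Fin t → Fin m) F)}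
    (h : ∀ ξ : Fin t → Fin m → F, SpinTensor.pure (fun l => sqr σ G (ξ l)) ∈ S)
    (M : Matrix (Fin t → Fin m) (Fin t → Fin m) F) : M ∈ S := by
  classical
  have key : ∀ s : Finset (Fin t), ∀ g : Fin t → Matrix (Fin m) (Fin m) F,
      (∀ l ∉ s, ∃ x, g l = sqr σ G x) → SpinTensor.pure g ∈ S := by
    intro s
    induction s using Finset.induction with
    | empty =>
      intro g hg
      choose ξ hξ using fun l => hg l (Finset.notMem_empty l)
      rw [show g = fun l => sqr σ G (ξ l) from funext hξ]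
      exact h ξ
    | @insert a s ha ih =>
      intro g hg
      let f : Matrix (Fin m) (Fin m) F →ₗ[F] Matrix (Fin t → Fin m) (Fin t → Fin m) F :=
        (LinearMap.mulLeft F (SpinTensor.pure (Function.update g a 1))) ∘ₗ SpinTensor.emb a
      have hf : ∀ A, f A = SpinTensor.pure (Function.update g a A) := fun A => (pure_update a A g).symm
      have h1 := mem_of_sqr_mem K (S := S.comap f) (fun x => by
        rw [Submodule.mem_comap, hf]
        refine ih _ fun l hl => ?_
        by_cases hla : l = a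
        · subst hla; exact ⟨x, Function.update_self _ _ _⟩
        · rw [Function.update_of_ne hla]
          exact hg l (by simp [hla, hl])) (g a)
      rwa [Submodule.mem_comap, hf, Function.update_eq_self] at h1
  rw [Matrix.matrix_eq_sum_single M]
  refine S.sum_mem fun a _ => S.sum_mem fun b _ => ?_
  have h1 : Matrix.single a b (M a b) = M a b • SpinTensor.pure fun l => Matrix.single (a l) (b l) (1 : F) := by
    ext x y
    simp only [pure_apply, Matrix.single_apply, Matrix.smul_apply, smul_eq_mul]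
    by_cases hxy : a = x ∧ b = y
    · rw [if_pos hxy, Finset.prod_eq_one, mul_one]
      intro l _
      rw [if_pos ⟨congrFun hxy.1 l, congrFun hxy.2 l⟩]
    · rw [if_neg hxy]
      obtain ⟨l, hl⟩ : ∃ l, ¬(a l = x l ∧ b l = y l) := by
        by_contra! hc
        exact hxy ⟨funext fun l => (hc l).1, funext fun l => (hc l).2⟩
      rw [Finset.prod_eq_zero (Finset.mem_univ l) (if_neg hl), mul_zero]
  rw [h1]
  exact S.smul_mem _ (key Finset.univ _ fun l hl => absurd (Finset.mem_univ l) hl)

variable {t : ℕ} {X : Subgroup (GL (Fin (t + 1) → Fin m) F)} (H : Hyp σ G X) (K : Space σ G)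
include H K

/-- All the roots at the isotropic vectors of a slot. -/
theorem hasRoots_of_mono [Finite F] (h : HasMono σ G X Finset.univ) (i : Fin (t + 1)) :
    HasRoots σ (gramT G t) G (X.map (spGL i).toMonoidHom) := by
  classical
  intro e he0 he
  have hA := isGram_gramT K.gram t
  have hEE : sqr σ G e * sqr σ G e = 0 := by rw [sqr_mul_self, he, zero_smul]
  let R : AddSubgroup (Matrix (Fin t → Fin m) (Fin t → Fin m) F) :=
    { carrier := {θ | ∃ g ∈ X.map (spGL i).toMonoidHom,
        (g : Matrix ((Fin t → Fin m) × Fin m) ((Fin t → Fin m) × Fin m) F) = 1 + θ ⊗ₖ sqr σ G e}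
      zero_mem' := ⟨1, one_mem _, by simp⟩
      add_mem' := fun {a b} => by
        rintro ⟨x, hx, ex⟩ ⟨y, hy, ey⟩
        refine ⟨x * y, mul_mem hx hy, ?_⟩
        rw [Units.val_mul, ex, ey, mul_add, mul_one, add_mul, one_mul, ← Matrix.mul_kronecker_mul, hEE,
          Matrix.kronecker_zero, add_zero, Matrix.add_kronecker, add_assoc]
      neg_mem' := fun {a} => by
        rintro ⟨x, hx, ex⟩
        refine ⟨x⁻¹, inv_mem hx, ?_⟩
        rw [val_inv_one_add ex (by rw [← Matrix.mul_kronecker_mul, hEE, Matrix.kronecker_zero]),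
          show (-a) ⊗ₖ sqr σ G e = -(a ⊗ₖ sqr σ G e) by ext p q; simp, ← sub_eq_add_neg] }
  let S : Submodule F (Matrix (Fin t → Fin m) (Fin t → Fin m) F) :=
    { carrier := {θ | ∀ b : F, b • θ - σ b • adj σ (gramT G t) (gramT G t) θ ∈ R}
      zero_mem' := fun b => by rw [adj_zero, smul_zero, smul_zero, sub_zero]; exact R.zero_mem
      add_mem' := fun {x y} hx hy b => by
        rw [adj_add, smul_add, smul_add, add_sub_add_comm]; exact R.add_mem (hx b) (hy b)
      smul_mem' := fun c x hx b => by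
        rw [adj_smul, smul_smul, smul_smul, ← map_mul]
        exact hx (b * c) }
  intro M hM
  have hS : M ∈ S := by
    refine mem_of_pure_sqr_mem K (fun ξ b => ?_) M
    rw [← sqr_pvec (G := G) ξ, adj_sqr hA, ← sub_smul]
    by_cases hξ : ∃ l, ξ l = 0
    · obtain ⟨l, hl⟩ := hξ
      rw [pvec_eq_zero hl, sqr, Matrix.zero_vecMulVec, smul_zero]
      exact R.zero_mem
    push Not at hξ
    set η : Fin (t + 1) → Fin m → F := i.insertNth e ξ
    set A := Finset.univ.filter fun l => ip σ G (η l) (η l) = 0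
    have hiA : i ∈ A := by simp [A, η, he]
    have hP := hasPattern_all H K (by omega) h ⟨i, hiA⟩
    have hη : ∀ l, η l ≠ 0 := fun l => by
      rcases Fin.eq_self_or_eq_succAbove i l with rfl | ⟨j, rfl⟩
      · simpa [η] using he0
      · simpa [η] using hξ j
    obtain ⟨g, hg, eg⟩ := hP η (fun l hl => ⟨hη l, by simpa [A] using hl⟩) (fun l hl => by simpa [A] using hl)
      (b - σ b) (by rw [map_sub, K.gram.invol]; ring)
    refine ⟨spGL i g, Subgroup.mem_map_of_mem _ hg, ?_⟩
    rw [spGL_val, eg, sub_one_add, sqr_pvec, sub_pure, Matrix.smul_kronecker]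
    congr 2
    congr 1
    · rw [sqr_pvec]
      congr 1
      funext j
      simp [η]
    · simp [η]
  obtain ⟨b, hb⟩ := K.inv.exists_trace_eq (μ := 1) (map_one σ)
  have h1 := hS b
  rwa [hM, smul_neg, sub_neg_eq_add, ← add_smul, hb, one_smul] at h1

theorem sub_gramT (i : Fin (t + 1)) :
    (gramT G (t + 1)).submatrix (sp i) (sp i) = gramT G t ⊗ₖ G := sub_pure i _

/-- Every isotropic vector carries all the transvections. -/
theorem hasTv_of_not_std [Finite F] (ht : 1 ≤ t) {y : GL (Fin (t + 1) → Fin m) F} (hy : y ∈ X) (hys : ¬ IsStd y)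
    {x : (Fin (t + 1) → Fin m) → F} (hx : ip σ (gramT G (t + 1)) x x = 0) :
    HasTv σ (gramT G (t + 1)) X x := by
  classical
  have hmono := hasMono_univ H K (by omega) hy hys
  set i : Fin (t + 1) := 0
  have hphi : phi σ (gramT G t ⊗ₖ G) (x ∘ sp i) = phi σ (gramT G (t + 1)) x ∘ sp i := by
    rw [phi, ← sub_gramT H K i, phi, Matrix.submatrix_vecMul_equiv]
    congr 2
    funext c; simp
  have hip : ip σ (gramT G t ⊗ₖ G) (x ∘ sp i) (x ∘ sp i) = 0 := by
    rw [ip, hphi, comp_equiv_dotProduct_comp_equiv]; exact hx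
  have h3 : 3 ≤ Fintype.card (Fin t → Fin m) := by
    rw [Fintype.card_fun, Fintype.card_fin, Fintype.card_fin]
    calc 3 ≤ m ^ 1 := by rw [pow_one]; exact K.three'
      _ ≤ m ^ t := Nat.pow_le_pow_right (by have := K.three'; omega) ht
  intro c hc
  obtain ⟨g', hg', eg⟩ :=
    hasTv_of_roots (isGram_gramT K.gram t) K (hasRoots_of_mono H K hmono i) h3 hip c hc
  obtain ⟨g, hg, rfl⟩ := hg'
  refine ⟨g, hg, eq_of_spGL (i := i) ?_⟩
  rw [sub_one_add]
  refine eg.trans ?_
  congr 2
  rw [sqr, hphi]
  rfl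

end CfsgLib.Geo.UnitWreath
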