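/-
The stabiliser of a tensor power of a unitary form is maximal in the special unitary group.
-/
import Cfsg.Agent.Lib.Geo.UnitWreath.All
import Cfsg.Agent.Lib.Geo.TensorWreath.Main
import Cfsg.Agent.Lib.Classical.Unitary.Matrix
import Cfsg.Prelude.Def_GeometricClasses
import Cfsg.Prelude.Def_LieClassical

set_option autoImplicit false
set_option linter.unusedSectionVars false

namespace CfsgLib.Geo.UnitWreath

open Matrix CfsgLib.Geo.SpinTensor CfsgLib.Geo.TensorWreath CfsgLib.Classical CfsgLib.Classical.Herm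
open scoped Kronecker

variable {F : Type*} [Field F] {σ : F →+* F} {m : ℕ} {G : Matrix (Fin m) (Fin m) F}

theorem space_gramT (K : Space σ G) {t : ℕ} (ht : 2 ≤ t) : Space σ (gramT G t) := by
  have h9 : 9 ≤ Fintype.card (Fin t → Fin m) := by
    rw [Fintype.card_fun, Fintype.card_fin, Fintype.card_fin]
    calc 9 = 3 ^ 2 := by norm_num
      _ ≤ m ^ 2 := Nat.pow_le_pow_left K.three' 2
      _ ≤ m ^ t := Nat.pow_le_pow_right (by have := K.three'; omega) ht
  exact ⟨K.inv, isGram_gramT K.gram t, by omega, fun _ => by omega⟩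

/-- The transvections generate the special isometries. -/
theorem mem_of_hasTv [Finite F] {ι : Type} [Fintype ι] [DecidableEq ι] {Γ : Matrix ι ι F} (K : Space σ Γ)
    (h4 : 4 ≤ Fintype.card ι) {Y : Subgroup (GL ι F)} (hY : ∀ v, ip σ Γ v v = 0 → HasTv σ Γ Y v) {x : GL ι F}
    (hi : IsIso σ Γ (x : Matrix ι ι F)) (hd : (x : Matrix ι ι F).det = 1) : x ∈ Y := by
  obtain ⟨φ, hφ⟩ := K.exists_su_hom
  set g : HU (bil σ Γ) := K.herm.ofPreserves (Matrix.toLin' (x : Matrix ι ι F)) fun y z => by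
    rw [Matrix.toLin'_apply, Matrix.toLin'_apply, bil_apply, ip_mulVec_left K.gram, Matrix.mulVec_mulVec, hi,
      Matrix.one_mulVec]
    rfl
  have hg : g ∈ K.herm.trGroup := by
    rw [K.herm.trGroup_eq (by rw [Module.finrank_fintype_fun_eq_card]; omega)
      (fun h3 => by rw [Module.finrank_fintype_fun_eq_card] at h3; omega)]
    refine MonoidHom.mem_ker.2 (Units.ext ?_)
    rw [HU.det, MonoidHom.comp_apply, LinearEquiv.coe_det]
    show LinearMap.det ((g : (ι → F) ≃ₗ[F] (ι → F)) : (ι → F) →ₗ[F] (ι → F)) = 1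
    rw [IsHerm.coe_ofPreserves, LinearMap.det_toLin', hd]
  have hle : K.herm.trGroup ≤ Y.comap φ := by
    refine (Subgroup.closure_le _).2 ?_
    rintro _ ⟨u, hu, c, hc, rfl⟩
    obtain ⟨y, hy, ey⟩ := hY u hu c hc
    show φ (K.herm.tr hu hc) ∈ Y
    rw [show φ (K.herm.tr hu hc) = y from Units.ext (ext_mulVec fun z => by
      rw [hφ, ey, K.herm.tr_apply, Matrix.add_mulVec, Matrix.one_mulVec, Matrix.smul_mulVec, sqr_mulVec, smul_smul]
      rfl)]
    exact hy
  have h1 : φ g ∈ Y := hle hg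
  rwa [show φ g = x from Units.ext (ext_mulVec fun z => by
    rw [hφ]; exact K.herm.ofPreserves_apply _ _ z)] at h1

/-- A transvection which is not standard. -/
theorem exists_not_std [Finite F] (K : Space σ G) {t : ℕ} (ht : 2 ≤ t) :
    ∃ x : GL (Fin t → Fin m) F, IsIso σ (gramT G t) (x : Matrix (Fin t → Fin m) (Fin t → Fin m) F) ∧
      (x : Matrix (Fin t → Fin m) (Fin t → Fin m) F).det = 1 ∧ ¬ IsStd x := by
  classical
  have KT := space_gramT K ht
  obtain ⟨e, he0, he⟩ := K.exists_isotropic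
  obtain ⟨f, hef, hfe, hff, hf0⟩ := K.exists_partner he0 he
  obtain ⟨c, hc0, hc'⟩ := K.inv.exists_skew
  have hc : c + σ c = 0 := by rw [hc', add_neg_cancel]
  set l₀ : Fin t := ⟨0, by omega⟩
  set l₁ : Fin t := ⟨1, by omega⟩
  have hl : l₁ ≠ l₀ := by simp [l₀, l₁]
  have hzero : (0 : F) ^ t = 0 := zero_pow (by omega)
  set v : (Fin t → Fin m) → F := pvec fun _ => e
  have hvv : ip σ (gramT G t) v v = 0 := by rw [ip_pvec]; simp [he, hzero]
  have hT := KT.trv_su hvv hc
  refine ⟨Matrix.GeneralLinearGroup.mkOfDetNeZero (UnitWreath.trv σ (gramT G t) v c)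
    (by rw [hT.2]; exact one_ne_zero), hT.1, hT.2, ?_⟩
  rintro ⟨gs, π, eg⟩
  have h := isStd_mulVec eg fun _ => f
  set η : Fin t → Fin m → F := fun l => (gs l : Matrix (Fin m) (Fin m) F) *ᵥ f
  have h' : UnitWreath.trv σ (gramT G t) v c *ᵥ pvec (fun _ => f) = pvec η := h
  rw [UnitWreath.trv, Matrix.add_mulVec, Matrix.one_mulVec, Matrix.smul_mulVec, sqr_mulVec, smul_smul, ip_pvec] at h'
  simp only [hef, Finset.prod_const_one, mul_one] at h'
  have key : ∀ χ : Fin t → Fin m → F, ∏ l, ip σ G (χ l) (η l) =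
      (∏ l, ip σ G (χ l) f) + c * ∏ l, ip σ G (χ l) e := fun χ => by
    have h2 := congrArg (ip σ (gramT G t) (pvec χ)) h'
    simp only [v, ip_add_right, ip_smul_right, ip_pvec] at h2
    exact h2.symm
  have k1 := key fun _ => e
  have k2 := key fun _ => f
  have k3 := key (Function.update (fun _ => e) l₀ f)
  simp only [hef, he, hff, hfe, Finset.prod_const_one, Finset.prod_const, Finset.card_univ, Fintype.card_fin, hzero,
    mul_zero, add_zero, zero_add, mul_one, one_pow] at k1 k2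
  rw [Finset.prod_eq_zero (f := fun l => ip σ G (Function.update (fun _ => e) l₀ f l) f) (Finset.mem_univ l₀)
      (by simp [hff]), Finset.prod_eq_zero (f := fun l => ip σ G (Function.update (fun _ => e) l₀ f l) e)
      (Finset.mem_univ l₁) (by simp [Function.update_of_ne hl, he]), mul_zero, add_zero,
    Finset.prod_eq_zero_iff] at k3
  obtain ⟨l, -, hl3⟩ := k3
  by_cases hl0 : l = l₀
  · subst hl0
    rw [Function.update_self] at hl3
    rw [Finset.prod_eq_zero (Finset.mem_univ l₀) hl3] at k2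
    exact hc0 k2.symm
  · rw [Function.update_of_ne hl0] at hl3
    rw [Finset.prod_eq_zero (Finset.mem_univ l) hl3] at k1
    exact zero_ne_one k1

/-- A swap, corrected by a sign. -/
theorem exists_swap_sign (K : Space σ G) {t : ℕ} {i j : Fin (t + 1)} (h2 : 2 ≤ t) :
    ∃ g : GL (Fin (t + 1) → Fin m) F, HasPerm g (Equiv.swap i j) ∧
      IsIso σ (gramT G (t + 1)) (g : Matrix (Fin (t + 1) → Fin m) (Fin (t + 1) → Fin m) F) ∧
      (g : Matrix (Fin (t + 1) → Fin m) (Fin (t + 1) → Fin m) F).det = 1 := by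
  classical
  obtain ⟨l, -, hl⟩ := Finset.exists_mem_notMem_of_card_lt_card (s := ({i, j} : Finset (Fin (t + 1))))
    (t := Finset.univ) (lt_of_le_of_lt Finset.card_le_two (by rw [Finset.card_univ, Fintype.card_fin]; omega))
  simp only [Finset.mem_insert, Finset.mem_singleton, not_or] at hl
  obtain ⟨i', hi⟩ := Fin.exists_succAbove_eq (Ne.symm hl.1)
  obtain ⟨j', hj⟩ := Fin.exists_succAbove_eq (Ne.symm hl.2)
  set P : Matrix (Fin t → Fin m) (Fin t → Fin m) F := perm (Equiv.swap i' j')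
  have hsq : P.det * P.det = 1 := by
    rw [← Matrix.det_mul, perm_mul, Equiv.swap_mul_self, perm_one, Matrix.det_one]
  set p := permGL m F (Equiv.swap i j)
  have hp : (p : Matrix (Fin (t + 1) → Fin m) (Fin (t + 1) → Fin m) F).det = P.det ^ m := by
    rw [← det_spGL l]
    rw [show p = permGL m F (extPerm l (Equiv.swap i' j')) by rw [extPerm_swap, hi, hj]]
    rw [spGL_permGL, Matrix.det_kronecker, Matrix.det_one, one_pow, mul_one, Fintype.card_fin]
  set d := P.det ^ m
  have hd2 : d * d = 1 := by rw [← mul_pow, hsq, one_pow]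
  have hd0 : d ≠ 0 := fun h => zero_ne_one (α := F) (by rw [← hd2, h, mul_zero])
  set u : GL (Fin m) F := ⟨d • 1, d • 1, by rw [smul_mul_smul_comm, hd2, one_smul, mul_one],
    by rw [smul_mul_smul_comm, hd2, one_smul, mul_one]⟩
  have hσd : σ d = d := by
    rcases mul_self_eq_one_iff.1 hd2 with h | h <;> rw [h] <;> simp
  refine ⟨fac l u * p, ?_, ?_, ?_⟩
  · have := (hasPerm_fac l u).mul (hasPerm_permGL (F := F) (m := m) (Equiv.swap i j))
    rwa [one_mul] at this
  · rw [Units.val_mul]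
    refine IsIso.mul (isGram_gramT K.gram _) ?_ (sim_perm K.gram _)
    show adT σ G _ * _ = _
    rw [val_fac, adT_emb K.gram, emb_mul_emb]
    show SpinTensor.emb l (adj σ G G (d • 1) * (d • 1)) = 1
    rw [adj_smul, adj_one K.gram, hσd, smul_mul_smul_comm, hd2, one_smul, mul_one, emb_one]
  · rw [Units.val_mul, Matrix.det_mul, hp, val_fac]
    show (SpinTensor.emb l (d • (1 : Matrix (Fin m) (Fin m) F))).det * d = 1
    rw [map_smul, emb_one, Matrix.det_smul, Matrix.det_one, mul_one, Fintype.card_fun, Fintype.card_fin,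
      Fintype.card_fin]
    rcases Nat.even_or_odd m with ⟨r, hr⟩ | hodd
    · have hd1 : d = 1 := by
        show P.det ^ m = 1
        rw [show P.det ^ m = (P.det * P.det) ^ r by rw [← pow_two, ← pow_mul]; congr 1; omega, hsq, one_pow]
      rw [hd1, one_pow, one_mul]
    · obtain ⟨s, hs⟩ : Odd (m ^ (t + 1)) := hodd.pow
      rw [hs, pow_succ, pow_mul, pow_two, hd2, one_pow, one_mul, hd2]

open Cfsg.Geo in
theorem maximal [Fintype F] {n q k t : ℕ} (hF : Fintype.card F = q ^ 2) (hk : 3 ≤ k) (ht : 2 ≤ t)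
    (hex : ¬ (q = 2 ∧ k = 3)) (e : Fin n ≃ (Fin t → Fin k)) (P : Matrix.GeneralLinearGroup (Fin n) F)
    (f₁ : (Fin k → F) → (Fin k → F) → F) (hf₁ : IsUnitaryFormPow q f₁)
    (hT : IsTensorPowerFormStructure (fun x : F => x ^ q) (Cfsg.hermForm n F q) f₁ e P) :
    IsMaximalIn (Cfsg.GU n F q ⊓ specialLinear (Fin n) F)
      (tensorWreathSubgroup k t e P ⊓ (Cfsg.GU n F q ⊓ specialLinear (Fin n) F)) := by
  classical
  set σ' := powHom hF
  have hinv : IsInvol σ' := powHom_isInvol hF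
  have hsy : ∀ v w, f₁ v w = σ' (f₁ w v) := hf₁.herm
  set G : Matrix (Fin k) (Fin k) F := (gramMatrix f₁)ᵀ
  have hGab : ∀ a b, G a b = f₁ (Pi.single b 1) (Pi.single a 1) := fun a b => rfl
  have hgram : IsGram σ' G := by
    refine ⟨hinv.invol, Matrix.ext fun a b => ?_, ?_⟩
    · rw [Matrix.transpose_apply, Matrix.map_apply, hGab, hGab, ← hsy]
    · refine isUnit_iff_ne_zero.2 fun h0 => ?_
      obtain ⟨x, hx0, hx⟩ := Matrix.exists_mulVec_eq_zero_iff.2 h0
      have hxa : ∀ a, f₁ x (Pi.single a 1) = 0 := fun a => by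
        let L : (Fin k → F) →ₗ[F] F :=
          { toFun := fun y => f₁ y (Pi.single a 1)
            map_add' := fun y z => hf₁.add_left y z _
            map_smul' := fun s y => hf₁.smul_left s y _ }
        show L x = 0
        rw [LinearMap.pi_apply_eq_sum_univ L x]
        have h1 := congrFun hx a
        simp only [Matrix.mulVec, dotProduct, Pi.zero_apply, hGab] at h1
        refine Eq.trans (Finset.sum_congr rfl fun b _ => ?_) h1
        show x b * f₁ _ _ = _
        rw [mul_comm]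
        congr 2
        funext p
        simp [Pi.single_apply, eq_comm]
      have hall : ∀ y, f₁ x y = 0 := fun y => by
        let L : (Fin k → F) →ₗ[F] F :=
          { toFun := fun z => σ' (f₁ x z)
            map_add' := fun z z' => by rw [← hsy, ← hsy, ← hsy, hf₁.add_left]
            map_smul' := fun s z => by rw [← hsy, ← hsy, hf₁.smul_left]; rfl }
        have h2 : L y = 0 := by
          rw [LinearMap.pi_apply_eq_sum_univ L y]
          refine Finset.sum_eq_zero fun b _ => ?_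
          show y b * σ' (f₁ x _) = 0
          rw [show (fun j => if b = j then (1 : F) else 0) = Pi.single b 1 by
            funext p; simp [Pi.single_apply, eq_comm], hxa, map_zero, mul_zero]
        exact (map_eq_zero σ').1 h2
      exact (hf₁.nondegenerate x hx0).2.elim fun y hy => hy (hall y)
  have K : Space σ' G := ⟨hinv, hgram, by rw [Fintype.card_fin]; exact hk, fun h2 => by
    rw [card_fixed_powHom] at h2
    rw [Fintype.card_fin]
    by_contra h4
    exact hex ⟨h2, by omega⟩⟩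
  obtain ⟨c, hc0, hc⟩ := hT
  have hcH : ∀ u x : (Fin t → Fin k) → F, Cfsg.hermForm n F q ((P : Matrix (Fin n) (Fin n) F) *ᵥ (x ∘ e))
      ((P : Matrix (Fin n) (Fin n) F) *ᵥ (u ∘ e)) = c * ip σ' (gramT G t) u x := by
    intro u x
    rw [hc x u, ip, phi]
    congr 1
    simp only [dotProduct, Matrix.vecMul, Function.comp_apply, Finset.sum_mul]
    refine Finset.sum_congr rfl fun a _ => Finset.sum_congr rfl fun b _ => ?_
    simp only [gramT, pure_apply, G, Matrix.transpose_apply]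
    show x a * _ * σ' (u b) = _
    ring
  have hsurj : ∀ y : Fin n → F, ∃ x : (Fin t → Fin k) → F, (P : Matrix (Fin n) (Fin n) F) *ᵥ (x ∘ e) = y :=
    fun y => ⟨(((P⁻¹ : GL (Fin n) F) : Matrix (Fin n) (Fin n) F) *ᵥ y) ∘ e.symm, by
      rw [Function.comp_assoc, Equiv.symm_comp_self, Function.comp_id, Matrix.mulVec_mulVec, Units.mul_inv,
        Matrix.one_mulVec]⟩
  let Ψ : GL (Fin t → Fin k) F ≃* GL (Fin n) F := (glReindex e.symm).trans (MulAut.conj P)
  have hK : tensorWreathSubgroup k t e P = (tensorWreathStandard k t F).map Ψ.toMonoidHom := by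
    rw [tensorWreathSubgroup, Subgroup.map_map]
    rfl
  have hdet : ∀ x : GL (Fin t → Fin k) F, Ψ x ∈ specialLinear (Fin n) F ↔
      (x : Matrix (Fin t → Fin k) (Fin t → Fin k) F).det = 1 := by
    intro x
    have hr : Matrix.GeneralLinearGroup.det (glReindex e.symm x) = Matrix.GeneralLinearGroup.det x := by
      refine Units.ext ?_
      show ((Matrix.reindexAlgEquiv F F e.symm) (x : Matrix (Fin t → Fin k) (Fin t → Fin k) F)).det = _
      rw [Matrix.det_reindexAlgEquiv]
      rfl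
    show MulAut.conj P (glReindex e.symm x) ∈ _ ↔ _
    rw [specialLinear, MonoidHom.mem_ker, MulAut.conj_apply, map_mul, map_mul, hr, map_inv,
      mul_inv_cancel_comm, Units.ext_iff]
    rfl
  have hmemK : ∀ x, Ψ x ∈ tensorWreathSubgroup k t e P ↔ IsStd x := by
    intro x
    rw [hK, ← mem_std_iff]
    constructor
    · rintro ⟨y, hy, e'⟩
      rwa [← Ψ.injective e']
    · exact fun hx => ⟨x, hx, rfl⟩
  have hact : ∀ (x : GL (Fin t → Fin k) F) (y : (Fin t → Fin k) → F),
      ((Ψ x : GL (Fin n) F) : Matrix (Fin n) (Fin n) F) *ᵥ ((P : Matrix (Fin n) (Fin n) F) *ᵥ (y ∘ e)) =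
        (P : Matrix (Fin n) (Fin n) F) *ᵥ (((x : Matrix (Fin t → Fin k) (Fin t → Fin k) F) *ᵥ y) ∘ e) := by
    intro x y
    show ((P * glReindex e.symm x * P⁻¹ : GL (Fin n) F) : Matrix (Fin n) (Fin n) F) *ᵥ _ = _
    rw [Units.val_mul, Units.val_mul, Matrix.mulVec_mulVec, Matrix.mul_assoc, Units.inv_mul, Matrix.mul_one,
      ← Matrix.mulVec_mulVec]
    congr 1
    show (Matrix.reindex e.symm e.symm) (x : Matrix (Fin t → Fin k) (Fin t → Fin k) F) *ᵥ (y ∘ e) = _
    rw [Matrix.reindex_apply, Equiv.symm_symm, Matrix.submatrix_mulVec_equiv, Function.comp_assoc,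
      Equiv.self_comp_symm, Function.comp_id]
  have hΓ := isGram_gramT hgram t
  have hGU : ∀ x : GL (Fin t → Fin k) F, Ψ x ∈ Cfsg.GU n F q ↔
      IsIso σ' (gramT G t) (x : Matrix (Fin t → Fin k) (Fin t → Fin k) F) := by
    intro x
    refine ⟨fun hx => ?_, fun hx u v => ?_⟩
    · refine ext_mulVec fun z => hΓ.ip_ext fun y => ?_
      rw [← Matrix.mulVec_mulVec, ← ip_mulVec_left hΓ, Matrix.one_mulVec]
      refine mul_left_cancel₀ hc0 ?_
      rw [← hcH, ← hcH, ← hact, ← hact]
      exact hx _ _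
    · obtain ⟨z, rfl⟩ := hsurj u
      obtain ⟨y, rfl⟩ := hsurj v
      show Cfsg.hermForm n F q (((Ψ x : GL (Fin n) F) : Matrix (Fin n) (Fin n) F) *ᵥ _)
        (((Ψ x : GL (Fin n) F) : Matrix (Fin n) (Fin n) F) *ᵥ _) = _
      rw [hact, hact, hcH, hcH, ip_mulVec_left hΓ, Matrix.mulVec_mulVec, hx, Matrix.one_mulVec]
  refine ⟨lt_of_le_of_ne inf_le_right fun heq => ?_, fun M hHM hMK => ?_⟩
  · obtain ⟨x, hx, hxd, hxk⟩ := exists_not_std K ht
    exact hxk ((hmemK x).1 (heq.ge ⟨(hGU x).2 hx, (hdet x).2 hxd⟩).1)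
  obtain ⟨s, rfl⟩ : ∃ s, t = s + 1 := ⟨t - 1, by omega⟩
  have hmem : ∀ x : GL (Fin (s + 1) → Fin k) F, IsStd x →
      IsIso σ' (gramT G (s + 1)) (x : Matrix (Fin (s + 1) → Fin k) (Fin (s + 1) → Fin k) F) →
      (x : Matrix (Fin (s + 1) → Fin k) (Fin (s + 1) → Fin k) F).det = 1 → x ∈ M.comap Ψ.toMonoidHom :=
    fun x h1 h2 h3 => Subgroup.mem_comap.2 (hHM ⟨(hmemK x).2 h1, (hGU x).2 h2, (hdet x).2 h3⟩)
  have H : Hyp σ' G (M.comap Ψ.toMonoidHom) := by
    refine ⟨fun x hx => IsIso.sim ((hGU x).1 (hMK hx).1), fun i u hu => ?_, fun h3 π => ?_⟩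
    · refine hmem _ (isStd_pureGL _) (isIso_fac hgram hu i) ?_
      exact congrArg Units.val (MonoidHom.mem_ker.1 (det_pureGL_update i hu.gl hu.2))
    · induction π using Equiv.Perm.swap_induction_on with
      | one => exact ⟨1, Subgroup.one_mem _, hasPerm_one⟩
      | swap_mul π a b hab ih =>
        obtain ⟨g, hg, hgp⟩ := ih
        obtain ⟨w, hw1, hw2, hw3⟩ := exists_swap_sign K (i := a) (j := b) (show 2 ≤ s by omega)
        exact ⟨w * g, Subgroup.mul_mem _ (hmem w hw1.isStd hw2 hw3) hg, hw1.mul hgp⟩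
  by_cases hall : ∀ x ∈ M.comap Ψ.toMonoidHom, IsStd x
  · refine Or.inl (le_antisymm (le_inf (fun x hx => ?_) hMK) hHM)
    obtain ⟨x, rfl⟩ := Ψ.surjective x
    exact (hmemK x).2 (hall x hx)
  · push Not at hall
    obtain ⟨y, hy, hys⟩ := hall
    refine Or.inr (le_antisymm hMK fun x hx => ?_)
    obtain ⟨x, rfl⟩ := Ψ.surjective x
    have KT := space_gramT K ht
    refine mem_of_hasTv KT ?_ (fun v hv => hasTv_of_not_std H K (by omega) hy hys hv) ((hGU x).1 hx.1)
      ((hdet x).1 hx.2)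
    rw [Fintype.card_fun, Fintype.card_fin, Fintype.card_fin]
    calc 4 ≤ 3 ^ 2 := by norm_num
      _ ≤ k ^ 2 := Nat.pow_le_pow_left hk 2
      _ ≤ k ^ (s + 1) := Nat.pow_le_pow_right (by omega) ht

end CfsgLib.Geo.UnitWreath
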